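import Groth.Agent.Sga4A.IntLift
import Mathlib.AlgebraicGeometry.Morphisms.FlatMono
import Mathlib.AlgebraicGeometry.Morphisms.UniversallyClosed
import Mathlib.RingTheory.Unramified.LocalStructure

/-!
# Extending étale sections from a fibre of an integral morphism
-/

set_option autoImplicit false

universe u

open CategoryTheory CategoryTheory.Limits AlgebraicGeometry

namespace Groth.Agent.Sga4A.IntLift

section LemmaE

variable {Z Y V U : Scheme.{u}} (w : Z ⟶ Y) (i : V ⟶ Z) [IsOpenImmersion i]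

/-- A criterion for `w` to be an isomorphism over an open `O`: the part of the source over `O` lies in an open
`V` on which `w` is étale, `w` is surjective over `O`, and the part of `Z ×_Y Z` over `O` is in the image of the
diagonal. -/
lemma isIso_morphismRestrict [QuasiCompact w] [Etale (i ≫ w)] (O : Y.Opens)
    (h₁ : ∀ z : Z, w z ∈ O → z ∈ Set.range i)
    (h₂ : ∀ p : ↥(pullback w w), w (pullback.fst w w p) ∈ O → p ∈ Set.range (i ≫ pullback.diagonal w))
    (h₃ : ∀ y ∈ O, ∃ z : Z, w z = y) : IsIso (w ∣_ O) := by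
  have hr : Set.range (w ⁻¹ᵁ O).ι ⊆ Set.range i := by
    rintro _ ⟨z, rfl⟩
    exact h₁ _ z.2
  have : Etale ((w ∣_ O) ≫ O.ι) := by
    rw [morphismRestrict_ι, ← IsOpenImmersion.lift_fac i (w ⁻¹ᵁ O).ι hr, Category.assoc]
    infer_instance
  have : Etale (w ∣_ O) := Etale.of_comp _ O.ι
  have : Mono (w ∣_ O) := by
    rw [← pullback.isIso_diagonal_iff]
    have : Surjective (pullback.diagonal (w ∣_ O)) := by
      constructor
      intro p
      let m : pullback (w ∣_ O) (w ∣_ O) ⟶ pullback w w :=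
        pullback.map _ _ _ _ (w ⁻¹ᵁ O).ι (w ⁻¹ᵁ O).ι O.ι (morphismRestrict_ι w O) (morphismRestrict_ι w O)
      have hm₁ : m ≫ pullback.fst w w = pullback.fst _ _ ≫ (w ⁻¹ᵁ O).ι := pullback.lift_fst _ _ _
      have hm : m ≫ pullback.fst w w ≫ w = pullback.fst _ _ ≫ (w ∣_ O) ≫ O.ι := by
        rw [← Category.assoc, hm₁, Category.assoc, morphismRestrict_ι]
      obtain ⟨v, hv⟩ := h₂ (m p) (by
        rw [← Scheme.Hom.comp_apply, ← Scheme.Hom.comp_apply, hm, ← Category.assoc,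
          Scheme.Hom.comp_apply]
        exact Subtype.property _)
      have hz : w (i v) ∈ O := by
        have h : (i ≫ pullback.diagonal w) ≫ pullback.fst w w = i := by simp
        have h' : i v = pullback.fst w w (m p) := by
          rw [← hv, ← Scheme.Hom.comp_apply, h]
        rw [h', ← Scheme.Hom.comp_apply, ← Scheme.Hom.comp_apply, hm, ← Category.assoc,
          Scheme.Hom.comp_apply]
        exact Subtype.property _
      let z : ↥((w ⁻¹ᵁ O).toScheme) := ⟨i v, hz⟩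
      refine ⟨z, ?_⟩
      have hinj : Function.Injective m := m.isOpenEmbedding.injective
      apply hinj
      rw [← hv, ← Scheme.Hom.comp_apply]
      have h : pullback.diagonal (w ∣_ O) ≫ m = (w ⁻¹ᵁ O).ι ≫ pullback.diagonal w := by
        have hm₂ : m ≫ pullback.snd w w = pullback.snd _ _ ≫ (w ⁻¹ᵁ O).ι := pullback.lift_snd _ _ _
        ext1
        · rw [Category.assoc, hm₁, pullback.diagonal_fst_assoc, Category.assoc, pullback.diagonal_fst,
            Category.comp_id]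
        · rw [Category.assoc, hm₂, pullback.diagonal_snd_assoc, Category.assoc, pullback.diagonal_snd,
            Category.comp_id]
      rw [h, Scheme.Hom.comp_apply, Scheme.Hom.comp_apply]
      rfl
    exact (isIso_iff_isOpenImmersion_and_surjective _).2 ⟨inferInstance, inferInstance⟩
  have : Surjective (w ∣_ O) := by
    constructor
    rintro ⟨y, hy⟩
    obtain ⟨z, rfl⟩ := h₃ y hy
    let z' : ↥((w ⁻¹ᵁ O).toScheme) := ⟨z, hy⟩
    refine ⟨z', ?_⟩
    apply Subtype.ext
    exact morphismRestrict_base_coe w O z'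
  exact Flat.isIso_of_surjective_of_mono _

lemma comp_default {X : Scheme.{u}} {K L : Type u} [Field K] [Field L] (k : Spec (.of L) ⟶ Spec (.of K))
    (x : Spec (.of K) ⟶ X) : (k ≫ x) default = x default := by
  rw [Scheme.Hom.comp_apply, Subsingleton.elim (k default) default]

/-- Every point of a fibre product `Q` over `U` lying over the image of `x' : Spec K ⟶ U` is the image of a point of `Q`
with values in a field extension of `K`. -/
lemma exists_field_point {Q : Scheme.{u}} (g : Q ⟶ U) {K : Type u} [Field K] (x' : Spec (.of K) ⟶ U) (q : Q)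
    (hq : g q = x' default) :
    ∃ (L : Type u) (_ : Field L) (k : Spec (.of L) ⟶ Spec (.of K)) (t : Spec (.of L) ⟶ Q),
      t ≫ g = k ≫ x' ∧ t default = q := by
  obtain ⟨r, hr₁, hr₂⟩ := Scheme.Pullback.exists_preimage_pullback (f := x') (g := g) default q hq.symm
  let P := pullback x' g
  refine ⟨P.residueField r, inferInstance, P.fromSpecResidueField r ≫ pullback.fst x' g,
    P.fromSpecResidueField r ≫ pullback.snd x' g, ?_, ?_⟩
  · rw [Category.assoc, Category.assoc, pullback.condition]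
  · rw [Scheme.Hom.comp_apply, Scheme.fromSpecResidueField_apply, hr₂]

/-- Let `w : Z ⟶ Y` and `q : Y ⟶ U` be universally closed, étale on an open `V` of `Z` containing the fibre over
the image `u` of `x' : Spec K ⟶ U`, and inducing a bijection on field-valued points of the fibres over `x'`. Then `w` is
an isomorphism over the preimage in `Y` of an open neighbourhood of `u`. -/
lemma exists_isIso_morphismRestrict [QuasiCompact w] [UniversallyClosed w] (q : Y ⟶ U) [UniversallyClosed q]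
    [Etale (i ≫ w)] {K : Type u} [Field K] (x' : Spec (.of K) ⟶ U)
    (ha : ∀ z : Z, q (w z) = x' default → z ∈ Set.range i)
    (hb : ∀ (L : Type u) [Field L] (k : Spec (.of L) ⟶ Spec (.of K)) (z₁ z₂ : Spec (.of L) ⟶ Z),
      z₁ ≫ w = z₂ ≫ w → z₁ ≫ w ≫ q = k ≫ x' → z₁ = z₂)
    (hc : ∀ (L : Type u) [Field L] (k : Spec (.of L) ⟶ Spec (.of K)) (y : Spec (.of L) ⟶ Y),
      y ≫ q = k ≫ x' → ∃ z : Spec (.of L) ⟶ Z, z ≫ w = y) :
    ∃ U' : U.Opens, x' default ∈ U' ∧ IsIso (w ∣_ (q ⁻¹ᵁ U')) ∧ ∀ z : Z, q (w z) ∈ U' → z ∈ Set.range i := by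
  -- the closed subsets of `Y` to avoid
  let T₁ : Set Y := (pullback.fst w w ≫ w) '' (Set.range (i ≫ pullback.diagonal w))ᶜ
  let T₂ : Set Y := w '' (Set.range i)ᶜ
  let T₃ : Set Y := (Set.range (i ≫ w))ᶜ
  have hop : IsOpenImmersion (i ≫ pullback.diagonal w) := by
    have h : i ≫ pullback.diagonal w = pullback.diagonal (i ≫ w) ≫
        pullback.map (i ≫ w) (i ≫ w) w w i i (𝟙 Y) (by simp) (by simp) := by
      ext1
      · rw [Category.assoc, pullback.diagonal_fst, Category.comp_id, Category.assoc]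
        erw [pullback.lift_fst]
        rw [pullback.diagonal_fst_assoc]
      · rw [Category.assoc, pullback.diagonal_snd, Category.comp_id, Category.assoc]
        erw [pullback.lift_snd]
        rw [pullback.diagonal_snd_assoc]
    rw [h]
    infer_instance
  have hT₁ : IsClosed T₁ := (pullback.fst w w ≫ w).isClosedMap _
    (i ≫ pullback.diagonal w).isOpenEmbedding.isOpen_range.isClosed_compl
  have hT₂ : IsClosed T₂ := w.isClosedMap _ i.isOpenEmbedding.isOpen_range.isClosed_compl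
  have hT₃ : IsClosed T₃ := (i ≫ w).isOpenMap.isOpen_range.isClosed_compl
  let T : Set U := q '' (T₁ ∪ T₂ ∪ T₃)
  have hT : IsClosed T := q.isClosedMap _ ((hT₁.union hT₂).union hT₃)
  have hV : ∀ z : Z, q (w z) ∈ (⟨Tᶜ, hT.isOpen_compl⟩ : U.Opens) → z ∈ Set.range i := by
    intro z hz
    by_contra h
    exact hz ⟨w z, Or.inl (Or.inr ⟨z, h, rfl⟩), rfl⟩
  refine ⟨⟨Tᶜ, hT.isOpen_compl⟩, ?_, ?_, hV⟩
  · rintro ⟨y, (⟨p, hp, rfl⟩ | ⟨z, hz, rfl⟩) | hy, hu⟩
    · obtain ⟨L, _, k, t, ht, rfl⟩ := exists_field_point (pullback.fst w w ≫ w ≫ q) x' p (by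
        rw [← Category.assoc, Scheme.Hom.comp_apply]; exact hu)
      have h : t ≫ pullback.fst w w = t ≫ pullback.snd w w := by
        refine hb L k _ _ ?_ ?_
        · rw [Category.assoc, Category.assoc, pullback.condition]
        · simpa using ht
      have h' : t = (t ≫ pullback.fst w w) ≫ pullback.diagonal w := by
        ext1
        · simp
        · simp [h]
      obtain ⟨v, hv⟩ : (t ≫ pullback.fst w w) default ∈ Set.range i := by
        apply ha
        rw [← Scheme.Hom.comp_apply, ← Scheme.Hom.comp_apply, Category.assoc, ht, comp_default]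
      apply hp
      refine ⟨v, ?_⟩
      rw [Scheme.Hom.comp_apply, hv, ← Scheme.Hom.comp_apply, ← h']
    · exact hz (ha z hu)
    · obtain ⟨L, _, k, t, ht, rfl⟩ := exists_field_point q x' y hu
      obtain ⟨z, hz⟩ := hc L k t ht
      obtain ⟨v, hv⟩ : z default ∈ Set.range i := by
        apply ha
        rw [← Scheme.Hom.comp_apply, ← Scheme.Hom.comp_apply, ← Category.assoc, hz, ht, comp_default]
      apply hy
      refine ⟨v, ?_⟩
      rw [Scheme.Hom.comp_apply, hv, ← Scheme.Hom.comp_apply, hz]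
  · apply isIso_morphismRestrict w i
    · exact hV
    · intro p hp
      by_contra h
      exact hp ⟨_, Or.inl (Or.inl ⟨p, h, rfl⟩), rfl⟩
    · intro y hy
      by_contra h
      refine hy ⟨y, Or.inr ?_, rfl⟩
      rintro ⟨v, hv⟩
      exact h ⟨i v, hv⟩

/-- Maps to `Z` which agree after composition with `w` and land over an open over which `w` is an isomorphism
are equal. -/
lemma hom_ext_of_isIso_morphismRestrict {w : Z ⟶ Y} {O : Y.Opens} (hO : IsIso (w ∣_ O)) {T : Scheme.{u}}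
    {a b : T ⟶ Z} (h : a ≫ w = b ≫ w) (hr : ∀ t : T, w (a t) ∈ O) : a = b := by
  have hra : Set.range a ⊆ Set.range (w ⁻¹ᵁ O).ι := by
    rintro _ ⟨t, rfl⟩
    rw [Scheme.Opens.range_ι]
    exact hr t
  have hrb : Set.range b ⊆ Set.range (w ⁻¹ᵁ O).ι := by
    rintro _ ⟨t, rfl⟩
    rw [Scheme.Opens.range_ι]
    have := hr t
    rw [← Scheme.Hom.comp_apply, h, Scheme.Hom.comp_apply] at this
    exact this
  rw [← IsOpenImmersion.lift_fac _ a hra, ← IsOpenImmersion.lift_fac _ b hrb]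
  congr 1
  rw [← cancel_mono (w ∣_ O), ← cancel_mono O.ι, Category.assoc, Category.assoc, morphismRestrict_ι,
    IsOpenImmersion.lift_fac_assoc, IsOpenImmersion.lift_fac_assoc, h]

end LemmaE

section Squares

variable {X Y V T : Scheme.{u}}

/-- The map `T ×_X V ⟶ T ×_X Y` induced by `h : V ⟶ Y`. -/
noncomputable def bcMap (a : T ⟶ X) (f : Y ⟶ X) (h : V ⟶ Y) : pullback a (h ≫ f) ⟶ pullback a f :=
  pullback.lift (pullback.fst _ _) (pullback.snd _ _ ≫ h) (by rw [Category.assoc, pullback.condition])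

@[reassoc (attr := simp)]
lemma bcMap_fst (a : T ⟶ X) (f : Y ⟶ X) (h : V ⟶ Y) : bcMap a f h ≫ pullback.fst a f = pullback.fst a (h ≫ f) :=
  pullback.lift_fst _ _ _

@[reassoc (attr := simp)]
lemma bcMap_snd (a : T ⟶ X) (f : Y ⟶ X) (h : V ⟶ Y) :
    bcMap a f h ≫ pullback.snd a f = pullback.snd a (h ≫ f) ≫ h :=
  pullback.lift_snd _ _ _

lemma isPullback_bcMap (a : T ⟶ X) (f : Y ⟶ X) (h : V ⟶ Y) :
    IsPullback (pullback.snd a (h ≫ f)) (bcMap a f h) h (pullback.snd a f) := by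
  refine IsPullback.of_bot (v₂₁ := pullback.fst a f) (v₂₂ := f) (h₃₁ := a) ?_ (bcMap_snd a f h).symm
    (IsPullback.of_hasPullback a f).flip
  rw [bcMap_fst]
  exact (IsPullback.of_hasPullback a (h ≫ f)).flip

end Squares

section Main

/-- The map of fibre products `Spec K ×_X Y ⟶ U ×_X Y` induced by a lift `x'` of `x` to `U`. -/
noncomputable def fibMap {X Y T U : Scheme.{u}} {x : T ⟶ X} (f : Y ⟶ X) {g : U ⟶ X} {x' : T ⟶ U}
    (hx' : x' ≫ g = x) : pullback x f ⟶ pullback g f :=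
  pullback.lift (pullback.fst x f ≫ x') (pullback.snd x f)
    (by rw [Category.assoc, hx', pullback.condition])

section

variable {X Y T U : Scheme.{u}} {x : T ⟶ X} (f : Y ⟶ X) {g : U ⟶ X} {x' : T ⟶ U} (hx' : x' ≫ g = x)

@[reassoc (attr := simp)]
lemma fibMap_fst : fibMap f hx' ≫ pullback.fst g f = pullback.fst x f ≫ x' := pullback.lift_fst _ _ _

@[reassoc (attr := simp)]
lemma fibMap_snd : fibMap f hx' ≫ pullback.snd g f = pullback.snd x f := pullback.lift_snd _ _ _

@[reassoc]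
lemma fibMap_bcMap {V : Scheme.{u}} (h : V ⟶ Y) :
    fibMap (h ≫ f) hx' ≫ bcMap g f h = bcMap x f h ≫ fibMap f hx' := by
  ext1 <;> simp

@[reassoc]
lemma fibMap_comp {W : Scheme.{u}} {j : W ⟶ U} {x'' : T ⟶ W} (hx'' : x'' ≫ j = x') :
    fibMap f (show x'' ≫ (j ≫ g) = x by rw [reassoc_of% hx'', hx']) ≫ fibMap f (rfl : j ≫ g = j ≫ g) =
      fibMap f hx' := by
  ext1 <;> simp [hx'']

end

lemma locallyQuasiFinite_of_etale {X Y : Scheme.{u}} (h : X ⟶ Y) [Etale h] : LocallyQuasiFinite h := by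
  rw [HasRingHomProperty.iff_appLE (P := @LocallyQuasiFinite)]
  intro U V e
  have := HasRingHomProperty.appLE (P := @Etale) h inferInstance U V e
  algebraize [(h.appLE U V e).hom]
  change Algebra.QuasiFinite _ _
  infer_instance

/-- **Étale sections over a fibre of an integral morphism extend étale-locally on the base.** -/
theorem exists_etale_lift {X Y V : Scheme.{u}} (f : Y ⟶ X) [IsIntegralHom f] (h : V ⟶ Y) [Etale h]
    [QuasiCompact h] [IsSeparated h] {K : Type u} [Field K] (x : Spec (.of K) ⟶ X) (σ : pullback x f ⟶ V)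
    (hσ : σ ≫ h = pullback.snd x f) :
    ∃ (U : Scheme.{u}) (_ : IsAffine U) (g : U ⟶ X) (_ : Etale g) (x' : Spec (.of K) ⟶ U) (hx' : x' ≫ g = x)
      (τ : pullback g f ⟶ V), τ ≫ h = pullback.snd g f ∧ fibMap f hx' ≫ τ = σ := by
  -- compactification of `h` by Zariski's main theorem
  obtain ⟨N, n, ν, _, _, hν⟩ : ∃ (N : Scheme.{u}) (n : V ⟶ N) (ν : N ⟶ Y) (_ : IsOpenImmersion n)
      (_ : IsIntegralHom ν), n ≫ ν = h :=
    have := locallyQuasiFinite_of_etale h
    ⟨_, h.toNormalization, h.fromNormalization, inferInstance, inferInstance,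
      h.toNormalization_fromNormalization⟩
  -- the section of `pullback x (ν ≫ f)` over `pullback x f`
  let s : pullback x f ⟶ pullback x (ν ≫ f) := pullback.lift (pullback.fst x f) (σ ≫ n) (by
    rw [pullback.condition, ← hσ, ← hν]; simp)
  have hs₁ : s ≫ pullback.fst _ _ = pullback.fst _ _ := pullback.lift_fst _ _ _
  have hs₂ : s ≫ pullback.snd _ _ = σ ≫ n := pullback.lift_snd _ _ _
  have hsr : s ≫ bcMap x f ν = 𝟙 _ := by
    ext1
    · simp [hs₁]
    · rw [Category.assoc, bcMap_snd, reassoc_of% hs₂, hν, hσ, Category.id_comp]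
  have : IsIntegralHom (bcMap x f ν) := by
    have : IsIntegralHom (bcMap x f ν ≫ pullback.fst x f) := by rw [bcMap_fst]; infer_instance
    exact IsIntegralHom.of_comp _ (pullback.fst x f)
  have : IsClosedImmersion s := by
    have : IsClosedImmersion (s ≫ bcMap x f ν) := by rw [hsr]; infer_instance
    exact IsClosedImmersion.of_comp s (bcMap x f ν)
  -- over any base, the open immersion and the étale map induced by `n`
  have hk : ∀ {T : Scheme.{u}} (t : T ⟶ X), IsOpenImmersion (bcMap t (ν ≫ f) n) ∧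
      Etale (bcMap t (ν ≫ f) n ≫ bcMap t f ν) := by
    intro T t
    have h₁ := isPullback_bcMap t (ν ≫ f) n
    have h₂ := h₁.paste_vert (isPullback_bcMap t f ν)
    rw [hν] at h₂
    exact ⟨MorphismProperty.of_isPullback (P := @IsOpenImmersion) h₁ inferInstance,
      MorphismProperty.of_isPullback (P := @Etale) h₂ inferInstance⟩
  have : IsOpenImmersion s := by
    obtain ⟨_, _⟩ := hk x
    let s' : pullback x f ⟶ pullback x (n ≫ ν ≫ f) := pullback.lift (pullback.fst x f) σ (by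
      rw [pullback.condition, ← hσ, ← hν]; simp)
    have hs' : s' ≫ bcMap x (ν ≫ f) n = s := by
      ext1
      · rw [Category.assoc, bcMap_fst, hs₁]; exact pullback.lift_fst _ _ _
      · rw [Category.assoc, bcMap_snd, hs₂, ← Category.assoc]
        congr 1
        exact pullback.lift_snd _ _ _
    have : Etale s' := by
      have : Etale (s' ≫ bcMap x (ν ≫ f) n ≫ bcMap x f ν) := by
        rw [reassoc_of% hs', hsr]; infer_instance
      exact Etale.of_comp s' (bcMap x (ν ≫ f) n ≫ bcMap x f ν)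
    have : Etale s := by rw [← hs']; infer_instance
    exact IsOpenImmersion.of_flat_of_mono s
  -- extend the clopen `range s`
  obtain ⟨U₁, _, g₁, _, x₁, hx₁, Z₁, hZ₁, hZ₁s⟩ := exists_etale_clopen (ν ≫ f) x (Set.range s)
    ⟨s.isClosedEmbedding.isClosed_range, s.isOpenEmbedding.isOpen_range⟩
  let m₁ : pullback x (ν ≫ f) ⟶ pullback g₁ (ν ≫ f) := fibMap (ν ≫ f) hx₁
  have hm₁ : pullback.map x (ν ≫ f) g₁ (ν ≫ f) x₁ (𝟙 N) (𝟙 X) (by simp [hx₁]) (by simp) = m₁ := by
    ext1
    · rw [fibMap_fst]; exact pullback.lift_fst _ _ _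
    · rw [fibMap_snd]; exact (pullback.lift_snd _ _ _).trans (Category.comp_id _)
  rw [hm₁] at hZ₁s
  obtain ⟨hk₁, hk₂⟩ := hk g₁
  let Zo : (pullback g₁ (ν ≫ f)).Opens := ⟨Z₁, hZ₁.isOpen⟩
  have hZo : Set.range Zo.ι = Z₁ := by rw [Scheme.Opens.range_ι]; rfl
  have : IsClosedImmersion Zo.ι := .of_isPreimmersion _ (by rw [hZo]; exact hZ₁.isClosed)
  have : IsIntegralHom (bcMap g₁ f ν) := by
    have : IsIntegralHom (bcMap g₁ f ν ≫ pullback.fst g₁ f) := by rw [bcMap_fst]; infer_instance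
    exact IsIntegralHom.of_comp _ (pullback.fst g₁ f)
  let w : Zo.toScheme ⟶ pullback g₁ f := Zo.ι ≫ bcMap g₁ f ν
  let q : pullback g₁ f ⟶ U₁ := pullback.fst g₁ f
  let i := pullback.fst Zo.ι (bcMap g₁ (ν ≫ f) n)
  have hi : i ≫ w = pullback.snd _ _ ≫ bcMap g₁ (ν ≫ f) n ≫ bcMap g₁ f ν := by
    simp only [i, w, pullback.condition_assoc]
  have : Etale (i ≫ w) := by rw [hi]; infer_instance
  have hwq : w ≫ q = Zo.ι ≫ pullback.fst _ _ := by simp [w, q]
  have hws : w ≫ pullback.snd _ _ = Zo.ι ≫ pullback.snd _ _ ≫ ν := by simp [w]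
  -- field-valued points of the fibre of `Zo` come from `pullback x f`
  have key : ∀ (L : Type u) [Field L] (k : Spec (.of L) ⟶ Spec (.of K)) (z : Spec (.of L) ⟶ Zo.toScheme),
      z ≫ w ≫ q = k ≫ x₁ → ∃ y : Spec (.of L) ⟶ pullback x f, y ≫ pullback.fst x f = k ∧
        y ≫ s ≫ m₁ = z ≫ Zo.ι := by
    intro L _ k z hz
    rw [hwq] at hz
    let t : Spec (.of L) ⟶ pullback x (ν ≫ f) := pullback.lift k (z ≫ Zo.ι ≫ pullback.snd _ _) (by
      rw [← hx₁, ← reassoc_of% hz, pullback.condition]; simp)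
    have ht₁ : t ≫ pullback.fst _ _ = k := pullback.lift_fst _ _ _
    have ht₂ : t ≫ pullback.snd _ _ = z ≫ Zo.ι ≫ pullback.snd _ _ := pullback.lift_snd _ _ _
    have htm : t ≫ m₁ = z ≫ Zo.ι := by
      ext1
      · rw [Category.assoc, fibMap_fst, reassoc_of% ht₁, Category.assoc, hz]
      · rw [Category.assoc, fibMap_snd, ht₂, Category.assoc]
    have htr : Set.range t ⊆ Set.range s := by
      rintro _ ⟨a, rfl⟩
      rw [← hZ₁s, Set.mem_preimage, ← Scheme.Hom.comp_apply, htm, Scheme.Hom.comp_apply, ← hZo]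
      exact ⟨_, rfl⟩
    refine ⟨IsOpenImmersion.lift s t htr, ?_, ?_⟩
    · rw [← hs₁, IsOpenImmersion.lift_fac_assoc, ht₁]
    · rw [IsOpenImmersion.lift_fac_assoc, htm]
  have hsm : ∀ y : ↥(pullback x f), (s ≫ m₁) y ∈ Z₁ := by
    intro y
    rw [Scheme.Hom.comp_apply, ← Set.mem_preimage, hZ₁s]
    exact ⟨y, rfl⟩
  have hsmr : s ≫ m₁ ≫ bcMap g₁ f ν = fibMap f hx₁ := by
    rw [fibMap_bcMap, reassoc_of% hsr]
  have ha : ∀ z : Zo.toScheme, q (w z) = x₁ default → z ∈ Set.range i := by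
    intro z hz
    obtain ⟨L, _, k, t, ht, rfl⟩ := exists_field_point (w ≫ q) x₁ z (by
      rw [Scheme.Hom.comp_apply, hz])
    obtain ⟨y, -, hy⟩ := key L k t ht
    rw [Scheme.Pullback.range_fst, Set.mem_preimage, ← Scheme.Hom.comp_apply, ← hy]
    have hsq := isPullback_bcMap g₁ (ν ≫ f) n
    have hy' : (y ≫ σ) ≫ n = (y ≫ s ≫ m₁) ≫ pullback.snd g₁ (ν ≫ f) := by
      simp only [Category.assoc, m₁, fibMap_snd, hs₂]
    rw [← hsq.lift_snd _ _ hy', Scheme.Hom.comp_apply]
    exact ⟨_, rfl⟩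
  have hb : ∀ (L : Type u) [Field L] (k : Spec (.of L) ⟶ Spec (.of K)) (z₁ z₂ : Spec (.of L) ⟶ Zo.toScheme),
      z₁ ≫ w = z₂ ≫ w → z₁ ≫ w ≫ q = k ≫ x₁ → z₁ = z₂ := by
    intro L _ k z₁ z₂ h₁ h₂
    obtain ⟨y₁, hy₁, hy₁'⟩ := key L k z₁ h₂
    obtain ⟨y₂, hy₂, hy₂'⟩ := key L k z₂ (by rw [← reassoc_of% h₁, h₂])
    have hyy : y₁ = y₂ := by
      ext1
      · rw [hy₁, hy₂]
      · have e : ∀ (y : Spec (.of L) ⟶ pullback x f) (z : Spec (.of L) ⟶ Zo.toScheme),
            y ≫ s ≫ m₁ = z ≫ Zo.ι → y ≫ pullback.snd x f = (z ≫ w) ≫ pullback.snd g₁ f := by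
          intro y z hyz
          rw [← fibMap_snd f hx₁, ← hsmr]
          simp only [Category.assoc, w]
          rw [reassoc_of% hyz]
        rw [e _ _ hy₁', e _ _ hy₂', h₁]
    rw [← cancel_mono Zo.ι, ← hy₁', ← hy₂', hyy]
  have hc : ∀ (L : Type u) [Field L] (k : Spec (.of L) ⟶ Spec (.of K)) (y : Spec (.of L) ⟶ pullback g₁ f),
      y ≫ q = k ≫ x₁ → ∃ z : Spec (.of L) ⟶ Zo.toScheme, z ≫ w = y := by
    intro L _ k y hy
    let y' : Spec (.of L) ⟶ pullback x f := pullback.lift k (y ≫ pullback.snd _ _) (by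
      rw [← hx₁, ← reassoc_of% hy, pullback.condition, Category.assoc])
    have hy'₁ : y' ≫ pullback.fst _ _ = k := pullback.lift_fst _ _ _
    have hy'₂ : y' ≫ pullback.snd _ _ = y ≫ pullback.snd _ _ := pullback.lift_snd _ _ _
    have hr : Set.range (y' ≫ s ≫ m₁) ⊆ Set.range Zo.ι := by
      rintro _ ⟨a, rfl⟩
      rw [hZo, Scheme.Hom.comp_apply]
      exact hsm _
    refine ⟨IsOpenImmersion.lift Zo.ι (y' ≫ s ≫ m₁) hr, ?_⟩
    change IsOpenImmersion.lift Zo.ι (y' ≫ s ≫ m₁) hr ≫ Zo.ι ≫ bcMap g₁ f ν = y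
    rw [IsOpenImmersion.lift_fac_assoc, Category.assoc, Category.assoc, hsmr]
    ext1
    · rw [Category.assoc, fibMap_fst, reassoc_of% hy'₁, hy]
    · rw [Category.assoc, fibMap_snd, hy'₂]
  obtain ⟨U', hU', hiso, hUi⟩ := exists_isIso_morphismRestrict w i q x₁ ha hb hc
  -- shrink to an affine open
  obtain ⟨R, j, _, hj, hjU⟩ := AlgebraicGeometry.Scheme.exists_affine_mem_range_and_range_subset
    (x := x₁ default) (U := U') hU'
  have hjx : Set.range x₁ ⊆ Set.range j := by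
    rintro _ ⟨a, rfl⟩
    rwa [Subsingleton.elim a default]
  let x₂ : Spec (.of K) ⟶ Spec R := IsOpenImmersion.lift j x₁ hjx
  have hx₂ : x₂ ≫ j = x₁ := IsOpenImmersion.lift_fac _ _ _
  have hx₂' : x₂ ≫ (j ≫ g₁) = x := by rw [reassoc_of% hx₂, hx₁]
  let O := q ⁻¹ᵁ U'
  let jQ : pullback (j ≫ g₁) f ⟶ pullback g₁ f := fibMap f (rfl : j ≫ g₁ = j ≫ g₁)
  have hjQ₁ : jQ ≫ q = pullback.fst _ _ ≫ j := fibMap_fst _ _
  have hjQ₂ : jQ ≫ pullback.snd _ _ = pullback.snd _ _ := fibMap_snd _ _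
  have hjQ : Set.range jQ ⊆ Set.range O.ι := by
    rintro _ ⟨a, rfl⟩
    rw [Scheme.Opens.range_ι]
    change q (jQ a) ∈ U'
    rw [← Scheme.Hom.comp_apply, hjQ₁, Scheme.Hom.comp_apply]
    exact hjU ⟨_, rfl⟩
  let τ' : pullback (j ≫ g₁) f ⟶ Zo.toScheme :=
    IsOpenImmersion.lift O.ι jQ hjQ ≫ inv (w ∣_ O) ≫ (w ⁻¹ᵁ O).ι
  have hτ' : τ' ≫ w = jQ := by
    simp only [τ', Category.assoc]
    rw [← morphismRestrict_ι, IsIso.inv_hom_id_assoc, IsOpenImmersion.lift_fac]
  have hτ'r : Set.range τ' ⊆ Set.range i := by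
    rintro _ ⟨a, rfl⟩
    apply hUi
    rw [← Scheme.Hom.comp_apply, ← Scheme.Hom.comp_apply, ← Category.assoc, hτ', hjQ₁,
      Scheme.Hom.comp_apply]
    exact hjU ⟨_, rfl⟩
  let τ'' := IsOpenImmersion.lift i τ' hτ'r
  have hτ'' : τ'' ≫ i = τ' := IsOpenImmersion.lift_fac _ _ _
  let τ : pullback (j ≫ g₁) f ⟶ V := τ'' ≫ pullback.snd _ _ ≫ pullback.snd _ _
  have hτn : τ ≫ n = τ' ≫ Zo.ι ≫ pullback.snd _ _ := by
    rw [← hτ'']
    simp only [τ, i, Category.assoc]
    rw [pullback.condition_assoc, bcMap_snd]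
  have hcomp : fibMap f hx₂' ≫ τ' ≫ Zo.ι = s ≫ m₁ := by
    have hr : Set.range (s ≫ m₁) ⊆ Set.range Zo.ι := by
      rintro _ ⟨a, rfl⟩
      rw [hZo]
      exact hsm a
    have hj' : fibMap f hx₂' ≫ jQ = fibMap f hx₁ := fibMap_comp f hx₁ hx₂
    have e : fibMap f hx₂' ≫ τ' = IsOpenImmersion.lift Zo.ι (s ≫ m₁) hr := by
      apply hom_ext_of_isIso_morphismRestrict hiso
      · rw [Category.assoc, hτ', hj']
        change _ = IsOpenImmersion.lift Zo.ι (s ≫ m₁) hr ≫ Zo.ι ≫ bcMap g₁ f ν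
        rw [IsOpenImmersion.lift_fac_assoc, Category.assoc, hsmr]
      · intro t
        rw [← Scheme.Hom.comp_apply, Category.assoc, hτ', hj']
        change q (fibMap f hx₁ t) ∈ U'
        rw [← Scheme.Hom.comp_apply, fibMap_fst, Scheme.Hom.comp_apply,
          Subsingleton.elim (pullback.fst x f t) default]
        exact hU'
    rw [← Category.assoc, e, IsOpenImmersion.lift_fac]
  clear_value τ
  clear_value τ''
  clear_value τ'
  refine ⟨Spec R, inferInstance, j ≫ g₁, inferInstance, x₂, hx₂', τ, ?_, ?_⟩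
  · calc τ ≫ h = (τ ≫ n) ≫ ν := by rw [Category.assoc, hν]
      _ = τ' ≫ (Zo.ι ≫ pullback.snd _ _ ≫ ν) := by rw [hτn]; simp only [Category.assoc]
      _ = (τ' ≫ w) ≫ pullback.snd _ _ := by rw [← hws]; exact (Category.assoc _ _ _).symm
      _ = _ := by rw [hτ', hjQ₂]
  · rw [← cancel_mono n, Category.assoc, hτn, reassoc_of% hcomp, fibMap_snd, hs₂]

end Main

end Groth.Agent.Sga4A.IntLift
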