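import Groth.Agent.EtpbcA.UnitH
import Groth.Agent.EtpbcB.TorVan
import Groth.Agent.Sga4B.AcycCmp

/-!
# Criteria for `EtCore.Hpull` to be bijective on torsion sheaves

* `Hpull_bijective_of_efface`: `i : Y ⟶ X`; if `Γ(X, F) ⟶ Γ(Y, i⁻¹ F)` is bijective for torsion
  sheaves `F` and positive degree classes on `X` and `Y` are effaced by monomorphisms of torsion
  sheaves on `X`, then `Hpull i F q` is bijective for all torsion `F` and all `q`.
* `Hpull_bijective_of_tor`: the same, if `H^q(Y, i⁻¹ J[ℓ]) = 0` for `J` injective, `ℓ` prime, `q > 0`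
  (`X`, `Y` qcqs).
-/

set_option autoImplicit false
universe u
open CategoryTheory CategoryTheory.Limits AlgebraicGeometry Opposite
open CategoryTheory.Abelian

namespace Groth.Agent.Sga4A.HpullEfface

open Groth.Agent.Etrest Groth.Agent.EtpbcA Groth.Agent.EtpbcB

variable {X Y : Scheme.{u}}

/-- Effaceability criterion for `Hpull`. -/
theorem Hpull_bijective_of_efface (i : Y ⟶ X) [PreservesFiniteLimits (EtCoh.pull i)]
    (h0 : ∀ F : EtCoh.Ab X, EtCoh.IsTorsion F → Function.Bijective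
      (((EtCoh.pullPushAdj i).unit.app F).hom.app (op (EtCoh.top X))))
    (e1 : ∀ F : EtCoh.Ab X, EtCoh.IsTorsion F → ∀ q : ℕ, 0 < q → ∀ ξ : EtCoh.H X F q,
      ∃ (F' : EtCoh.Ab X) (_ : EtCoh.IsTorsion F') (φ : F ⟶ F') (_ : Mono φ),
      Sheaf.H.map φ q ξ = 0)
    (e2 : ∀ F : EtCoh.Ab X, EtCoh.IsTorsion F → ∀ q : ℕ, 0 < q →
      ∀ ξ : EtCoh.H Y ((EtCoh.pull i).obj F) q,
      ∃ (F' : EtCoh.Ab X) (_ : EtCoh.IsTorsion F') (φ : F ⟶ F') (_ : Mono φ),
      Sheaf.H.map ((EtCoh.pull i).map φ) q ξ = 0)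
    (F : EtCoh.Ab X) (hF : EtCoh.IsTorsion F) (q : ℕ) :
    Function.Bijective (EtCore.Hpull i F q) := by
  have h1 := UnitH.mapExt_bijective (EtCoh.pull i) (EtCoh.const X ℤ) EtCoh.IsTorsion
    (fun F F' φ _ hF' => EtpbcB.TorsionBasic.isTorsion_of_epi (cokernel.π φ) hF')
    (fun F hF => UnitH.map_bijective_of_unit i F (h0 F hF))
    (fun F hF n hn x => by
      obtain ⟨F', hF', φ, hm, h⟩ := e1 F hF n hn x
      exact ⟨F', φ, hm, hF', h⟩)
    (fun F hF n hn x => by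
      obtain ⟨F', hF', φ, hm, h⟩ := e2 F hF n hn
        ((Ext.mk₀ (EtCore.pullConst i ℤ).inv).comp x (zero_add n))
      refine ⟨F', φ, hm, hF', ?_⟩
      rw [Sheaf.H.map_apply] at h
      have h1 := congrArg (fun t => (Ext.mk₀ (EtCore.pullConst i ℤ).hom).comp t (zero_add n)) h
      rw [Ext.comp_assoc_of_third_deg_zero, Ext.mk₀_comp_mk₀_assoc, Iso.hom_inv_id,
        Ext.mk₀_id_comp, Ext.comp_zero] at h1
      exact h1) q F hF
  have h4 : Function.Bijective (fun e : Ext.{u + 1} ((EtCoh.pull i).obj (EtCoh.const X ℤ))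
      ((EtCoh.pull i).obj F) q =>
      (Ext.mk₀ (EtCore.pullConst i ℤ).inv).comp e (zero_add q)) :=
    Function.bijective_iff_has_inverse.2
      ⟨fun e => (Ext.mk₀ (EtCore.pullConst i ℤ).hom).comp e (zero_add q), fun e => by
        dsimp only
        rw [← Ext.comp_assoc_of_second_deg_zero, Ext.mk₀_comp_mk₀, Iso.hom_inv_id,
          Ext.mk₀_id_comp],
      fun e => by
        dsimp only
        rw [← Ext.comp_assoc_of_second_deg_zero, Ext.mk₀_comp_mk₀, Iso.inv_hom_id,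
          Ext.mk₀_id_comp]⟩
  exact h4.comp h1

/-- Criterion in terms of the acyclicity of `i⁻¹ J[ℓ]`. -/
theorem Hpull_bijective_of_tor [CompactSpace X] [QuasiSeparatedSpace X]
    [CompactSpace Y] [QuasiSeparatedSpace Y] (i : Y ⟶ X) [PreservesFiniteLimits (EtCoh.pull i)]
    (h0 : ∀ F : EtCoh.Ab X, EtCoh.IsTorsion F → Function.Bijective
      (((EtCoh.pullPushAdj i).unit.app F).hom.app (op (EtCoh.top X))))
    (hl : ∀ (J : EtCoh.Ab X) [Injective J] (ℓ : ℕ), ℓ.Prime → ∀ q : ℕ, 0 < q →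
      Subsingleton (EtCoh.H Y ((EtCoh.pull i).obj (NKill.tor ℓ J)) q))
    (F : EtCoh.Ab X) (hF : EtCoh.IsTorsion F) (q : ℕ) :
    Function.Bijective (EtCore.Hpull i F q) := by
  refine Hpull_bijective_of_efface i h0 ?_ ?_ F hF q
  · intro F hF q hq ξ
    obtain ⟨J, hJ, φ, hφ⟩ := AcycTors.exists_mono_tor F hF
    refine ⟨Tors.tor.obj J, TorsEt.isTorsion_tor J, φ, hφ, ?_⟩
    have h1 := TorVan.H_pull_tor (𝟙 X) J (fun ℓ hℓ q hq ↦ by
      have := NKillH.H_tor J hℓ.pos q hq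
      exact (IsoTransport.HIso (𝟙 X) (NKill.tor ℓ J) q).toEquiv.subsingleton_congr.2 this) q hq
    have h2 := (IsoTransport.HIso (𝟙 X) (Tors.tor.obj J) q).toEquiv.subsingleton_congr.1 h1
    exact Subsingleton.elim _ _
  · intro F hF q hq ξ
    obtain ⟨J, hJ, φ, hφ⟩ := AcycTors.exists_mono_tor F hF
    refine ⟨Tors.tor.obj J, TorsEt.isTorsion_tor J, φ, hφ, ?_⟩
    have h1 := TorVan.H_pull_tor i J (hl J) q hq
    exact Subsingleton.elim _ _

end Groth.Agent.Sga4A.HpullEfface
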