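import Groth.Agent.Sga4A.IndEtCover
import Groth.Agent.Proet.IndEtale
import Groth.Agent.Proet.IndFlat
import Mathlib.CategoryTheory.Functor.OfSequence

/-!
# Faithfully flat ind-etale algebras with etale retractions (Stacks 097R)
-/

set_option autoImplicit false
open CategoryTheory CategoryTheory.Limits
universe u

namespace Groth.Agent.Sga4A.IndEtTower

open Groth.Agent.Proet Groth.Agent.Sga4A.IndEtCover

/-- Faithful flatness can be checked by approximating linear relations. -/
theorem ff_of_approx {R S : Type u} [CommRing R] [CommRing S] (φ : R →+* S)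
    (H : ∀ (l : ℕ) (f : Fin l → R) (r : R) (x : Fin l → S), ∑ i, φ (f i) * x i = φ r →
      ∃ (S' : Type u) (_ : CommRing S') (ψ : R →+* S')
        (b : S' →+* S) (x' : Fin l → S'), ψ.FaithfullyFlat ∧
        (∀ r, φ r = b (ψ r)) ∧ (∀ i, b (x' i) = x i) ∧
        ∑ i, ψ (f i) * x' i = ψ r) : φ.FaithfullyFlat := by
  have hflat : φ.Flat := by
    apply IndFlat.flat_of_approx.{u}
    intro l f x hx
    obtain ⟨S', _, ψ, b, x', hψ, h1, h2, h3⟩ := H l f 0 x (by rw [hx, map_zero])
    exact ⟨R, S', inferInstance, inferInstance, ψ, RingHom.id R, b, f, x', hψ.flat, h1,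
      fun _ => rfl, h2, by rw [h3, map_zero]⟩
  algebraize [φ]
  have : Module.Flat R S := hflat
  change Module.FaithfullyFlat R S
  refine ⟨fun {m} hm hm' => ?_⟩
  have h1 : (1 : S) ∈ m.map (algebraMap R S) := by
    have : (1 : S) ∈ (m • ⊤ : Submodule R S) := by rw [hm']; trivial
    rw [Ideal.smul_top_eq_map] at this
    exact this
  obtain ⟨l, x, g, hg⟩ := Submodule.mem_span_set'.1 h1
  choose f hf hfg using fun i => (g i).2
  obtain ⟨S', _, ψ, b, x', hψ, h2, h3, h4⟩ := H l f 1 x (by
    rw [map_one, ← hg]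
    refine Finset.sum_congr rfl fun i _ => ?_
    rw [smul_eq_mul, mul_comm, ← hfg i]
    rfl)
  algebraize [ψ]
  have hψ' : Module.FaithfullyFlat R S' := hψ
  refine hψ'.submodule_ne_top hm ?_
  rw [Ideal.smul_top_eq_map]
  have h5 : (1 : S') ∈ m.map (algebraMap R S') := by
    rw [← map_one ψ, ← h4]
    refine Ideal.sum_mem _ fun i _ => Ideal.mul_mem_right _ _ (Ideal.mem_map_of_mem _ (hf i))
  rw [(Ideal.eq_top_iff_one _).2 h5]
  rfl

/-- A filtered colimit of faithfully flat algebras is faithfully flat. -/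
theorem ff_colimit_under {J : Type u} [SmallCategory J] [IsFiltered J] {A : CommRingCat.{u}}
    (D : J ⥤ Under A) (c : Cocone D) (hc : IsColimit c)
    (h : ∀ j, (D.obj j).hom.hom.FaithfullyFlat) : c.pt.hom.hom.FaithfullyFlat := by
  apply ff_of_approx
  intro l f r x hx
  obtain ⟨j, x', hx'⟩ := IndFlat.exists_rep_under hc x
  have hw : ∀ k, ∀ a : A, c.pt.hom.hom a = (c.ι.app k).right.hom ((D.obj k).hom.hom a) := by
    intro k a
    have := congr(($(Under.w (c.ι.app k))).hom a)
    exact this.symm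
  have hrel : (c.ι.app j).right.hom (∑ i, (D.obj j).hom.hom (f i) * x' i) =
      (c.ι.app j).right.hom ((D.obj j).hom.hom r) := by
    rw [← hw, ← hx, map_sum]
    refine Finset.sum_congr rfl fun i _ => ?_
    rw [map_mul, hx', ← hw]
  obtain ⟨n, t, ht⟩ := IndFlat.exists_map_eq_under hc _ _ hrel
  have hw' : ∀ a : A, (D.obj n).hom.hom a = (D.map t).right.hom ((D.obj j).hom.hom a) := by
    intro a
    have := congr(($(Under.w (D.map t))).hom a)
    exact this.symm
  refine ⟨(D.obj n).right, inferInstance, (D.obj n).hom.hom, (c.ι.app n).right.hom,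
    fun i => (D.map t).right.hom (x' i), h n, hw n, ?_, ?_⟩
  · intro i
    rw [← hx']
    exact congr(($(c.w t)).right.hom (x' i))
  · rw [map_sum, ← hw'] at ht
    rw [← ht]
    refine Finset.sum_congr rfl fun i _ => ?_
    rw [map_mul, hw']

/-- A member of a filtered diagram of rings with faithfully flat transition maps maps faithfully
flatly to the colimit. -/
theorem ff_colimit {J : Type u} [SmallCategory J] [IsFiltered J]
    (D : J ⥤ CommRingCat.{u}) (c : Cocone D) (hc : IsColimit c)
    (h : ∀ i j (f : i ⟶ j), (D.map f).hom.FaithfullyFlat) (j₀ : J) :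
    (c.ι.app j₀).hom.FaithfullyFlat := by
  apply ff_of_approx
  intro l f r x hx
  obtain ⟨j, x', hx'⟩ := IndFlat.exists_rep_finite hc x
  let m := IsFiltered.max j₀ j
  let a := IsFiltered.leftToMax j₀ j
  let b := IsFiltered.rightToMax j₀ j
  have hwa : ∀ y, (c.ι.app j₀).hom y = (c.ι.app m).hom ((D.map a).hom y) := by
    intro y
    exact congr(($(c.w a)).hom y).symm
  have hwb : ∀ y, (c.ι.app j).hom y = (c.ι.app m).hom ((D.map b).hom y) := by
    intro y
    exact congr(($(c.w b)).hom y).symm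
  have hrel : (c.ι.app m).hom (∑ i, (D.map a).hom (f i) * (D.map b).hom (x' i)) =
      (c.ι.app m).hom ((D.map a).hom r) := by
    rw [← hwa, ← hx, map_sum]
    refine Finset.sum_congr rfl fun i _ => ?_
    rw [map_mul, ← hwa, ← hwb, hx']
  obtain ⟨n, t, ht⟩ := IndFlat.exists_map_eq hc _ _ hrel
  have hat : ∀ y, (D.map (a ≫ t)).hom y = (D.map t).hom ((D.map a).hom y) := by
    intro y
    rw [D.map_comp]
    rfl
  refine ⟨D.obj n, inferInstance, (D.map (a ≫ t)).hom, (c.ι.app n).hom,
    fun i => (D.map t).hom ((D.map b).hom (x' i)), h _ _ _, ?_, ?_, ?_⟩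
  · intro y
    exact congr(($(c.w (a ≫ t))).hom y).symm
  · intro i
    rw [← hx', hwb]
    exact congr(($(c.w t)).hom _)
  · rw [map_sum, ← hat] at ht
    rw [← ht]
    refine Finset.sum_congr rfl fun i _ => ?_
    rw [map_mul, hat]

/-- Ind-etale ring maps. -/
abbrev IE : MorphismProperty CommRingCat.{u} :=
  MorphismProperty.ind.{u} (IndAlg.mp (fun R S => Algebra.Etale R S))

instance : (IE.{u}).IsStableUnderComposition := by
  have h1 := IndAlg.good_etale.{u}.isStableUnderCobaseChange
  have h2 := IndAlg.good_etale.{u}.isMultiplicative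
  have h3 := IndAlg.good_etale.{u}.preIndSpreads
  exact MorphismProperty.IsStableUnderComposition.ind_of_preIndSpreads.{u}
    IndAlg.good_etale.{u}.mp_le

theorem mp_etale_iff {X Y : CommRingCat.{u}} (f : X ⟶ Y) :
    IndAlg.mp (fun R S => Algebra.Etale R S) f ↔ f.hom.Etale := Iff.rfl

/-- The chosen faithfully flat ind-etale algebra receiving all faithfully flat etale algebras. -/
noncomputable def T (A : CommRingCat.{u}) : Under A := (exists_weaklyTerminal A).choose

theorem T_ind (A : CommRingCat.{u}) : ObjectProperty.ind.{u} (EFF.{u}.underObj (X := A)) (T A) :=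
  (exists_weaklyTerminal A).choose_spec.1

theorem T_map (A : CommRingCat.{u}) (B : Under A) (hB : EFF B.hom) : Nonempty (B ⟶ T A) :=
  (exists_weaklyTerminal A).choose_spec.2 B hB

theorem T_ff (A : CommRingCat.{u}) : (T A).hom.hom.FaithfullyFlat := by
  obtain ⟨J, _, _, pres, h⟩ := T_ind A
  exact ff_colimit_under pres.diag pres.cocone pres.isColimit (fun j => (h j).2)

theorem T_ie (A : CommRingCat.{u}) : IE (T A).hom := by
  unfold IE
  rw [MorphismProperty.ind_iff_ind_underMk]
  obtain ⟨J, _, _, pres, h⟩ := T_ind A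
  exact ⟨J, inferInstance, inferInstance, pres, fun j => (h j).1⟩

/-- The tower. -/
noncomputable def tower (A : CommRingCat.{u}) : ℕ → CommRingCat.{u}
  | 0 => A
  | n + 1 => (T (tower A n)).right

/-- The tower as a functor on `ℕ`. -/
noncomputable def towerF₀ (A : CommRingCat.{u}) : ℕ ⥤ CommRingCat.{u} :=
  Functor.ofSequence (X := tower A) (fun n => (T (tower A n)).hom)

/-- The tower as a functor on `ULift ℕ`. -/
noncomputable def towerF (A : CommRingCat.{u}) : ULift.{u} ℕ ⥤ CommRingCat.{u} :=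
  (Monotone.functor (f := ULift.down) (fun _ _ h => h) : ULift.{u} ℕ ⥤ ℕ) ⋙ towerF₀ A

theorem towerF₀_prop (P : MorphismProperty CommRingCat.{u}) [P.IsMultiplicative]
    (A : CommRingCat.{u}) (h : ∀ n, P (T (tower A n)).hom) {i j : ℕ} (f : i ⟶ j) :
    P ((towerF₀ A).map f) := by
  obtain ⟨k, rfl⟩ := Nat.exists_eq_add_of_le (leOfHom f)
  induction k with
  | zero =>
    rw [Subsingleton.elim f (𝟙 _), CategoryTheory.Functor.map_id]
    exact P.id_mem _
  | succ k ih =>
    have h1 : f = homOfLE (Nat.le_add_right i k) ≫ homOfLE (Nat.le_add_right (i + k) 1) :=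
      Subsingleton.elim _ _
    rw [h1, Functor.map_comp]
    refine P.comp_mem _ _ (ih _) ?_
    have h2 : (towerF₀ A).map (homOfLE (Nat.le_add_right (i + k) 1)) =
        (T (tower A (i + k))).hom := Functor.ofSequence_map_homOfLE_succ _ _
    rw [h2]
    exact h _

/-- Faithfully flat ring maps. -/
def FFm : MorphismProperty CommRingCat.{u} := fun _ _ f => f.hom.FaithfullyFlat

instance : FFm.{u}.IsMultiplicative where
  id_mem _ := RingHom.FaithfullyFlat.of_bijective Function.bijective_id
  comp_mem _ _ hf hg := RingHom.FaithfullyFlat.stableUnderComposition _ _ hf hg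

instance : (IE.{u}).ContainsIdentities := by
  have h2 := IndAlg.good_etale.{u}.isMultiplicative
  infer_instance

instance : (IE.{u}).IsMultiplicative where

theorem towerF_ff (A : CommRingCat.{u}) {i j : ULift.{u} ℕ} (f : i ⟶ j) :
    ((towerF A).map f).hom.FaithfullyFlat :=
  have h : i ≤ j := leOfHom f
  towerF₀_prop FFm A (fun _ => T_ff _) (homOfLE (ULift.down_le.2 h) : i.down ⟶ j.down)

theorem towerF_ie (A : CommRingCat.{u}) {i j : ULift.{u} ℕ} (f : i ⟶ j) :
    IE ((towerF A).map f) :=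
  have h : i ≤ j := leOfHom f
  towerF₀_prop IE A (fun _ => T_ie _) (homOfLE (ULift.down_le.2 h) : i.down ⟶ j.down)

theorem ι_zero_ff (A : CommRingCat.{u}) (j : ULift.{u} ℕ) :
    (colimit.ι (towerF A) j).hom.FaithfullyFlat :=
  ff_colimit (towerF A) _ (colimit.isColimit _) (fun _ _ f => towerF_ff A f) j

theorem ι_zero_ie (A : CommRingCat.{u}) : IE (colimit.ι (towerF A) ⟨0⟩) := by
  have h : MorphismProperty.ind.{u} IE (colimit.ι (towerF A) ⟨0⟩) := by
    refine ⟨ULift.{u} ℕ, inferInstance, inferInstance, towerF A,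
      { app := fun j => (towerF A).map (homOfLE (Nat.zero_le j.down))
        naturality := ?_ }, (colimit.cocone _).ι, colimit.isColimit _, ?_⟩
    · intro i j f
      have h1 : (towerF A).map (homOfLE (Nat.zero_le j.down)) =
          (towerF A).map (homOfLE (Nat.zero_le i.down) ≫ f) := by
        congr 1
      rw [h1, Functor.map_comp]
      simp
    · intro j
      let f : (⟨0⟩ : ULift.{u} ℕ) ⟶ j := homOfLE (Nat.zero_le j.down)
      exact ⟨towerF_ie A f, colimit.w (towerF A) f⟩
  have h2 := MorphismProperty.ind_ind.{u} IndAlg.good_etale.{u}.mp_le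
  exact (congrFun (congrFun (congrFun h2 _) _) _).mp h

/-- Every faithfully flat etale algebra over a member of the tower maps to the next member. -/
theorem exists_lift_next (A : CommRingCat.{u}) (n : ℕ) {B : CommRingCat.{u}} (f : tower A n ⟶ B)
    (hf : EFF f) : ∃ g : B ⟶ (towerF A).obj ⟨n + 1⟩,
      f ≫ g = (towerF A).map (homOfLE (Nat.le_succ n) : (⟨n⟩ : ULift.{u} ℕ) ⟶ ⟨n + 1⟩) := by
  obtain ⟨g⟩ := T_map (tower A n) (Under.mk f) hf
  refine ⟨g.right, ?_⟩
  refine (Under.w g).trans ?_
  exact (Functor.ofSequence_map_homOfLE_succ (X := tower A)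
    (fun n => (T (tower A n)).hom) n).symm

theorem exists_retraction (A : CommRingCat.{u}) {B : CommRingCat.{u}}
    (f : colimit (towerF A) ⟶ B) (hf : EFF f) : ∃ g : B ⟶ colimit (towerF A), f ≫ g = 𝟙 _ := by
  have h3 := IndAlg.good_etale.{u}.preIndSpreads
  obtain ⟨j, T', f', g', hpo, hf'⟩ := h3.exists_isPushout (colimit.isColimit (towerF A)) f hf.1
  have hff : f'.hom.FaithfullyFlat := by
    rw [RingHom.FaithfullyFlat.iff_flat_and_comap_surjective]
    refine ⟨?_, ?_⟩
    · let _ := f'.hom.toAlgebra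
      have h1 : Algebra.Etale ((towerF A).obj j) T' := hf'
      have h2 : Module.Flat ((towerF A).obj j) T' := inferInstance
      exact h2
    · have h1 : ((colimit.ι (towerF A) j) ≫ f).hom.FaithfullyFlat :=
        FFm.comp_mem _ _ (ι_zero_ff A j) hf.2
      have h2 : (f' ≫ g').hom.FaithfullyFlat := by
        rw [← hpo.w]
        exact h1
      rw [RingHom.FaithfullyFlat.iff_flat_and_comap_surjective] at h2
      intro x
      obtain ⟨y, hy⟩ := h2.2 x
      refine ⟨PrimeSpectrum.comap g'.hom y, ?_⟩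
      rw [← hy]
      rfl
  obtain ⟨h, hh⟩ := exists_lift_next A j.down f' ⟨hf', hff⟩
  have hw : colimit.ι (towerF A) j ≫ 𝟙 _ = f' ≫ h ≫ colimit.ι (towerF A) ⟨j.down + 1⟩ := by
    rw [Category.comp_id]
    refine Eq.trans ?_ (Category.assoc _ _ _)
    refine Eq.trans ?_ (congrArg (· ≫ colimit.ι (towerF A) ⟨j.down + 1⟩) hh.symm)
    exact (colimit.w (towerF A) (homOfLE (Nat.le_succ j.down) :
      (⟨j.down⟩ : ULift.{u} ℕ) ⟶ ⟨j.down + 1⟩)).symm
  exact ⟨hpo.desc (𝟙 _) (h ≫ colimit.ι (towerF A) ⟨j.down + 1⟩) hw, hpo.inl_desc _ _ _⟩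

/-- Stacks 097R. -/
theorem exists_indEtale (A : Type u) [CommRing A] :
    ∃ (C : Type u) (_ : CommRing C) (_ : Algebra A C),
      Module.FaithfullyFlat A C ∧ EtPBC.IsIndEtale A C ∧ ProEtW.HasEtaleRetractions C := by
  let A' : CommRingCat.{u} := CommRingCat.of A
  let C : CommRingCat.{u} := colimit (towerF A')
  let φ : A' ⟶ C := colimit.ι (towerF A') ⟨0⟩
  let _ : Algebra A C := φ.hom.toAlgebra
  refine ⟨C, inferInstance, inferInstance, ι_zero_ff A' ⟨0⟩, ?_, ?_⟩
  · rw [IndAlg.isIndEtale_iff_indAlg, IndAlg.indAlg_iff_mp]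
    exact ι_zero_ie A'
  · intro B _ _ hB1 hB2
    obtain ⟨g, hg⟩ := exists_retraction A' (B := CommRingCat.of B)
      (CommRingCat.ofHom (algebraMap C B))
      ⟨RingHom.etale_algebraMap.2 hB2, (RingHom.faithfullyFlat_algebraMap_iff).2 hB1⟩
    refine ⟨{ g.hom with commutes' := fun x => ?_ }⟩
    exact congr(($hg).hom x)

end Groth.Agent.Sga4A.IndEtTower
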