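import Groth.Agent.EtpbcA.TorsionColim
import Groth.Agent.EtpbcA.SuppCons
import Groth.Agent.EtpbcA.KilledBy
import Groth.Agent.EtpbcA.SuppClosed

/-!
# Torsion sheaves vanishing at the generic point
-/

set_option autoImplicit false
universe u
open CategoryTheory CategoryTheory.Limits AlgebraicGeometry Opposite

namespace Groth.Agent.Sga4A.GenericVan

open Groth.Agent.EtpbcA Groth.Agent.EtpbcA.Present Groth.Agent.EtpbcA.Compact
  Groth.Agent.EtpbcA.FiltColimCrit Groth.Agent.EtpbcA.StalkTools Groth.Agent.EtpbcA.FinType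
  Groth.Agent.EtpbcA.Jshriek Groth.Agent.EtpbcA.TorsionColim

variable {X : Scheme.{u}}

/-- A constructible sheaf has a finite stalk at some geometric point above any given point. -/
theorem exists_point_finite_stalk [CompactSpace X] [QuasiSeparatedSpace X] {G : EtCoh.Ab X}
    (hG : EtPBC.IsConstructible G) (x : X) :
    ∃ (Ω : Type u) (_ : Field Ω) (_ : IsSepClosed Ω) (ξ : Spec (CommRingCat.of Ω) ⟶ X),
      Set.range ξ = {x} ∧ Finite ((EtCoh.stalk ξ).obj G : Type (u + 1)) := by
  obtain ⟨n, T, g, hg, -, -, hun, hflc⟩ := (StrataGlob.isConstructible_iff_univ G).mp hG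
  have : x ∈ ⋃ i, Set.range (g i) := hun ▸ Set.mem_univ _
  obtain ⟨i, y, rfl⟩ := Set.mem_iUnion.mp this
  obtain ⟨Ω, _, _, ζ, hζ⟩ := Artin.exists_point y
  let e := (Etbase.StalkPull.stalkPullIso (g i) ζ).app G
  have hfin : Finite ((EtCoh.pull (g i) ⋙ EtCoh.stalk ζ).obj G : Type (u + 1)) :=
    KilledBy.finite_stalk_of_isFLC (hflc i) ζ
  refine ⟨Ω, inferInstance, inferInstance, ζ ≫ g i, ?_, ?_⟩
  · rw [Artin.range_eq_iff] at hζ ⊢
    rw [Scheme.Hom.comp_apply, hζ]
  · exact Finite.of_injective (fun a => e.hom a)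
      (ConcreteCategory.bijective_of_isIso e.hom).1

/-- All positive integers. -/
abbrev posInt : Set ℕ := {m : ℕ | 0 < m}

theorem exists_kill {Ω : Type u} [Field Ω] [IsSepClosed Ω] [CompactSpace X] [QuasiSeparatedSpace X]
    (ξ : Spec (.of Ω) ⟶ X) (F : EtCoh.Ab X)
    (hF : IsZero ((EtCoh.stalk ξ).obj F)) (n : ℕ) :
    ∀ (G : EtCoh.Ab X) (_ : consM X posInt G) [Finite ((EtCoh.stalk ξ).obj G : Type (u + 1))]
      (_ : Nat.card ((EtCoh.stalk ξ).obj G : Type (u + 1)) ≤ n) (φ : G ⟶ F),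
      ∃ (A : EtCoh.Ab X) (π : G ⟶ A) (f : A ⟶ F), Epi π ∧ π ≫ f = φ ∧ consM X posInt A ∧
        IsZero ((EtCoh.stalk ξ).obj A) := by
  induction n with
  | zero =>
    intro G hG _ hn φ
    have := Nat.card_pos (α := ((EtCoh.stalk ξ).obj G : Type (u + 1)))
    omega
  | succ n ih =>
    intro G hG hfin hn φ
    by_cases hsub : Subsingleton ((EtCoh.stalk ξ).obj G : Type (u + 1))
    · exact ⟨G, 𝟙 G, φ, inferInstance, Category.id_comp _, hG,
        AddCommGrpCat.isZero_of_subsingleton _⟩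
    · obtain ⟨y, hy⟩ : ∃ y : ((EtCoh.stalk ξ).obj G : Type (u + 1)), y ≠ 0 := by
        by_contra h
        push Not at h
        exact hsub ⟨fun a b => (h a).trans (h b).symm⟩
      obtain ⟨U, x, s, rfl⟩ := germ_surj ξ y
      have hFs := AddCommGrpCat.subsingleton_of_isZero hF
      have h1 : germ ξ x (φ.hom.app (op U) s) = germ ξ x 0 := Subsingleton.elim _ _
      obtain ⟨V, g, v, rfl, hg⟩ := (germ_eq_iff ξ x _ _).1 h1
      obtain ⟨W, hW, l, w, hw⟩ := exists_affine_nhd V (fibPt ξ v)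
      obtain ⟨z, rfl, hz⟩ := exists_fib_lift ξ l v w hw
      obtain ⟨hGc, m, hm, hk⟩ := hG
      let t : EtCoh.sect G W := G.obj.map l.op (G.obj.map g.op s)
      have ht : m • t = 0 := hk _ _
      let ψ := ofSect W m t ht
      have hψ : ψ ≫ φ = 0 := by
        apply ext_e
        change φ.hom.app (op W) (ψ.hom.app (op W) (e W m)) = 0
        rw [ofSect_e]
        have h2 := ConcreteCategory.congr_hom (φ.hom.naturality l.op) (G.obj.map g.op s)
        have h3 := ConcreteCategory.congr_hom (φ.hom.naturality g.op) s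
        refine h2.trans ?_
        change F.obj.map l.op (φ.hom.app (op V) (G.obj.map g.op s)) = 0
        have h4 : φ.hom.app (op V) (G.obj.map g.op s) = 0 := by
          refine h3.trans ?_
          refine hg.trans ?_
          rw [map_zero]
        rw [h4, map_zero]
      let G' := cokernel ψ
      let π₁ := cokernel.π ψ
      have hG' : consM X posInt G' := (cl_consM dir_pos).cokernel _ _ ψ
        (consM_extZeroConst dir_pos W m hm) ⟨hGc, m, hm, hk⟩
      let p := (EtCoh.stalk ξ).map π₁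
      have hps : Function.Surjective p := (AddCommGrpCat.epi_iff_surjective p).1 inferInstance
      have hfin' : Finite ((EtCoh.stalk ξ).obj G' : Type (u + 1)) := Finite.of_surjective _ hps
      have hp0 : p (germ ξ ((Scheme.pointSmallEtale ξ).fiber.map g
          ((Scheme.pointSmallEtale ξ).fiber.map l z)) s) = 0 := by
        rw [← germ_res, ← germ_res]
        change (EtCoh.stalk ξ).map π₁ (germ ξ z t) = 0
        rw [stalk_map_germ]
        have h5 := congrArg (fun q : EtPBC.extZeroConst W (ZMod m) ⟶ cokernel ψ =>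
          q.hom.app (op W) (e W m)) (cokernel.condition ψ)
        have h6 : π₁.hom.app (op W) t = 0 := by
          refine Eq.trans ?_ h5
          change _ = π₁.hom.app (op W) (ψ.hom.app (op W) (e W m))
          rw [ofSect_e]
        rw [h6]
        exact map_zero ((Scheme.pointSmallEtale ξ).toPresheafFiber W z G'.obj).hom
      have hcard : Nat.card ((EtCoh.stalk ξ).obj G' : Type (u + 1)) <
          Nat.card ((EtCoh.stalk ξ).obj G : Type (u + 1)) := by
        refine lt_of_le_of_ne (Nat.card_le_card_of_surjective _ hps) ?_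
        intro heq
        have hbij := (Nat.bijective_iff_surjective_and_card p).2 ⟨hps, heq.symm⟩
        exact hy (hbij.1 (hp0.trans (map_zero p.hom).symm))
      obtain ⟨A, π, f, hπ, hf, hA, hA0⟩ := ih G' hG' (by omega) (cokernel.desc ψ φ hψ)
      refine ⟨A, π₁ ≫ π, f, epi_comp _ _, ?_, hA, hA0⟩
      rw [Category.assoc, hf]
      exact cokernel.π_desc _ _ _

/-- A constructible subset of an irreducible space either contains a neighbourhood of the generic
point or misses one. -/
theorem exists_open_of_isConstructible {T : Type*} [TopologicalSpace T] {η : T}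
    (hη : ∀ U : Set T, IsOpen U → U.Nonempty → η ∈ U) {E : Set T}
    (hE : Topology.IsConstructible E) :
    (η ∈ E → ∃ O : Set T, IsOpen O ∧ η ∈ O ∧ O ⊆ E) ∧
      (η ∉ E → ∃ O : Set T, IsOpen O ∧ η ∈ O ∧ O ⊆ Eᶜ) := by
  induction hE using Topology.IsConstructible.empty_union_induction with
  | open_retrocompact U hU _ =>
    refine ⟨fun h => ⟨U, hU, h, subset_rfl⟩, fun h => ⟨Set.univ, isOpen_univ, trivial, ?_⟩⟩
    rcases U.eq_empty_or_nonempty with h' | h'
    · rw [h', Set.compl_empty]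
    · exact (h (hη U hU h')).elim
  | union s hs t ht h1 h2 =>
    refine ⟨fun h => ?_, fun h => ?_⟩
    · rcases h with h | h
      · obtain ⟨O, hO, hηO, hOs⟩ := h1.1 h
        exact ⟨O, hO, hηO, hOs.trans Set.subset_union_left⟩
      · obtain ⟨O, hO, hηO, hOs⟩ := h2.1 h
        exact ⟨O, hO, hηO, hOs.trans Set.subset_union_right⟩
    · rw [Set.mem_union, not_or] at h
      obtain ⟨O, hO, hηO, hOs⟩ := h1.2 h.1
      obtain ⟨O', hO', hηO', hOs'⟩ := h2.2 h.2
      refine ⟨O ∩ O', hO.inter hO', ⟨hηO, hηO'⟩, ?_⟩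
      rw [Set.compl_union]
      exact Set.inter_subset_inter hOs hOs'
  | compl s hs h =>
    rw [compl_compl]
    exact ⟨fun h' => h.2 h', fun h' => h.1 (not_not.1 h')⟩

/-- The support of a constructible sheaf with vanishing generic stalk is not dense. -/
theorem exists_closed_of_isConstructible [CompactSpace X] [QuasiSeparatedSpace X]
    [IrreducibleSpace X] {G : EtCoh.Ab X} (hG : EtPBC.IsConstructible G)
    (h : genericPoint X ∉ EtPBC.supp G) :
    ∃ Z : Set X, IsClosed Z ∧ genericPoint X ∉ Z ∧ EtPBC.supp G ⊆ Z := by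
  obtain ⟨n, T, g, hg, hc, -, hun, hflc⟩ := (StrataGlob.isConstructible_iff_univ G).mp hG
  have : genericPoint X ∈ ⋃ i, Set.range (g i) := hun ▸ Set.mem_univ _
  obtain ⟨i, y, hy⟩ := Set.mem_iUnion.mp this
  have hci : Topology.IsConstructible (Set.range (g i)) := by
    have h0 := Topology.IsConstructible.preimage_of_isOpenEmbedding
      (f := (Homeomorph.Set.univ X).symm) (Homeomorph.Set.univ X).symm.isOpenEmbedding (hc i)
    exact h0
  have hη : ∀ U : Set X, IsOpen U → U.Nonempty → genericPoint X ∈ U := fun U hU hU' =>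
    ((genericPoint_spec X).mem_open_set_iff hU).2 (by simpa using hU')
  obtain ⟨O, hO, hηO, hOs⟩ := (exists_open_of_isConstructible hη hci).1 ⟨y, hy⟩
  have hC : IsClosed (EtPBC.supp ((EtCoh.pull (g i)).obj G)) := SuppCons.isClosed_supp_of_isFLC (hflc i)
  have := hg i
  obtain ⟨O', hO', hOO'⟩ := (g i).isEmbedding.isInducing.isOpen_iff.1 hC.isOpen_compl
  refine ⟨(O ∩ O')ᶜ, (hO.inter hO').isClosed_compl, ?_, ?_⟩
  · rw [Set.mem_compl_iff, not_not]
    refine ⟨hηO, ?_⟩
    have h1 : y ∈ g i ⁻¹' O' := by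
      rw [hOO', Artin.supp_pull, Set.mem_compl_iff, Set.mem_preimage, hy]
      exact h
    rw [← hy]
    exact h1
  · intro x hx hxO
    obtain ⟨z, rfl⟩ := hOs hxO.1
    have h1 : z ∈ g i ⁻¹' O' := hxO.2
    rw [hOO', Artin.supp_pull] at h1
    exact h1 hx

/-- Constructible sheaves with vanishing stalk at `η`. -/
def consV (X : Scheme.{u}) (η : X) : ObjectProperty (EtCoh.Ab X) :=
  fun F => consM X posInt F ∧ η ∉ EtPBC.supp F

instance essentiallySmall_consV [CompactSpace X] [QuasiSeparatedSpace X] (η : X) :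
    ObjectProperty.EssentiallySmall.{u + 1} (consV X η) :=
  ObjectProperty.EssentiallySmall.of_le (P := consV X η) (Q := consM X posInt) (fun _ h => h.1)

theorem cl_consV [CompactSpace X] [QuasiSeparatedSpace X] (η : X) : Cl (consV X η) where
  zero := by
    obtain ⟨Z, hZ, hPZ⟩ := (cl_consM (X := X) dir_pos).zero
    exact ⟨Z, hZ, hPZ, Artin.supp_eq_empty_of_isZero hZ η⟩
  biprod := by
    rintro A B ⟨hA, hA'⟩ ⟨hB, hB'⟩
    refine ⟨(cl_consM dir_pos).biprod A B hA hB, ?_⟩
    obtain ⟨Ω, _, _, ξ, hξ⟩ := Artin.exists_point η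
    rw [Artin.mem_supp_iff _ η ξ hξ, not_not] at hA' hB' ⊢
    have hadd : (EtCoh.stalk ξ).Additive := Etcore.Stalks.stalk_additive ξ
    rw [IsZero.iff_id_eq_zero, ← (EtCoh.stalk ξ).map_id, ← biprod.total, (EtCoh.stalk ξ).map_add,
      (EtCoh.stalk ξ).map_comp, (EtCoh.stalk ξ).map_comp, hA'.eq_of_tgt ((EtCoh.stalk ξ).map _) 0,
      hB'.eq_of_tgt ((EtCoh.stalk ξ).map _) 0, zero_comp, zero_comp, add_zero]
  cokernel := by
    rintro A B f ⟨hA, hA'⟩ ⟨hB, hB'⟩
    exact ⟨(cl_consM dir_pos).cokernel A B f hA hB,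
      fun h => hB' (SuppClosed.supp_of_epi (cokernel.π f) h)⟩

theorem exists_filtered_generic [CompactSpace X] [QuasiSeparatedSpace X] (η : X)
    (F : EtCoh.Ab X) (hF : EtCoh.IsTorsion F) (hη : η ∉ EtPBC.supp F) :
    ∃ (J : Type (u + 1)) (_ : SmallCategory J) (_ : IsFiltered J) (D : J ⥤ EtCoh.Ab X)
      (c : Cocone D) (_ : IsColimit c), (∀ j, consV X η (D.obj j)) ∧ Nonempty (c.pt ≅ F) := by
  apply exists_filtered (consV X η) (cl_consV η) F
  · intro U s x
    obtain ⟨V, g, ⟨v, hv⟩, h⟩ := hF U s x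
    obtain ⟨m, hm, h0⟩ := isOfFinAddOrder_iff_nsmul_eq_zero.1 h
    obtain ⟨W, hW, l, w, hw⟩ := exists_affine_nhd V v
    have h1 : m • F.obj.map (l ≫ g).op s = 0 := by
      rw [op_comp, Functor.map_comp]
      change m • F.obj.map l.op (F.obj.map g.op s) = 0
      rw [← map_nsmul, h0, map_zero]
    have hc := consM_extZeroConst (X := X) dir_pos W m hm
    obtain ⟨Ω, _, _, ξ, hξ, hfin⟩ := exists_point_finite_stalk hc.1 η
    rw [Artin.mem_supp_iff _ η ξ hξ, not_not] at hη
    obtain ⟨A, π, f, hπ, hf, hA, hA0⟩ := exists_kill ξ F hη _ _ hc le_rfl (ofSect W m _ h1)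
    refine ⟨A, ⟨hA, ?_⟩, f, ?_⟩
    · rw [Artin.mem_supp_iff _ η ξ hξ, not_not]
      exact hA0
    · apply locIm_comp π f
      rw [hf]
      refine ⟨W, l ≫ g, w, ?_, e W m, ofSect_e _ _ _ _⟩
      change (l.left ≫ g.left) w = x
      rw [Scheme.Hom.comp_apply, hw, hv]
  · rintro A ⟨⟨hA, a, ha, hka⟩, hA'⟩ f U t ht x
    obtain ⟨W, hW, l, w, hw⟩ := exists_affine_nhd U x
    have h1 : a • A.obj.map l.op t = 0 := by
      rw [← map_nsmul, hka, map_zero]
    let ψ := ofSect W a (A.obj.map l.op t) h1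
    have hψ : ψ ≫ f = 0 := by
      apply ext_e
      change f.hom.app (op W) (ψ.hom.app (op W) (e W a)) = 0
      rw [ofSect_e]
      have := ConcreteCategory.congr_hom (f.hom.naturality l.op) t
      refine this.trans ?_
      change F.obj.map l.op (f.hom.app (op U) t) = 0
      rw [ht, map_zero]
    refine ⟨W, l, w, hw, cokernel ψ, ⟨(cl_consM dir_pos).cokernel _ _ ψ
      (consM_extZeroConst dir_pos W a ha) ⟨hA, a, ha, hka⟩,
      fun h => hA' (SuppClosed.supp_of_epi (cokernel.π ψ) h)⟩,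
      cokernel.π ψ, cokernel.desc ψ f hψ, cokernel.π_desc _ _ _, ?_⟩
    have h2 := congrArg (fun z : EtPBC.extZeroConst W (ZMod a) ⟶ cokernel ψ =>
      z.hom.app (op W) (e W a)) (cokernel.condition ψ)
    refine Eq.trans ?_ h2
    change _ = (cokernel.π ψ).hom.app (op W) (ψ.hom.app (op W) (e W a))
    rw [ofSect_e]

end Groth.Agent.Sga4A.GenericVan
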