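import Groth.Agent.Sga4A.EtSubm

/-!
# SGA 4 VIII 9.1, 9.2: sections and morphisms of étale sheaves along submersive morphisms
-/

set_option autoImplicit false
universe u

open CategoryTheory CategoryTheory.Limits AlgebraicGeometry Opposite

namespace Groth.Agent.Sga4A.EtStalk

open EtDesc

variable {X' X : Scheme.{u}} (f : X' ⟶ X)

section

variable {Ω : Type u} [Field Ω] [IsSepClosed Ω]

theorem mapStk_canIso' (F : Sh X) (η : Spec (.of Ω) ⟶ X2 f) (ξ'₁ ξ'₂ : Spec (.of Ω) ⟶ X')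
    (ξ : Spec (.of Ω) ⟶ X) (e₁ : η ≫ pullback.fst f f = ξ'₁) (e₂ : η ≫ pullback.snd f f = ξ'₂)
    (h₁ : ξ'₁ ≫ f = ξ) (h₂ : ξ'₂ ≫ f = ξ) (σ : Stk F ξ) :
    mapStk (canIso f F).hom η (pullStk' (pullback.fst f f) _ η ξ'₁ e₁ (pullStk' f F ξ'₁ ξ h₁ σ)) =
      pullStk' (pullback.snd f f) _ η ξ'₂ e₂ (pullStk' f F ξ'₂ ξ h₂ σ) := by
  subst e₁ e₂ h₁
  have := mapStk_canIso f F η σ
  refine this.trans ?_
  rw [← pullStk'_rfl f F (η ≫ pullback.snd f f), pullStk'_castStk]
  rfl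

theorem castStk_germTop (F : Sh X) {ξ ξ' : Spec (.of Ω) ⟶ X} (h : ξ = ξ')
    (s : sect F (EtCoh.top X)) : castStk F h (germTop F ξ s) = germTop F ξ' s := by
  subst h; rfl

theorem mapStk_germTop {F G : Sh X} (a : F ⟶ G) (ξ : Spec (.of Ω) ⟶ X)
    (s : sect F (EtCoh.top X)) :
    mapStk a ξ (germTop F ξ s) = germTop G ξ (a.hom.app (op (EtCoh.top X)) s) :=
  mapStk_germ a _ _ s

theorem germTop_secPull' (F : Sh X) (s : sect F (EtCoh.top X)) (ξ' : Spec (.of Ω) ⟶ X')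
    (ξ : Spec (.of Ω) ⟶ X) (h : ξ' ≫ f = ξ) :
    germTop ((pullSh f).obj F) ξ' (secPull f F s) = pullStk' f F ξ' ξ h (germTop F ξ s) := by
  subst h
  exact germTop_secPull f F s ξ'

/-- Germs of the transport of a global section to `X ×_X X'`. -/
theorem germ_bcTop (F : Sh X') (s' : sect F (EtCoh.top X')) (m : Spec (.of Ω) ⟶
      ((EtCoh.bc f).obj (EtCoh.top X)).left) (ξ' : Spec (.of Ω) ⟶ X')
    (hm : m ≫ ((EtCoh.bc f).obj (EtCoh.top X)).hom = ξ') :
    germ F m hm (F.obj.map (EtCore.bcTopIso f).hom.op s') = germTop F ξ' s' := by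
  refine germ_res' F _ m hm (topPt ξ') (topPt_hom ξ') ?_ s'
  rw [bcTopIso_hom_left]
  exact hm

end

theorem secPull_eq (F : Sh X) (s : sect F (EtCoh.top X)) :
    secPull f F s = ((pullSh f).obj F).obj.map (EtCore.bcTopIso f).inv.op (pullSect f F s) := rfl

theorem map_bcTopIso_hom_inv (F : Sh X')
    (s : sect F ((EtCoh.bc f).obj (EtCoh.top X))) :
    F.obj.map (EtCore.bcTopIso f).hom.op (F.obj.map (EtCore.bcTopIso f).inv.op s) = s := by
  have : F.obj.map (EtCore.bcTopIso f).inv.op ≫ F.obj.map (EtCore.bcTopIso f).hom.op = 𝟙 _ := by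
    rw [← F.obj.map_comp, ← op_comp, Iso.hom_inv_id, op_id, F.obj.map_id]
  exact ConcreteCategory.congr_hom this s

theorem map_bcTopIso_inv_hom (F : Sh X') (s : sect F (EtCoh.top X')) :
    F.obj.map (EtCore.bcTopIso f).inv.op (F.obj.map (EtCore.bcTopIso f).hom.op s) = s := by
  have : F.obj.map (EtCore.bcTopIso f).hom.op ≫ F.obj.map (EtCore.bcTopIso f).inv.op = 𝟙 _ := by
    rw [← F.obj.map_comp, ← op_comp, Iso.inv_hom_id, op_id, F.obj.map_id]
  exact ConcreteCategory.congr_hom this s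

theorem secPull_injective (hf : EtSubmersive f) (F : Sh X) :
    Function.Injective (secPull f F) := by
  intro s t h
  rw [secPull_eq, secPull_eq] at h
  have h2 := congrArg (((pullSh f).obj F).obj.map (EtCore.bcTopIso f).hom.op) h
  rw [map_bcTopIso_hom_inv, map_bcTopIso_hom_inv] at h2
  exact pullSect_injective f F (hf _).surjective h2

/-- Global sections whose germs are compatible descend. -/
theorem exists_secPull_eq (hf : EtSubmersive f) (F : Sh X)
    (s' : sect ((pullSh f).obj F) (EtCoh.top X'))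
    (h : ∀ (Ω : Type u) [Field Ω] [IsSepClosed Ω] (ξ'₁ ξ'₂ : Spec (.of Ω) ⟶ X')
      (ξ : Spec (.of Ω) ⟶ X) (h₁ : ξ'₁ ≫ f = ξ) (h₂ : ξ'₂ ≫ f = ξ),
      (pullStk' f F ξ'₁ ξ h₁).symm (germTop _ ξ'₁ s') =
        (pullStk' f F ξ'₂ ξ h₂).symm (germTop _ ξ'₂ s')) :
    ∃ s, secPull f F s = s' := by
  obtain ⟨s, hs⟩ := exists_pullSect_eq f hf F (U := EtCoh.top X)
    (((pullSh f).obj F).obj.map (EtCore.bcTopIso f).hom.op s') (by
      intro Ω _ _ m₁ m₂ ξ e h₁ h₂
      rw [germ_bcTop, germ_bcTop]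
      exact h Ω _ _ ξ h₁ h₂)
  refine ⟨s, ?_⟩
  rw [secPull_eq, hs, map_bcTopIso_inv_hom]

theorem mapStk_canIso_secPull (F : Sh X) (s : sect F (EtCoh.top X))
    {Ω : Type u} [Field Ω] [IsSepClosed Ω] (η : Spec (.of Ω) ⟶ X2 f) :
    mapStk (canIso f F).hom η (germTop _ η
      (secPull (pullback.fst f f) ((pullSh f).obj F) (secPull f F s))) =
    germTop _ η (secPull (pullback.snd f f) ((pullSh f).obj F) (secPull f F s)) := by
  have h₁ := germTop_secPull' (pullback.fst f f) ((pullSh f).obj F) (secPull f F s) η _ rfl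
  have h₂ := germTop_secPull' (pullback.snd f f) ((pullSh f).obj F) (secPull f F s) η _ rfl
  have e : (η ≫ pullback.snd f f) ≫ f = (η ≫ pullback.fst f f) ≫ f := by
    rw [Category.assoc, ← pullback.condition, Category.assoc]
  rw [h₁, h₂, germTop_secPull' f F s (η ≫ pullback.fst f f) _ rfl,
      germTop_secPull' f F s (η ≫ pullback.snd f f) ((η ≫ pullback.fst f f) ≫ f) e]
  exact mapStk_canIso' f F η (η ≫ pullback.fst f f) (η ≫ pullback.snd f f)
    ((η ≫ pullback.fst f f) ≫ f) rfl rfl rfl e _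

/-- `mapStk_germTop` on the double fibre product (stated for a general morphism, to help the
kernel). -/
theorem mapStk_germTop_X2 {G₁ G₂ : Sh X'} (a : (pullSh (pullback.fst f f)).obj G₁ ⟶
      (pullSh (pullback.snd f f)).obj G₂) {Ω : Type u} [Field Ω] [IsSepClosed Ω]
    (η : Spec (.of Ω) ⟶ X2 f) (s : sect ((pullSh (pullback.fst f f)).obj G₁) (EtCoh.top (X2 f))) :
    mapStk a η (germTop _ η s) = germTop _ η (a.hom.app (op (EtCoh.top (X2 f))) s) :=
  mapStk_germTop a η s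

theorem eq_of_germTop_X2 {G₁ G₂ : Sh X'} (a : (pullSh (pullback.fst f f)).obj G₁ ⟶
      (pullSh (pullback.snd f f)).obj G₂)
    (s : sect ((pullSh (pullback.fst f f)).obj G₁) (EtCoh.top (X2 f)))
    (t : sect ((pullSh (pullback.snd f f)).obj G₂) (EtCoh.top (X2 f)))
    (h : ∀ (Ω : Type u) [Field Ω] [IsSepClosed Ω] (η : Spec (.of Ω) ⟶ X2 f),
      mapStk a η (germTop _ η s) = germTop _ η t) :
    a.hom.app (op (EtCoh.top (X2 f))) s = t := by
  refine secPull_ext _ _ _ (fun Ω _ _ η => ?_)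
  exact (mapStk_germTop_X2 f a η s).symm.trans (h Ω η)

theorem canIso_secPull (F : Sh X) (s : sect F (EtCoh.top X)) :
    (canIso f F).hom.hom.app (op (EtCoh.top (X2 f)))
      (secPull (pullback.fst f f) ((pullSh f).obj F) (secPull f F s)) =
    secPull (pullback.snd f f) ((pullSh f).obj F) (secPull f F s) := by
  exact eq_of_germTop_X2 f _ _ _ (fun Ω _ _ η => mapStk_canIso_secPull f F s η)

theorem germ_compat_of_canIso (F : Sh X) (s' : sect ((pullSh f).obj F) (EtCoh.top X'))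
    (hs' : (canIso f F).hom.hom.app (op (EtCoh.top (X2 f)))
          (secPull (pullback.fst f f) ((pullSh f).obj F) s') =
        secPull (pullback.snd f f) ((pullSh f).obj F) s')
    {Ω : Type u} [Field Ω] [IsSepClosed Ω] (ξ'₁ ξ'₂ : Spec (.of Ω) ⟶ X')
      (ξ : Spec (.of Ω) ⟶ X) (h₁ : ξ'₁ ≫ f = ξ) (h₂ : ξ'₂ ≫ f = ξ) :
      (pullStk' f F ξ'₁ ξ h₁).symm (germTop _ ξ'₁ s') =
        (pullStk' f F ξ'₂ ξ h₂).symm (germTop _ ξ'₂ s') := by
  rw [Equiv.eq_symm_apply]
  let η : Spec (.of Ω) ⟶ X2 f := pullback.lift ξ'₁ ξ'₂ (h₁.trans h₂.symm)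
  have e₁ : η ≫ pullback.fst f f = ξ'₁ := pullback.lift_fst _ _ _
  have e₂ : η ≫ pullback.snd f f = ξ'₂ := pullback.lift_snd _ _ _
  have k : mapStk (canIso f F).hom η (germTop _ η
      (secPull (pullback.fst f f) ((pullSh f).obj F) s')) =
      germTop _ η (secPull (pullback.snd f f) ((pullSh f).obj F) s') :=
    (mapStk_germTop_X2 f _ η _).trans (congrArg (germTop _ η) hs')
  rw [germTop_secPull' _ _ _ η _ e₁, germTop_secPull' _ _ _ η _ e₂] at k
  obtain ⟨σ, hσ⟩ := (pullStk' f F ξ'₁ ξ h₁).surjective (germTop _ ξ'₁ s')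
  rw [← hσ, mapStk_canIso' f F η _ _ _ e₁ e₂ h₁ h₂] at k
  rw [← hσ, Equiv.symm_apply_apply]
  exact (pullStk' _ _ _ _ _).injective k

theorem range_secPull (hf : EtSubmersive f) (F : Sh X) :
    Set.range (secPull f F) =
      {s' | (canIso f F).hom.hom.app (op (EtCoh.top (X2 f)))
          (secPull (pullback.fst f f) ((pullSh f).obj F) s') =
        secPull (pullback.snd f f) ((pullSh f).obj F) s'} := by
  ext s'
  constructor
  · rintro ⟨s, rfl⟩
    exact canIso_secPull f F s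
  · intro hs'
    exact exists_secPull_eq f hf F s' (fun Ω _ _ ξ'₁ ξ'₂ ξ h₁ h₂ =>
      germ_compat_of_canIso f F s' hs' ξ'₁ ξ'₂ ξ h₁ h₂)

/-- Compatibility of a morphism with the canonical descent data, on stalks. -/
theorem compat_stk (F G : Sh X) (a : (pullSh f).obj F ⟶ (pullSh f).obj G)
    (ha : (canIso f F).hom ≫ (pullSh (pullback.snd f f)).map a =
      (pullSh (pullback.fst f f)).map a ≫ (canIso f G).hom)
    {Ω : Type u} [Field Ω] [IsSepClosed Ω] (ξ'₁ ξ'₂ : Spec (.of Ω) ⟶ X')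
    (ξ : Spec (.of Ω) ⟶ X) (h₁ : ξ'₁ ≫ f = ξ) (h₂ : ξ'₂ ≫ f = ξ) (σ : Stk F ξ) :
    (pullStk' f G ξ'₁ ξ h₁).symm (mapStk a ξ'₁ (pullStk' f F ξ'₁ ξ h₁ σ)) =
      (pullStk' f G ξ'₂ ξ h₂).symm (mapStk a ξ'₂ (pullStk' f F ξ'₂ ξ h₂ σ)) := by
  let η : Spec (.of Ω) ⟶ X2 f := pullback.lift ξ'₁ ξ'₂ (h₁.trans h₂.symm)
  have e₁ : η ≫ pullback.fst f f = ξ'₁ := pullback.lift_fst _ _ _
  have e₂ : η ≫ pullback.snd f f = ξ'₂ := pullback.lift_snd _ _ _
  have k := congrArg (fun b => mapStk b η (pullStk' (pullback.fst f f) _ η ξ'₁ e₁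
    (pullStk' f F ξ'₁ ξ h₁ σ))) ha
  simp only [mapStk_comp] at k
  rw [mapStk_canIso' f F η _ _ _ e₁ e₂ h₁ h₂, ← pullStk'_mapStk, ← pullStk'_mapStk] at k
  obtain ⟨τ, hτ⟩ := (pullStk' f G ξ'₁ ξ h₁).surjective (mapStk a ξ'₁ (pullStk' f F ξ'₁ ξ h₁ σ))
  rw [← hτ, mapStk_canIso' f G η _ _ _ e₁ e₂ h₁ h₂] at k
  rw [← hτ, Equiv.symm_apply_apply, Equiv.eq_symm_apply]
  exact ((pullStk' _ _ _ _ _).injective k).symm

/-- Morphisms compatible with the canonical descent data descend. -/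
theorem exists_map_eq (hf : EtSubmersive f) (F G : Sh X)
    (a : (pullSh f).obj F ⟶ (pullSh f).obj G)
    (ha : (canIso f F).hom ≫ (pullSh (pullback.snd f f)).map a =
      (pullSh (pullback.fst f f)).map a ≫ (canIso f G).hom) :
    ∃ b : F ⟶ G, (pullSh f).map b = a := by
  have key : ∀ (U : X.Etale) (s : sect F U), ∃ t : sect G U,
      pullSect f G t = a.hom.app (op ((EtCoh.bc f).obj U)) (pullSect f F s) := by
    intro U s
    refine exists_pullSect_eq f hf G _ ?_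
    intro Ω _ _ m₁ m₂ ξ e h₁ h₂
    have aux : ∀ (m : Spec (.of Ω) ⟶ ((EtCoh.bc f).obj U).left)
        (h : (m ≫ ((EtCoh.bc f).obj U).hom) ≫ f = ξ),
        germ ((pullSh f).obj G) m rfl
          (a.hom.app (op ((EtCoh.bc f).obj U)) (pullSect f F s)) =
        mapStk a _ (pullStk' f F _ ξ h (germ F (m ≫ bcFst f U)
          (by rw [← h, Category.assoc, Category.assoc, bc_condition]) s)) := by
      intro m h
      rw [← mapStk_germ, ← germ_pullSect]
    rw [aux m₁ h₁, aux m₂ h₂]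
    have e' : germ F (m₁ ≫ bcFst f U)
          (by rw [← h₁, Category.assoc, Category.assoc, bc_condition]) s =
        germ F (ξ := ξ) (m₂ ≫ bcFst f U)
          (by rw [← h₂, Category.assoc, Category.assoc, bc_condition]) s := by
      simp only [e]
    rw [e']
    exact compat_stk f F G a ha _ _ ξ h₁ h₂ _
  choose b hb using key
  have hinj : ∀ U : X.Etale, Function.Injective (pullSect f G (U := U)) := fun U =>
    pullSect_injective f G (hf U).surjective
  let β : F ⟶ G := ⟨{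
    app := fun U => TypeCat.ofHom (fun s => b U.unop s)
    naturality := by
      intro U V g
      ext s
      apply hinj
      change pullSect f G (b V.unop (F.obj.map g s)) = pullSect f G (G.obj.map g (b U.unop s))
      rw [hb]
      have h1 := pullSect_res f G g.unop (b U.unop s)
      have h2 := pullSect_res f F g.unop s
      rw [Quiver.Hom.op_unop] at h1 h2
      rw [h1, h2, hb]
      exact ConcreteCategory.congr_hom (a.hom.naturality _) _ }⟩
  have hβ : ∀ (U : X.Etale) (s : sect F U), β.hom.app (op U) s = b U s := fun U s => rfl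
  refine ⟨β, hom_ext_stk' _ _ (fun Ω _ _ ξ' σ' => ?_)⟩
  obtain ⟨σ, rfl⟩ := (pullStk f F ξ').surjective σ'
  obtain ⟨U, l, hl, s, rfl⟩ := exists_germ F σ
  rw [← pullStk_mapStk, mapStk_germ, pullStk_germ, pullStk_germ, mapStk_germ, hβ, hb]

end Groth.Agent.Sga4A.EtStalk
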