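import Groth.Agent.Sga4A.EtFam

/-!
# Effectivity of descent data for étale sheaves of sets from base change in degree zero
-/

set_option autoImplicit false
universe u

open CategoryTheory CategoryTheory.Limits AlgebraicGeometry Opposite

namespace Groth.Agent.Sga4A.EtStalk

open EtDesc

/-- Surjectivity of the base change map in degree zero for sheaves of sets: sections over a
geometric fibre extend to an étale neighbourhood. -/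
def BCsurj {T S : Scheme.{u}} (π : T ⟶ S) : Prop :=
  ∀ (G : Sh T) (Ω : Type u) [Field Ω] [IsSepClosed Ω] (ξ : Spec (.of Ω) ⟶ S)
    (γ : Fam G (pullback.fst π ξ)),
    ∃ (U : S.Etale) (l : Spec (.of Ω) ⟶ U.left) (_ : l ≫ U.hom = ξ)
      (b : sect G ((EtCoh.bc π).obj U)),
      ∀ {Ω' : Type u} [Field Ω'] [IsSepClosed Ω'] (ζ : Spec (.of Ω') ⟶ pullback π ξ)
        (ρ : Spec (.of Ω') ⟶ T) (h : ζ ≫ pullback.fst π ξ = ρ)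
        (h' : (ζ ≫ pullback.snd π ξ ≫ l) ≫ U.hom = ρ ≫ π),
        γ.val ζ ρ h = germ G (bcPt π ρ (ζ ≫ pullback.snd π ξ ≫ l) h') (bcPt_hom _ _ _ _) b

section TrFam

variable {Y Z W : Scheme.{u}} (p q : Z ⟶ Y) (F' : Sh Y) (φ : (pullSh p).obj F' ≅ (pullSh q).obj F')

/-- Transport of families along an isomorphism `p^* F' ≅ q^* F'`. -/
noncomputable def trFam (h : W ⟶ Z) (γ : Fam F' (h ≫ p)) : Fam F' (h ≫ q) :=
  ((Fam.toPull (g := p) γ).map φ.hom).fromPull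

theorem trFam_val (h : W ⟶ Z) (γ : Fam F' (h ≫ p)) {Ω : Type u} [Field Ω] [IsSepClosed Ω]
    (η : Spec (.of Ω) ⟶ W) (ζ : Spec (.of Ω) ⟶ Z) (e : η ≫ h = ζ) (ξ₁ ξ₂ : Spec (.of Ω) ⟶ Y)
    (h₁ : ζ ≫ p = ξ₁) (h₂ : ζ ≫ q = ξ₂) (e₁ : η ≫ h ≫ p = ξ₁) (e₂ : η ≫ h ≫ q = ξ₂) :
    (trFam p q F' φ h γ).val η ξ₂ e₂ = trAt p q F' φ ζ ξ₁ ξ₂ h₁ h₂ (γ.val η ξ₁ e₁) := by
  unfold trFam
  rw [Fam.fromPull_val _ η ζ ξ₂ e h₂ e₂, Fam.map_val, Fam.toPull_val γ η ζ ξ₁ e h₁ e₁]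
  rfl

end TrFam

section TrF

variable {X' X W : Scheme.{u}} (f : X' ⟶ X) (F' : Sh X')
  (φ : (pullSh (pullback.fst f f)).obj F' ≅ (pullSh (pullback.snd f f)).obj F')

/-- Transport of families by a descent datum. -/
noncomputable def trF (x₁ x₂ : W ⟶ X') (e : x₁ ≫ f = x₂ ≫ f) (γ : Fam F' x₁) : Fam F' x₂ :=
  (trFam (pullback.fst f f) (pullback.snd f f) F' φ (pullback.lift x₁ x₂ e)
    (γ.congr (pullback.lift_fst x₁ x₂ e).symm)).congr (pullback.lift_snd x₁ x₂ e)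

theorem trF_val (x₁ x₂ : W ⟶ X') (e : x₁ ≫ f = x₂ ≫ f) (γ : Fam F' x₁) {Ω : Type u} [Field Ω]
    [IsSepClosed Ω] (η : Spec (.of Ω) ⟶ W) (ξ₁ ξ₂ : Spec (.of Ω) ⟶ X') (h₁ : η ≫ x₁ = ξ₁)
    (h₂ : η ≫ x₂ = ξ₂) (e' : ξ₁ ≫ f = ξ₂ ≫ f) :
    (trF f F' φ x₁ x₂ e γ).val η ξ₂ h₂ = tr f F' φ ξ₁ ξ₂ e' (γ.val η ξ₁ h₁) := by
  unfold trF
  have k₁ : (η ≫ pullback.lift x₁ x₂ e) ≫ pullback.fst f f = ξ₁ := by
    rw [Category.assoc, pullback.lift_fst, h₁]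
  have k₂ : (η ≫ pullback.lift x₁ x₂ e) ≫ pullback.snd f f = ξ₂ := by
    rw [Category.assoc, pullback.lift_snd, h₂]
  rw [Fam.congr_val, trFam_val _ _ F' φ _ _ η (η ≫ pullback.lift x₁ x₂ e) rfl ξ₁ ξ₂ k₁ k₂
    (by rw [pullback.lift_fst, h₁]), trAt_eq_tr f F' φ _ ξ₁ ξ₂ e' k₁ k₂, Fam.congr_val]

theorem extStk_tr {Ω Ω' : Type u} [Field Ω] [IsSepClosed Ω] [Field Ω'] [IsSepClosed Ω']
    (α : Spec (.of Ω') ⟶ Spec (.of Ω)) (ξ₁ ξ₂ : Spec (.of Ω) ⟶ X') (e : ξ₁ ≫ f = ξ₂ ≫ f)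
    (ζ₁ ζ₂ : Spec (.of Ω') ⟶ X') (h₁ : α ≫ ξ₁ = ζ₁) (h₂ : α ≫ ξ₂ = ζ₂) (e' : ζ₁ ≫ f = ζ₂ ≫ f)
    (σ : Stk F' ξ₁) :
    extStk F' α ξ₂ ζ₂ h₂ (tr f F' φ ξ₁ ξ₂ e σ) =
      tr f F' φ ζ₁ ζ₂ e' (extStk F' α ξ₁ ζ₁ h₁ σ) := by
  have k₁ : α ≫ pairPt f ξ₁ ξ₂ e = pairPt f ζ₁ ζ₂ e' := by
    apply eq_pairPt f _ ζ₁ ζ₂ e'
    · rw [Category.assoc, pairPt_fst, h₁]
    · rw [Category.assoc, pairPt_snd, h₂]
  apply (pullStk' (pullback.snd f f) F' (pairPt f ζ₁ ζ₂ e') ζ₂ (pairPt_snd _ _ _ _)).injective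
  rw [pullStk'_tr f F' φ (pairPt f ζ₁ ζ₂ e') ζ₁ ζ₂ e' (pairPt_fst _ _ _ _) (pairPt_snd _ _ _ _),
    ← extStk_pullStk' (pullback.snd f f) F' α (pairPt f ξ₁ ξ₂ e) (pairPt f ζ₁ ζ₂ e') k₁ ξ₂ ζ₂
      (pairPt_snd _ _ _ _) (pairPt_snd _ _ _ _),
    pullStk'_tr f F' φ (pairPt f ξ₁ ξ₂ e) ξ₁ ξ₂ e (pairPt_fst _ _ _ _) (pairPt_snd _ _ _ _),
    extStk_mapStk, extStk_pullStk' (pullback.fst f f) F' α (pairPt f ξ₁ ξ₂ e) (pairPt f ζ₁ ζ₂ e')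
      k₁ ξ₁ ζ₁ (pairPt_fst _ _ _ _) (pairPt_fst _ _ _ _)]

end TrF

/-- Given a point of `Y` and a geometric point of `Z` with the same image in `S`, there is a
geometric point of `Y` at the given point compatible with a field extension. -/
theorem exists_geom_over {Y S : Scheme.{u}} (r : Y ⟶ S) {Ω : Type u} [Field Ω]
    (l : Spec (.of Ω) ⟶ S) (y : Y) (h : r y = l default) :
    ∃ (Ω' : Type u) (_ : Field Ω') (_ : IsSepClosed Ω') (α : Spec (.of Ω') ⟶ Spec (.of Ω))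
      (η : Spec (.of Ω') ⟶ Y), η default = y ∧ η ≫ r = α ≫ l := by
  obtain ⟨w, hw1, hw2⟩ := Scheme.Pullback.exists_preimage_pullback (f := r) (g := l) y default h
  obtain ⟨Ω', _, _, m, hm⟩ := exists_geomPoint _ w
  refine ⟨Ω', inferInstance, inferInstance, m ≫ pullback.snd r l, m ≫ pullback.fst r l, ?_, ?_⟩
  · rw [← hw1, ← hm]; rfl
  · rw [Category.assoc, Category.assoc, pullback.condition]

section D

variable {X' X : Scheme.{u}} (f : X' ⟶ X) {F' : Sh X'}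
  {φ : (pullSh (pullback.fst f f)).obj F' ≅ (pullSh (pullback.snd f f)).obj F'}

/-- The data entering the second part of the proof of Theorem D. -/
theorem liftsAt_of_family (hφ : IsCocycle F' φ) {Ω : Type u} [Field Ω] [IsSepClosed Ω]
    (ξ' : Spec (.of Ω) ⟶ X') (V₀ : X'.Etale) (m₀ : Spec (.of Ω) ⟶ V₀.left)
    (hm₀ : m₀ ≫ V₀.hom = ξ') (a₀ : sect F' V₀)
    {D T₁ : Scheme.{u}} (d : D ⟶ X) [Etale d] (l₁ : Spec (.of Ω) ⟶ D) (hl₁ : l₁ ≫ d = ξ' ≫ f)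
    (q₁ : T₁ ⟶ D) [UniversallyClosed q₁] [Surjective q₁] (g₁ : T₁ ⟶ X') (hg₁ : g₁ ≫ f = q₁ ≫ d)
    (β : Fam F' g₁)
    (hβ : ∀ {Ω' : Type u} [Field Ω'] [IsSepClosed Ω'] (t₁ t₂ : Spec (.of Ω') ⟶ T₁)
      (_ : t₁ ≫ q₁ = t₂ ≫ q₁) (ξ₁ ξ₂ : Spec (.of Ω') ⟶ X') (e : ξ₁ ≫ f = ξ₂ ≫ f)
      (h₁ : t₁ ≫ g₁ = ξ₁) (h₂ : t₂ ≫ g₁ = ξ₂),
      tr f F' φ ξ₁ ξ₂ e (β.val t₁ ξ₁ h₁) = β.val t₂ ξ₂ h₂)
    (hβ₀ : ∀ {Ω' : Type u} [Field Ω'] [IsSepClosed Ω'] (α : Spec (.of Ω') ⟶ Spec (.of Ω))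
      (t : Spec (.of Ω') ⟶ T₁) (_ : t ≫ q₁ = α ≫ l₁) (ξ₁ ξ₂ : Spec (.of Ω') ⟶ X')
      (e : ξ₁ ≫ f = ξ₂ ≫ f) (h₁ : (α ≫ m₀) ≫ V₀.hom = ξ₁) (h₂ : t ≫ g₁ = ξ₂),
      β.val t ξ₂ h₂ = tr f F' φ ξ₁ ξ₂ e (germ F' (α ≫ m₀) h₁ a₀)) :
    ∃ (U : X.Etale) (l : Spec (.of Ω) ⟶ U.left) (hl : l ≫ U.hom = ξ' ≫ f)
      (s : sect F' ((EtCoh.bc f).obj U)), Compat f F' φ s ∧
        germ F' (bcPt f ξ' l hl) (bcPt_hom _ _ _ _) s = germ F' m₀ hm₀ a₀ := by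
  let U₁ : X.Etale := Scheme.Etale.mk d
  let X'D := ((EtCoh.bc f).obj U₁).left
  let fst' : X'D ⟶ D := bcFst f U₁
  let hom' : X'D ⟶ X' := ((EtCoh.bc f).obj U₁).hom
  have hcond : fst' ≫ d = hom' ≫ f := bc_condition f U₁
  let Z := pullback q₁ fst'
  let z₁ : Z ⟶ T₁ := pullback.fst q₁ fst'
  let q : Z ⟶ X'D := pullback.snd q₁ fst'
  have hzq : z₁ ≫ q₁ = q ≫ fst' := pullback.condition
  have hx : (z₁ ≫ g₁) ≫ f = (q ≫ hom') ≫ f := by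
    rw [Category.assoc, hg₁, reassoc_of% hzq, hcond, Category.assoc]
  have hqs : EtSubmersive q := by
    have h1 : Surjective (pullback.snd q₁ fst') := inferInstance
    have h2 : UniversallyClosed (pullback.snd q₁ fst') := inferInstance
    exact etSubmersive_of_universallyClosed (pullback.snd q₁ fst')
  let δ₀ : Fam F' (q ≫ hom') := trF f F' φ (z₁ ≫ g₁) (q ≫ hom') hx (β.pull z₁)
  have hδ₀ : ∀ {Ω' : Type u} [Field Ω'] [IsSepClosed Ω'] (z : Spec (.of Ω') ⟶ Z)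
      (ξ₁ ξ₂ : Spec (.of Ω') ⟶ X') (e : ξ₁ ≫ f = ξ₂ ≫ f) (h₁ : (z ≫ z₁) ≫ g₁ = ξ₁)
      (h₂ : z ≫ q ≫ hom' = ξ₂),
      δ₀.val z ξ₂ h₂ = tr f F' φ ξ₁ ξ₂ e (β.val (z ≫ z₁) ξ₁ h₁) := by
    intro Ω' _ _ z ξ₁ ξ₂ e h₁ h₂
    exact trF_val f F' φ (z₁ ≫ g₁) (q ≫ hom') hx (β.pull z₁) z ξ₁ ξ₂
      (by rw [← h₁, Category.assoc]) h₂ e
  obtain ⟨δ, hδ⟩ := Fam.exists_descend (g := hom') hqs δ₀ (by
    intro Ω' _ _ z z' hz ξ h₁ h₂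
    have e1 : ((z ≫ z₁) ≫ g₁) ≫ f = ξ ≫ f := by
      rw [← h₁]; simp only [Category.assoc] at hx ⊢; rw [hx]
    have e2 : ((z' ≫ z₁) ≫ g₁) ≫ f = ξ ≫ f := by
      rw [← h₂]; simp only [Category.assoc] at hx ⊢; rw [hx]
    rw [hδ₀ z _ ξ e1 rfl h₁, hδ₀ z' _ ξ e2 rfl h₂]
    have e3 : (z ≫ z₁) ≫ q₁ = (z' ≫ z₁) ≫ q₁ := by
      rw [Category.assoc, hzq, Category.assoc, hzq, reassoc_of% hz]
    rw [← hβ (z ≫ z₁) (z' ≫ z₁) e3 _ _ (e1.trans e2.symm) rfl rfl, tr_tr f hφ])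
  obtain ⟨s, hs⟩ := Fam.exists_sect (U := (EtCoh.bc f).obj U₁) δ
  -- the germ of `s` at a point which lifts to `T₁`
  have key : ∀ {Ω' : Type u} [Field Ω'] [IsSepClosed Ω'] (t : Spec (.of Ω') ⟶ T₁)
      (m : Spec (.of Ω') ⟶ X'D) (_ : t ≫ q₁ = m ≫ fst') (ξ₁ ξ₂ : Spec (.of Ω') ⟶ X')
      (e : ξ₁ ≫ f = ξ₂ ≫ f) (h₁ : t ≫ g₁ = ξ₁) (h₂ : m ≫ hom' = ξ₂),
      germ F' (U := (EtCoh.bc f).obj U₁) m h₂ s = tr f F' φ ξ₁ ξ₂ e (β.val t ξ₁ h₁) := by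
    intro Ω' _ _ t m htm ξ₁ ξ₂ e h₁ h₂
    let z : Spec (.of Ω') ⟶ Z := pullback.lift t m htm
    have hz1 : z ≫ z₁ = t := pullback.lift_fst _ _ _
    have hz2 : z ≫ q = m := pullback.lift_snd _ _ _
    rw [hs m ξ₂ h₂]
    have h3 : (z ≫ q) ≫ hom' = ξ₂ := by rw [hz2, h₂]
    rw [← δ.val_congr hz2 ξ₂ h3, hδ z ξ₂ h3 (by rw [← h3, Category.assoc]),
      hδ₀ z ξ₁ ξ₂ e (by rw [hz1, h₁]) _]
    congr 1
    exact β.val_congr hz1 _ _ _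
  refine ⟨U₁, l₁, hl₁, s, ?_, ?_⟩
  · intro Ω' _ _ m₁ m₂ hm ξ₁ ξ₂ e h₁ h₂
    obtain ⟨y, hy⟩ := q₁.surjective ((m₁ ≫ fst') default)
    obtain ⟨Ω'', _, _, α, t, -, ht⟩ := exists_geom_over q₁ (m₁ ≫ fst') y hy
    have et : t ≫ q₁ = (α ≫ m₁) ≫ fst' := by rw [ht, Category.assoc]
    have et' : t ≫ q₁ = (α ≫ m₂) ≫ fst' := by
      rw [ht, Category.assoc]; exact congrArg (α ≫ ·) hm
    have k₁ : (t ≫ g₁) ≫ f = (α ≫ ξ₁) ≫ f := by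
      rw [Category.assoc, hg₁, ← Category.assoc, et, Category.assoc, hcond, ← h₁]
      simp only [Category.assoc]; rfl
    have k₂ : (t ≫ g₁) ≫ f = (α ≫ ξ₂) ≫ f := by
      rw [k₁, Category.assoc, e, Category.assoc]
    have c₁ := key t (α ≫ m₁) et (t ≫ g₁) (α ≫ ξ₁) k₁ rfl (by rw [Category.assoc]; exact congrArg _ h₁)
    have c₂ := key t (α ≫ m₂) et' (t ≫ g₁) (α ≫ ξ₂) k₂ rfl (by rw [Category.assoc]; exact congrArg _ h₂)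
    apply extStk_injective F' α ξ₂ (α ≫ ξ₂) rfl
    rw [extStk_tr f F' φ α ξ₁ ξ₂ e (α ≫ ξ₁) (α ≫ ξ₂) rfl rfl (k₁.symm.trans k₂), extStk_germ,
      extStk_germ]
    refine (congrArg _ c₁).trans (Eq.trans ?_ c₂.symm)
    rw [tr_tr f hφ]
  · obtain ⟨y, hy⟩ := q₁.surjective (l₁ default)
    obtain ⟨Ω', _, _, α, t, -, ht⟩ := exists_geom_over q₁ l₁ y hy
    have hb : bcPt f ξ' (U := U₁) l₁ hl₁ ≫ fst' = l₁ := bcPt_fst _ _ _ _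
    have hb' : bcPt f ξ' (U := U₁) l₁ hl₁ ≫ hom' = ξ' := bcPt_hom _ _ _ _
    have k₁ : (t ≫ g₁) ≫ f = (α ≫ ξ') ≫ f := by
      rw [Category.assoc, hg₁, ← Category.assoc, ht, Category.assoc, hl₁, Category.assoc]
    have c := key t (α ≫ bcPt f ξ' (U := U₁) l₁ hl₁) (by rw [ht, Category.assoc, hb])
      (t ≫ g₁) (α ≫ ξ') k₁ rfl (by rw [Category.assoc, hb'])
    rw [hβ₀ α t ht (α ≫ ξ') (t ≫ g₁) k₁.symm (by rw [Category.assoc, hm₀]) rfl, tr_tr f hφ,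
      tr_self f hφ] at c
    apply extStk_injective F' α ξ' (α ≫ ξ') rfl
    rw [extStk_germ, extStk_germ]
    exact c

/-- **Theorem D**, local form. -/
theorem liftsAt_of_BC (hφ : IsCocycle F' φ) {Ω : Type u} [Field Ω] [IsSepClosed Ω]
    (ξ' : Spec (.of Ω) ⟶ X') (U₀ : X.Etale) (l₀ : Spec (.of Ω) ⟶ U₀.left)
    (hl₀ : l₀ ≫ U₀.hom = ξ' ≫ f) {T : Scheme.{u}} (π : T ⟶ U₀.left) [UniversallyClosed π]
    [Surjective π] (hBC : BCsurj π) (g : T ⟶ X') (hg : g ≫ f = π ≫ U₀.hom) :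
    LiftsAt f F' φ ξ' := by
  intro σ
  obtain ⟨V₀, m₀, hm₀, a₀, rfl⟩ := exists_germ F' σ
  let prT := pullback.fst π l₀
  let prΩ := pullback.snd π l₀
  have hpr : prT ≫ π = prΩ ≫ l₀ := pullback.condition
  have hx : (prΩ ≫ ξ') ≫ f = (prT ≫ g) ≫ f := by
    rw [Category.assoc, ← hl₀, Category.assoc, hg, reassoc_of% hpr]
  let γ₀ : Fam F' (prΩ ≫ ξ') := ((Fam.ofSect a₀).pull (prΩ ≫ m₀)).congr
    (by rw [Category.assoc, hm₀])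
  have hγ₀ : ∀ {Ω' : Type u} [Field Ω'] [IsSepClosed Ω'] (ζ : Spec (.of Ω') ⟶ pullback π l₀)
      (ξ₁ : Spec (.of Ω') ⟶ X') (h : ζ ≫ prΩ ≫ ξ' = ξ₁)
      (h' : ((ζ ≫ prΩ) ≫ m₀) ≫ V₀.hom = ξ₁),
      γ₀.val ζ ξ₁ h = germ F' ((ζ ≫ prΩ) ≫ m₀) h' a₀ := by
    intro Ω' _ _ ζ ξ₁ h h'
    exact (Fam.congr_val _ _ _ _ _)
  let γ₁ : Fam F' (prT ≫ g) := trF f F' φ (prΩ ≫ ξ') (prT ≫ g) hx γ₀
  obtain ⟨U, l, hl, b, hb⟩ := hBC ((pullSh g).obj F') Ω l₀ (Fam.toPull (g := g) γ₁)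
  let TU := ((EtCoh.bc π).obj U).left
  let fstU : TU ⟶ U.left := bcFst π U
  let homU : TU ⟶ T := ((EtCoh.bc π).obj U).hom
  have hcU : fstU ≫ U.hom = homU ≫ π := bc_condition π U
  let β : Fam F' (homU ≫ g) := Fam.ofPullSect (V := (EtCoh.bc π).obj U) b
  -- the value of `β` along the fibre
  have hβ₀ : ∀ {Ω' : Type u} [Field Ω'] [IsSepClosed Ω'] (α : Spec (.of Ω') ⟶ Spec (.of Ω))
      (t : Spec (.of Ω') ⟶ TU) (_ : t ≫ fstU = α ≫ l) (ξ₁ ξ₂ : Spec (.of Ω') ⟶ X')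
      (e : ξ₁ ≫ f = ξ₂ ≫ f) (h₁ : (α ≫ m₀) ≫ V₀.hom = ξ₁) (h₂ : t ≫ homU ≫ g = ξ₂),
      β.val t ξ₂ h₂ = tr f F' φ ξ₁ ξ₂ e (germ F' (α ≫ m₀) h₁ a₀) := by
    intro Ω' _ _ α t ht ξ₁ ξ₂ e h₁ h₂
    have k1 : (t ≫ homU) ≫ π = α ≫ l₀ := by
      rw [Category.assoc, ← hcU, reassoc_of% ht, hl]
    let ζ : Spec (.of Ω') ⟶ pullback π l₀ := pullback.lift (t ≫ homU) α k1
    have hζ1 : ζ ≫ prT = t ≫ homU := pullback.lift_fst _ _ _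
    have hζ2 : ζ ≫ prΩ = α := pullback.lift_snd _ _ _
    have k2 : (t ≫ homU) ≫ g = ξ₂ := by rw [Category.assoc, h₂]
    have k3 : (ζ ≫ prΩ ≫ l) ≫ U.hom = (t ≫ homU) ≫ π := by
      rw [reassoc_of% hζ2, Category.assoc, hl, k1]
    have c := hb ζ (t ≫ homU) hζ1 k3
    have k4 : bcPt π (t ≫ homU) (ζ ≫ prΩ ≫ l) k3 = t := by
      apply hom_ext_bc
      · rw [bcPt_fst, reassoc_of% hζ2]; exact ht.symm
      · rw [bcPt_hom]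
    have k5 : ζ ≫ prT ≫ g = ξ₂ := by rw [reassoc_of% hζ1, h₂]
    rw [Fam.toPull_val γ₁ ζ (t ≫ homU) ξ₂ hζ1 k2 k5] at c
    have c2 : β.val t ξ₂ h₂ = (pullStk' g F' (t ≫ homU) ξ₂ k2).symm
        (germ ((pullSh g).obj F') (U := (EtCoh.bc π).obj U) t rfl b) :=
      Fam.ofPullSect_val (V := (EtCoh.bc π).obj U) b t (t ≫ homU) ξ₂ h₂ rfl k2
    have c3 : germ ((pullSh g).obj F') (U := (EtCoh.bc π).obj U) t rfl b =
        germ ((pullSh g).obj F') (bcPt π (t ≫ homU) (ζ ≫ prΩ ≫ l) k3) (bcPt_hom _ _ _ _) b := by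
      simp only [k4]
    rw [c2, c3]
    refine ((Equiv.symm_apply_eq _).2 c.symm).trans ?_
    have k6 : ζ ≫ prΩ ≫ ξ' = ξ₁ := by rw [reassoc_of% hζ2, ← hm₀, ← h₁, Category.assoc]
    refine (trF_val f F' φ (prΩ ≫ ξ') (prT ≫ g) hx γ₀ ζ ξ₁ ξ₂ k6 k5 e).trans ?_
    rw [hγ₀ ζ ξ₁ k6 (by rw [hζ2, h₁])]
    simp only [hζ2]
  -- the agreement locus on `T_U ×_U T_U`
  let W := pullback fstU fstU
  let w₁ : W ⟶ TU := pullback.fst fstU fstU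
  let w₂ : W ⟶ TU := pullback.snd fstU fstU
  have hw : w₁ ≫ fstU = w₂ ≫ fstU := pullback.condition
  have hxw : (w₁ ≫ homU ≫ g) ≫ f = (w₂ ≫ homU ≫ g) ≫ f := by
    simp only [Category.assoc]
    rw [hg, ← reassoc_of% hcU, reassoc_of% hw]
  let β₁ : Fam F' (w₂ ≫ homU ≫ g) := trF f F' φ (w₁ ≫ homU ≫ g) (w₂ ≫ homU ≫ g) hxw (β.pull w₁)
  let β₂ : Fam F' (w₂ ≫ homU ≫ g) := β.pull w₂
  let A := Fam.Agree β₁ β₂
  have hA : IsOpen A := Fam.isOpen_Agree _ _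
  let r : W ⟶ U.left := w₁ ≫ fstU
  have hrA : ∀ w : W, r w = l default → w ∈ A := by
    intro w hw'
    obtain ⟨Ω', _, _, α, η, rfl, hη⟩ := exists_geom_over r l w hw'
    have e₁ : (η ≫ w₁) ≫ fstU = α ≫ l := by rw [← hη, Category.assoc]
    have e₂ : (η ≫ w₂) ≫ fstU = α ≫ l := by rw [← e₁, Category.assoc, ← hw, Category.assoc]
    rw [Fam.mem_agree_iff β₁ β₂ η (η ≫ w₂ ≫ homU ≫ g) rfl]
    have e3 : (η ≫ w₁ ≫ homU ≫ g) ≫ f = (η ≫ w₂ ≫ homU ≫ g) ≫ f := by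
      rw [Category.assoc, hxw]; simp only [Category.assoc]
    have e4 : ((α ≫ m₀) ≫ V₀.hom) ≫ f = (η ≫ w₁ ≫ homU ≫ g) ≫ f := by
      have : (η ≫ w₁ ≫ homU ≫ g) ≫ f = (((η ≫ w₁) ≫ fstU) ≫ U.hom) ≫ U₀.hom := by
        simp only [Category.assoc]
        rw [hg, ← reassoc_of% hcU]
      have e4a : (α ≫ m₀) ≫ V₀.hom = α ≫ ξ' := by rw [Category.assoc, hm₀]
      rw [this, e₁, e4a, Category.assoc, ← hl₀, ← hl]
      simp only [Category.assoc]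
    have c1 := trF_val f F' φ (w₁ ≫ homU ≫ g) (w₂ ≫ homU ≫ g) hxw (β.pull w₁) η
      (η ≫ w₁ ≫ homU ≫ g) (η ≫ w₂ ≫ homU ≫ g) rfl rfl e3
    refine c1.trans ?_
    have c2 : (β.pull w₁).val η (η ≫ w₁ ≫ homU ≫ g) rfl =
        tr f F' φ ((α ≫ m₀) ≫ V₀.hom) (η ≫ w₁ ≫ homU ≫ g) e4 (germ F' (α ≫ m₀) rfl a₀) :=
      hβ₀ α (η ≫ w₁) e₁ _ _ e4 rfl (Category.assoc _ _ _)
    have c3 : β₂.val η (η ≫ w₂ ≫ homU ≫ g) rfl =
        tr f F' φ ((α ≫ m₀) ≫ V₀.hom) (η ≫ w₂ ≫ homU ≫ g) (e4.trans e3)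
          (germ F' (α ≫ m₀) rfl a₀) :=
      hβ₀ α (η ≫ w₂) e₂ _ _ (e4.trans e3) rfl (Category.assoc _ _ _)
    rw [c2, c3, tr_tr f hφ]
  have hcl : UniversallyClosed fstU := by
    have : UniversallyClosed (pullback.fst U.hom π) := inferInstance
    exact this
  have hsu : Surjective fstU := by
    have : Surjective (pullback.fst U.hom π) := inferInstance
    exact this
  have hclr : IsClosedMap r := by
    have : UniversallyClosed (pullback.fst fstU fstU) := inferInstance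
    have h2 : UniversallyClosed (pullback.fst fstU fstU ≫ fstU) := inferInstance
    exact (pullback.fst fstU fstU ≫ fstU).isClosedMap
  let D : U.left.Opens := ⟨(r '' Aᶜ)ᶜ, (hclr _ hA.isClosed_compl).isOpen_compl⟩
  have hlD : l default ∈ D := by
    rintro ⟨w, hwA, hw'⟩
    exact hwA (hrA w hw')
  have hD : ∀ w : W, r w ∈ D → w ∈ A := by
    intro w hw'
    by_contra hwA
    exact hw' ⟨w, hwA, rfl⟩
  obtain ⟨l₁, hl₁⟩ : ∃ l₁ : Spec (.of Ω) ⟶ (D : Scheme.{u}), l₁ ≫ D.ι = l := by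
    have h1 : Set.range l ⊆ Set.range D.ι := by
      rintro _ ⟨x, rfl⟩
      rw [Subsingleton.elim x default]
      simpa using hlD
    exact ⟨IsOpenImmersion.lift D.ι l h1, IsOpenImmersion.lift_fac D.ι l h1⟩
  let T₁ := pullback fstU D.ι
  let κ : T₁ ⟶ TU := pullback.fst fstU D.ι
  let q₁ : T₁ ⟶ (D : Scheme.{u}) := pullback.snd fstU D.ι
  have hκ : κ ≫ fstU = q₁ ≫ D.ι := pullback.condition
  have hq1 : UniversallyClosed q₁ := by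
    have : UniversallyClosed (pullback.snd fstU D.ι) := inferInstance
    exact this
  have hq2 : Surjective q₁ := by
    have : Surjective (pullback.snd fstU D.ι) := inferInstance
    exact this
  refine liftsAt_of_family f hφ ξ' V₀ m₀ hm₀ a₀ (D.ι ≫ U.hom ≫ U₀.hom) l₁ ?_ q₁ (κ ≫ homU ≫ g)
    ?_ (β.pull κ) ?_ ?_
  · rw [reassoc_of% hl₁, reassoc_of% hl, hl₀]
  · simp only [Category.assoc]
    rw [hg, ← reassoc_of% hcU, reassoc_of% hκ]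
  · intro Ω' _ _ t₁ t₂ ht ξ₁ ξ₂ e h₁ h₂
    have hη : (t₁ ≫ κ) ≫ fstU = (t₂ ≫ κ) ≫ fstU := by
      rw [Category.assoc, hκ, reassoc_of% ht, ← hκ, Category.assoc]
    let η : Spec (.of Ω') ⟶ W := pullback.lift (t₁ ≫ κ) (t₂ ≫ κ) hη
    have hη1 : η ≫ w₁ = t₁ ≫ κ := pullback.lift_fst _ _ _
    have hη2 : η ≫ w₂ = t₂ ≫ κ := pullback.lift_snd _ _ _
    have hmem : η default ∈ A := by
      apply hD
      have : η ≫ r = (t₁ ≫ q₁) ≫ D.ι := by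
        rw [← Category.assoc, hη1, Category.assoc, hκ, Category.assoc]
      rw [← Scheme.Hom.comp_apply, this, Scheme.Hom.comp_apply]
      exact ((t₁ ≫ q₁) default).2
    have e₁ : η ≫ w₁ ≫ homU ≫ g = ξ₁ := by rw [reassoc_of% hη1, h₁]
    have e₂ : η ≫ w₂ ≫ homU ≫ g = ξ₂ := by rw [reassoc_of% hη2, h₂]
    have c := (Fam.mem_agree_iff β₁ β₂ η ξ₂ e₂).1 hmem
    have c1 := trF_val f F' φ (w₁ ≫ homU ≫ g) (w₂ ≫ homU ≫ g) hxw (β.pull w₁) η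
      ξ₁ ξ₂ e₁ e₂ e
    have c2 : (β.pull w₁).val η ξ₁ e₁ = (β.pull κ).val t₁ ξ₁ h₁ :=
      β.val_congr hη1 ξ₁ ((Category.assoc _ _ _).trans e₁) ((Category.assoc _ _ _).trans h₁)
    have c3 : β₂.val η ξ₂ e₂ = (β.pull κ).val t₂ ξ₂ h₂ :=
      β.val_congr hη2 ξ₂ ((Category.assoc _ _ _).trans e₂) ((Category.assoc _ _ _).trans h₂)
    rw [← c3, ← c, ← c2]
    exact c1.symm
  · intro Ω' _ _ α t ht ξ₁ ξ₂ e h₁ h₂
    refine hβ₀ α (t ≫ κ) ?_ ξ₁ ξ₂ e h₁ ((Category.assoc _ _ _).trans h₂)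
    rw [Category.assoc, hκ, reassoc_of% ht, hl₁]

/-- **Theorem D.** If `f` is submersive after étale base change, and étale locally on `X` there is
a universally closed surjective `π : T ⟶ U₀` satisfying base change in degree zero with a lift of
`T ⟶ X` to `X'`, then every descent datum relative to `f` is effective. -/
theorem isEffective_of_BC (hf : EtSubmersive f) (hφ : IsCocycle F' φ)
    (h : ∀ x' : X', ∃ (Ω : Type u) (_ : Field Ω) (_ : IsSepClosed Ω) (ξ' : Spec (.of Ω) ⟶ X')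
      (_ : ξ' default = x') (U₀ : X.Etale) (l₀ : Spec (.of Ω) ⟶ U₀.left)
      (_ : l₀ ≫ U₀.hom = ξ' ≫ f) (T : Scheme.{u}) (π : T ⟶ U₀.left) (_ : UniversallyClosed π)
      (_ : Surjective π) (_ : BCsurj π) (g : T ⟶ X'), g ≫ f = π ≫ U₀.hom) :
    IsEffective f F' φ := by
  refine isEffective_of_liftsAt f F' φ hf (fun x' => ?_)
  obtain ⟨Ω, _, _, ξ', hx, U₀, l₀, hl₀, T, π, _, _, hBC, g, hg⟩ := h x'
  exact ⟨Ω, inferInstance, inferInstance, ξ', hx, liftsAt_of_BC f hφ ξ' U₀ l₀ hl₀ π hBC g hg⟩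

/-- The case of a universally closed surjective morphism satisfying base change in degree zero. -/
theorem isEffective_of_universallyClosed [UniversallyClosed f] [Surjective f] (hBC : BCsurj f)
    (hφ : IsCocycle F' φ) : IsEffective f F' φ := by
  refine isEffective_of_BC f (etSubmersive_of_universallyClosed f) hφ (fun x' => ?_)
  obtain ⟨Ω, _, _, ξ', hx⟩ := exists_geomPoint X' x'
  exact ⟨Ω, inferInstance, inferInstance, ξ', hx, EtCoh.top X, ξ' ≫ f, Category.comp_id _, X', f,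
    ‹UniversallyClosed f›, ‹Surjective f›, hBC, 𝟙 X',
    by rw [Category.id_comp]; exact (Category.comp_id f).symm⟩

end D

end Groth.Agent.Sga4A.EtStalk
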