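import Groth.Agent.Sga4A.IntSplit
import Groth.Agent.Sga4A.IntLift2
import Groth.Agent.Sga4A.EtDescD

/-!
# Sections over geometric fibres of integral morphisms extend to étale neighbourhoods
-/

set_option autoImplicit false
universe u

open CategoryTheory CategoryTheory.Limits AlgebraicGeometry Opposite

namespace Groth.Agent.Sga4A.BCIntegral

open EtDesc EtStalk

theorem germ_congr {X : Scheme.{u}} (F : Sh X) {L : Type u} [Field L] [IsSepClosed L]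
    {ξ : Spec (.of L) ⟶ X} {U : X.Etale} {l l' : Spec (.of L) ⟶ U.left} (h : l = l')
    (hl : l ≫ U.hom = ξ) (hl' : l' ≫ U.hom = ξ) (s : sect F U) : germ F l hl s = germ F l' hl' s := by
  subst h; rfl

/-- Sections over the members of a partition into open subschemes glue. -/
theorem exists_sigma_section {X : Scheme.{u}} (G : Sh X) {ι : Type} (V : ι → X.Etale) (W : X.Etale)
    (j : ∀ i, V i ⟶ W) (hj : ∀ i, Mono (j i).left)
    (hdisj : ∀ i k, i ≠ k → ∀ (x : (V i).left) (y : (V k).left), (j i).left x ≠ (j k).left y)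
    (hcov : ∀ x : W.left, ∃ i, ∃ y : (V i).left, (j i).left y = x) (a : ∀ i, sect G (V i)) :
    ∃ s : sect G W, ∀ i, G.obj.map (j i).op s = a i := by
  have hw : ∀ {A B : X.Etale} (g : A ⟶ B), g.left ≫ B.hom = A.hom := fun g => Over.w g.hom
  let Q : ∀ (A : X.Etale) (_ : A ⟶ W), sect G A → Prop := fun A g t =>
    ∀ (L : Type u) [Field L] [IsSepClosed L] (i : ι) (m : Spec (.of L) ⟶ A.left)
      (m' : Spec (.of L) ⟶ (V i).left) (_ : m ≫ g.left = m' ≫ (j i).left)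
      (hm' : m' ≫ (V i).hom = m ≫ A.hom), germ G m rfl t = germ G m' hm' (a i)
  have hQ : ∀ i, Q (V i) (j i) (a i) := by
    intro i L _ _ k m m' h hm'
    obtain rfl : i = k := by
      by_contra hik
      apply hdisj i k hik (m default) (m' default)
      rw [← Scheme.Hom.comp_apply, h, Scheme.Hom.comp_apply]
    have := hj i
    rw [cancel_mono] at h
    exact germ_congr G h _ _ _
  obtain ⟨s, hs⟩ := exists_glue G W Q (by
    intro A B g k t ht L _ _ i m m' h hm'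
    have e : (m ≫ k.left) ≫ A.hom = m ≫ B.hom := by rw [Category.assoc, hw k]
    rw [germ_res' G k m rfl (m ≫ k.left) e rfl t]
    have h1 : (m ≫ k.left) ≫ g.left = m' ≫ (j i).left := (Category.assoc _ _ _).trans h
    have h2 := ht L i (m ≫ k.left) m' h1 (hm'.trans e.symm)
    rw [← castStk_germ G e (m ≫ k.left) rfl t, h2, castStk_germ]) (by
    intro A g s t hs ht
    refine sect_ext_germ' G A s t (fun L _ _ l => ?_)
    obtain ⟨i, y, hy⟩ := hcov (g.left (l default))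
    obtain ⟨m', hm', -⟩ := exists_lift (j i) (l ≫ g.left) y (by
      rw [hy, Scheme.Hom.comp_apply])
    have e : m' ≫ (V i).hom = l ≫ A.hom := by
      rw [← hw (j i), reassoc_of% hm', hw g]
    rw [hs L i l m' hm'.symm e, ht L i l m' hm'.symm e]) (by
    intro x
    obtain ⟨i, y, hy⟩ := hcov x
    exact ⟨V i, j i, y, a i, hy, hQ i⟩)
  exact ⟨s, fun i => hs _ _ _ (hQ i)⟩

/-- Families of germs on a scheme integral over a separably closed field are given by sections over étale schemes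
locally for the topology of clopens. -/
theorem exists_local {X' P : Scheme.{u}} {Ω : Type u} [Field Ω] [IsSepClosed Ω] (q : P ⟶ Spec (.of Ω))
    [IsIntegralHom q] (p : P ⟶ X') (G : Sh X') (γ : Fam G p) (X₀ : X'.Opens) (z : P) (hX₀ : p z ∈ X₀) :
    ∃ (Z : P.Opens) (_ : IsClosed (Z : Set P)) (_ : z ∈ Z) (V : X'.Etale) (_ : IsAffine V.left)
      (_ : ∀ v : V.left, V.hom v ∈ X₀) (κ : Z.toScheme ⟶ V.left) (_ : κ ≫ V.hom = Z.ι ≫ p)
      (a : sect G V), ∀ (L : Type u) [Field L] [IsSepClosed L] (m : Spec (.of L) ⟶ Z.toScheme)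
        (ζ : Spec (.of L) ⟶ X') (h : (m ≫ Z.ι) ≫ p = ζ) (h' : (m ≫ κ) ≫ V.hom = ζ),
        γ.val (m ≫ Z.ι) ζ h = germ G (m ≫ κ) h' a := by
  obtain ⟨T, t, _, w, hw, V, k, hk, a, ha⟩ := γ.rep z
  obtain ⟨V₁, hV₁', hkw, hV₁X⟩ : ∃ V₁ : V.left.Opens, IsAffineOpen V₁ ∧ k w ∈ V₁ ∧
      ∀ v ∈ V₁, V.hom v ∈ X₀ := by
    obtain ⟨_, ⟨V₁, hV₁, rfl⟩, hkw, hV₁X⟩ := V.left.isBasis_affineOpens.exists_subset_of_mem_open
      (show k w ∈ V.hom ⁻¹ᵁ X₀ by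
        change V.hom (k w) ∈ X₀
        rw [← Scheme.Hom.comp_apply, hk, Scheme.Hom.comp_apply, hw]
        exact hX₀) (V.hom ⁻¹ᵁ X₀).2
    exact ⟨V₁, hV₁, hkw, fun v hv => hV₁X hv⟩
  let T₁ : T.Opens := k ⁻¹ᵁ V₁
  obtain ⟨Z, hZ, hwZ, s, hs, -⟩ := IntSplit.exists_clopen_section q (T₁.ι ≫ t) (⟨w, hkw⟩ : T₁)
  have hzZ : z ∈ Z := by rw [← hw]; exact hwZ
  have hV₁aff : IsAffine V₁.toScheme := hV₁'
  have e₁ : (s ≫ (k ∣_ V₁)) ≫ V₁.ι = s ≫ T₁.ι ≫ k := by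
    rw [Category.assoc, morphismRestrict_ι]
  refine ⟨Z, hZ, hzZ, openEt V V₁, hV₁aff, ?_, s ≫ (k ∣_ V₁), ?_, G.obj.map (openEtι V V₁).op a, ?_⟩
  · intro v
    exact hV₁X _ v.2
  · have : (s ≫ (k ∣_ V₁)) ≫ V₁.ι ≫ V.hom = Z.ι ≫ p := by
      rw [← Category.assoc, e₁, Category.assoc, Category.assoc, hk, ← hs, Category.assoc,
        Category.assoc]
    exact this
  · intro L _ _ m ζ h h'
    have e₂ : (m ≫ (s ≫ (k ∣_ V₁))) ≫ (openEtι V V₁).left = (m ≫ s ≫ T₁.ι) ≫ k := by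
      rw [openEtι_left, Category.assoc, e₁]
      simp only [Category.assoc]
    have e₃ : (m ≫ s ≫ T₁.ι) ≫ t = m ≫ Z.ι := by
      rw [← hs]; simp only [Category.assoc]
    have h₃ : ((m ≫ s ≫ T₁.ι) ≫ t) ≫ p = ζ := by rw [e₃, h]
    have h₄ : ((m ≫ s ≫ T₁.ι) ≫ k) ≫ V.hom = ζ := by
      rw [Category.assoc _ k, hk, ← Category.assoc, h₃]
    rw [germ_res' G (openEtι V V₁) _ h' ((m ≫ s ≫ T₁.ι) ≫ k) h₄ e₂ a, ← ha (m ≫ s ≫ T₁.ι) ζ h₃ h₄]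
    exact γ.val_congr e₃.symm _ _ _

theorem exists_sigmaι_eq {ι : Type} (g : ι → Scheme.{u}) (x : ↥(∐ g)) :
    ∃ i, ∃ y : g i, Sigma.ι g i y = x :=
  ⟨_, (sigmaOpenCover g).covers x⟩

theorem sigma_glue {X' P : Scheme.{u}} {n : ℕ} (p : P ⟶ X') (G : Sh X') (γ : Fam G p)
    (V : Fin n → X'.Etale) (D : Fin n → P.Opens)
    (hdisj : ∀ i j, i ≠ j → Disjoint (D i) (D j)) (hcov : ∀ y : P, ∃ i, y ∈ D i)
    (κ : ∀ i, (D i).toScheme ⟶ (V i).left) (hκ : ∀ i, κ i ≫ (V i).hom = (D i).ι ≫ p)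
    (a : ∀ i, sect G (V i))
    (ha : ∀ (i : Fin n) (L : Type u) [Field L] [IsSepClosed L] (m : Spec (.of L) ⟶ (D i).toScheme)
      (ζ : Spec (.of L) ⟶ X') (h : (m ≫ (D i).ι) ≫ p = ζ) (h' : (m ≫ κ i) ≫ (V i).hom = ζ),
        γ.val (m ≫ (D i).ι) ζ h = germ G (m ≫ κ i) h' (a i)) :
    ∃ (v : (∐ fun i => (V i).left) ⟶ X') (_ : AlgebraicGeometry.Etale v)
      (_ : ∀ i, Sigma.ι (fun i => (V i).left) i ≫ v = (V i).hom)
      (σ : P ⟶ ∐ fun i => (V i).left) (_ : σ ≫ v = p) (a' : sect G (Scheme.Etale.mk v)),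
      ∀ (L : Type u) [Field L] [IsSepClosed L] (m : Spec (.of L) ⟶ P)
        (ζ : Spec (.of L) ⟶ X') (h : m ≫ p = ζ)
        (h' : (m ≫ σ : _ ⟶ (Scheme.Etale.mk v).left) ≫ (Scheme.Etale.mk v).hom = ζ),
        γ.val m ζ h = germ G (U := Scheme.Etale.mk v) (m ≫ σ) h' a' := by
  obtain ⟨v, hv⟩ : ∃ v : (∐ fun i => (V i).left) ⟶ X',
      ∀ i, Sigma.ι (fun i => (V i).left) i ≫ v = (V i).hom :=
    ⟨Sigma.desc fun i => (V i).hom, fun i => Sigma.ι_desc _ _⟩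
  have hv' : v = Sigma.desc fun i => (V i).hom := by
    apply Sigma.hom_ext
    intro i
    rw [hv, Sigma.ι_desc]
  have hve : AlgebraicGeometry.Etale v := by
    rw [hv']
    exact IsZariskiLocalAtSource.sigmaDesc (P := EtCoh.etaleMP.{u}) fun i =>
      inferInstanceAs (AlgebraicGeometry.Etale (V i).hom)
  obtain ⟨σ, hσ⟩ := IntSplit.exists_glue_of_disjoint D hdisj hcov (fun i =>
    κ i ≫ Sigma.ι (fun i => (V i).left) i)
  have hσv : σ ≫ v = p := by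
    apply Scheme.hom_ext_of_forall
    intro x
    obtain ⟨i, hi⟩ := hcov x
    refine ⟨D i, hi, ?_⟩
    rw [reassoc_of% (hσ i), hv, hκ]
  obtain ⟨a', ha'⟩ := exists_sigma_section G V (Scheme.Etale.mk v)
    (fun i => MorphismProperty.Over.homMk (Sigma.ι (fun i => (V i).left) i) (hv i) trivial)
    (fun i => inferInstanceAs (Mono (Sigma.ι (fun i => (V i).left) i))) (by
      intro i k hik x y hxy
      have := (sigmaι_eq_iff (fun i => (V i).left) i k x y).1 hxy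
      exact hik (congrArg Sigma.fst this)) (by
      intro x
      obtain ⟨i, y, hy⟩ := exists_sigmaι_eq (fun i => (V i).left) x
      exact ⟨i, y, hy⟩) a
  refine ⟨v, hve, hv, σ, hσv, a', ?_⟩
  intro L _ _ ζ ρ h h'
  obtain ⟨i, hi⟩ := hcov (ζ default)
  have hζr : Set.range ζ ⊆ Set.range (D i).ι := by
    rintro _ ⟨x, rfl⟩
    rw [Subsingleton.elim x default, Scheme.Opens.range_ι]
    exact hi
  obtain ⟨m, hm⟩ : ∃ m : Spec (.of L) ⟶ (D i).toScheme, m ≫ (D i).ι = ζ :=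
    ⟨IsOpenImmersion.lift (D i).ι ζ hζr, IsOpenImmersion.lift_fac _ _ _⟩
  have h₁ : (m ≫ (D i).ι) ≫ p = ρ := by rw [hm, h]
  have h₂ : (m ≫ κ i) ≫ (V i).hom = ρ := by
    rw [Category.assoc, hκ, ← Category.assoc, h₁]
  have hζσ : ζ ≫ σ = (m ≫ κ i) ≫ Sigma.ι (fun i => (V i).left) i := by
    rw [← hm, Category.assoc, hσ i]
    simp only [Category.assoc]
  have h₃ := germ_res' G (MorphismProperty.Over.homMk (Sigma.ι (fun i => (V i).left) i) (hv i) trivial :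
    V i ⟶ Scheme.Etale.mk v) (m ≫ κ i) h₂ (ζ ≫ σ) h' hζσ.symm a'
  rw [← h₃, ha' i, ← ha i L m ρ h₁ h₂]
  exact γ.val_congr hm.symm ρ _ _

/-- Extension of morphisms over `X'` from a geometric fibre of an integral morphism to an affine étale `X'`-scheme
living over an affine open of `X`. -/
theorem exists_lift_over {X' X : Scheme.{u}} (f : X' ⟶ X) [IsIntegralHom f] {Ω : Type u} [Field Ω]
    (ξ : Spec (.of Ω) ⟶ X) (X₀ : X.Opens) (hX₀ : IsAffineOpen X₀) (hξ₀ : ξ default ∈ X₀)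
    {W : Scheme.{u}} [IsAffine W] (v : W ⟶ X') [AlgebraicGeometry.Etale v]
    (hvX : ∀ w, v w ∈ f ⁻¹ᵁ X₀) (σ₀ : pullback f ξ ⟶ W) (hσ₀ : σ₀ ≫ v = pullback.fst f ξ) :
    ∃ (U : X.Etale) (l : Spec (.of Ω) ⟶ U.left) (_ : l ≫ U.hom = ξ)
      (τ : ((EtCoh.bc f).obj U).left ⟶ W) (_ : τ ≫ v = ((EtCoh.bc f).obj U).hom),
      ∀ {T : Scheme.{u}} (ζ : T ⟶ pullback f ξ) (β : T ⟶ ((EtCoh.bc f).obj U).left)
        (_ : β ≫ bcFst f U = ζ ≫ pullback.snd f ξ ≫ l)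
        (_ : β ≫ ((EtCoh.bc f).obj U).hom = ζ ≫ pullback.fst f ξ), β ≫ τ = ζ ≫ σ₀ := by
  have hpq : pullback.fst f ξ ≫ f = pullback.snd f ξ ≫ ξ := pullback.condition
  obtain ⟨X₁, hX₁⟩ : ∃ X₁, X₁ = f ⁻¹ᵁ X₀ := ⟨_, rfl⟩
  obtain ⟨f₀, hf₀, hf₀'⟩ : ∃ (f₀ : X₁.toScheme ⟶ X₀.toScheme), f₀ ≫ X₀.ι = X₁.ι ≫ f ∧
      IsIntegralHom f₀ := by
    subst hX₁
    exact ⟨f ∣_ X₀, morphismRestrict_ι f X₀, inferInstance⟩
  have : IsAffine X₀.toScheme := hX₀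
  have : IsAffine X₁.toScheme := by
    rw [hX₁]
    exact hX₀.preimage f
  have hξr : Set.range ξ ⊆ Set.range X₀.ι := by
    rintro _ ⟨x, rfl⟩
    rw [Subsingleton.elim x default]
    simpa using hξ₀
  obtain ⟨ξ₀, hξ₀'⟩ : ∃ ξ₀ : Spec (.of Ω) ⟶ X₀.toScheme, ξ₀ ≫ X₀.ι = ξ :=
    ⟨IsOpenImmersion.lift X₀.ι ξ hξr, IsOpenImmersion.lift_fac _ _ _⟩
  have hpX₁ : ∀ z, pullback.fst f ξ z ∈ X₁ := by
    intro z
    rw [hX₁]
    change f (pullback.fst f ξ z) ∈ X₀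
    rw [← Scheme.Hom.comp_apply, hpq, Scheme.Hom.comp_apply,
      Subsingleton.elim (pullback.snd f ξ z) default]
    exact hξ₀
  have hvr : Set.range v ⊆ Set.range X₁.ι := by
    rintro _ ⟨x, rfl⟩
    rw [Scheme.Opens.range_ι, hX₁]
    exact hvX x
  obtain ⟨v₀, hv₀⟩ : ∃ v₀ : W ⟶ X₁.toScheme, v₀ ≫ X₁.ι = v :=
    ⟨IsOpenImmersion.lift X₁.ι v hvr, IsOpenImmersion.lift_fac _ _ _⟩
  have : AlgebraicGeometry.Etale v₀ := by
    have : AlgebraicGeometry.Etale (v₀ ≫ X₁.ι) := by rw [hv₀]; infer_instance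
    exact AlgebraicGeometry.Etale.of_comp v₀ X₁.ι
  obtain ⟨j₀, hj₀₁, hj₀₂⟩ : ∃ j₀ : pullback ξ₀ f₀ ⟶ pullback f ξ,
      j₀ ≫ pullback.fst f ξ = pullback.snd _ _ ≫ X₁.ι ∧
      j₀ ≫ pullback.snd f ξ = pullback.fst _ _ :=
    ⟨pullback.lift (pullback.snd _ _ ≫ X₁.ι) (pullback.fst _ _) (by
      rw [Category.assoc, ← hf₀, ← hξ₀', ← Category.assoc, ← pullback.condition, Category.assoc]),
      pullback.lift_fst _ _ _, pullback.lift_snd _ _ _⟩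
  obtain ⟨U, g, hg, x', hx', τ, hτ, hτσ⟩ : ∃ (U : X.Etale) (g : U.left ⟶ X₀.toScheme)
      (_ : g ≫ X₀.ι = U.hom) (x' : Spec (.of Ω) ⟶ U.left) (hx' : x' ≫ g = ξ₀)
      (τ : pullback g f₀ ⟶ W), τ ≫ v₀ = pullback.snd g f₀ ∧ IntLift.fibMap f₀ hx' ≫ τ = j₀ ≫ σ₀ := by
    obtain ⟨U, _, g, _, x', hx', τ, hτ, hτσ⟩ := IntLift.exists_etale_lift f₀ v₀ ξ₀ (j₀ ≫ σ₀) (by
      rw [← cancel_mono X₁.ι, Category.assoc, Category.assoc, hv₀, hσ₀, hj₀₁])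
    exact ⟨Scheme.Etale.mk (g ≫ X₀.ι), g, rfl, x', hx', τ, hτ, hτσ⟩
  have hl : x' ≫ U.hom = ξ := by
    rw [← hξ₀', ← hx', Category.assoc, hg]
  have hbr : Set.range ((EtCoh.bc f).obj U).hom ⊆ Set.range X₁.ι := by
    rintro _ ⟨x, rfl⟩
    rw [Scheme.Opens.range_ι, hX₁]
    change f (((EtCoh.bc f).obj U).hom x) ∈ X₀
    rw [← Scheme.Hom.comp_apply, ← bc_condition, ← hg]
    exact (g (bcFst f U x)).2
  obtain ⟨d, hd⟩ : ∃ d : ((EtCoh.bc f).obj U).left ⟶ X₁.toScheme, d ≫ X₁.ι = ((EtCoh.bc f).obj U).hom :=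
    ⟨IsOpenImmersion.lift X₁.ι ((EtCoh.bc f).obj U).hom hbr, IsOpenImmersion.lift_fac _ _ _⟩
  obtain ⟨c, hc₁, hc₂'⟩ : ∃ c : ((EtCoh.bc f).obj U).left ⟶ pullback g f₀,
      c ≫ pullback.fst g f₀ = bcFst f U ∧ c ≫ pullback.snd g f₀ = d :=
    ⟨pullback.lift (bcFst f U) d (by
      rw [← cancel_mono X₀.ι, Category.assoc, Category.assoc, hf₀, hg, reassoc_of% hd,
        ← bc_condition]), pullback.lift_fst _ _ _, pullback.lift_snd _ _ _⟩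
  have hc₂ : c ≫ pullback.snd g f₀ ≫ X₁.ι = ((EtCoh.bc f).obj U).hom := by
    rw [reassoc_of% hc₂', hd]
  refine ⟨U, x', hl, c ≫ τ, ?_, ?_⟩
  · rw [← hv₀, Category.assoc, reassoc_of% hτ, hc₂]
  intro T ζ β hβ₁ hβ₂
  have hρr : Set.range (ζ ≫ pullback.fst f ξ) ⊆ Set.range X₁.ι := by
    rintro _ ⟨x, rfl⟩
    rw [Scheme.Opens.range_ι]
    exact hpX₁ _
  obtain ⟨ρ₁, hρ₁⟩ : ∃ ρ₁ : T ⟶ X₁.toScheme, ρ₁ ≫ X₁.ι = ζ ≫ pullback.fst f ξ :=
    ⟨IsOpenImmersion.lift X₁.ι _ hρr, IsOpenImmersion.lift_fac _ _ _⟩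
  obtain ⟨ζ₀, hζ₀₁, hζ₀₂⟩ : ∃ ζ₀ : T ⟶ pullback ξ₀ f₀,
      ζ₀ ≫ pullback.fst _ _ = ζ ≫ pullback.snd f ξ ∧ ζ₀ ≫ pullback.snd _ _ = ρ₁ :=
    ⟨pullback.lift (ζ ≫ pullback.snd f ξ) ρ₁ (by
      rw [← cancel_mono X₀.ι, Category.assoc, Category.assoc, hξ₀', Category.assoc, hf₀,
        reassoc_of% hρ₁, hpq]), pullback.lift_fst _ _ _, pullback.lift_snd _ _ _⟩
  have hζ₀j : ζ₀ ≫ j₀ = ζ := by
    apply pullback.hom_ext
    · rw [Category.assoc, hj₀₁, reassoc_of% hζ₀₂, hρ₁]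
    · rw [Category.assoc, hj₀₂, hζ₀₁]
  have hβc : β ≫ c = ζ₀ ≫ IntLift.fibMap f₀ hx' := by
    apply pullback.hom_ext
    · rw [Category.assoc, hc₁, hβ₁, Category.assoc, IntLift.fibMap_fst, reassoc_of% hζ₀₁]
    · rw [← cancel_mono X₁.ι, Category.assoc, Category.assoc, hc₂, hβ₂, Category.assoc,
        Category.assoc ζ₀, IntLift.fibMap_snd_assoc, reassoc_of% hζ₀₂, hρ₁]
  rw [reassoc_of% hβc, hτσ, reassoc_of% hζ₀j]

/-- **Base change in degree `0` for integral morphisms, for sheaves of sets**: sections over a geometric fibre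
extend to étale neighbourhoods. -/
theorem bcsurj_of_isIntegralHom {X' X : Scheme.{u}} (f : X' ⟶ X) [IsIntegralHom f] : BCsurj f := by
  intro G Ω _ _ ξ γ
  have hpq : pullback.fst f ξ ≫ f = pullback.snd f ξ ≫ ξ := pullback.condition
  obtain ⟨X₀, hX₀, hξ₀⟩ : ∃ X₀ : X.Opens, IsAffineOpen X₀ ∧ ξ default ∈ X₀ := by
    obtain ⟨_, ⟨V₁, hV₁, rfl⟩, h, -⟩ := X.isBasis_affineOpens.exists_subset_of_mem_open
      (Set.mem_univ (ξ default)) isOpen_univ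
    exact ⟨V₁, hV₁, h⟩
  have hpX₁ : ∀ z, pullback.fst f ξ z ∈ f ⁻¹ᵁ X₀ := by
    intro z
    change f (pullback.fst f ξ z) ∈ X₀
    rw [← Scheme.Hom.comp_apply, hpq, Scheme.Hom.comp_apply,
      Subsingleton.elim (pullback.snd f ξ z) default]
    exact hξ₀
  choose Z hZc hz V hV hVX κ hκ a ha using fun z =>
    exists_local (pullback.snd f ξ) (pullback.fst f ξ) G γ (f ⁻¹ᵁ X₀) z (hpX₁ z)
  have : IsAffine (pullback f ξ) := isAffine_of_isAffineHom (pullback.snd f ξ)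
  obtain ⟨n, z, D, hD, hdisj, hcov⟩ := IntSplit.exists_partition Z hZc hz
  obtain ⟨v, hve, hv, σ, hσ, a', ha'⟩ := sigma_glue (pullback.fst f ξ) G γ (fun i => V (z i)) D hdisj hcov
    (fun i => (pullback f ξ).homOfLE (hD i) ≫ κ (z i)) (by
      intro i
      rw [Category.assoc, hκ, Scheme.homOfLE_ι_assoc]) (fun i => a (z i)) (by
      intro i L _ _ m ζ h h'
      have e : (m ≫ (pullback f ξ).homOfLE (hD i)) ≫ (Z (z i)).ι = m ≫ (D i).ι := by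
        rw [Category.assoc, Scheme.homOfLE_ι]
      have h₁ : ((m ≫ (pullback f ξ).homOfLE (hD i)) ≫ (Z (z i)).ι) ≫ pullback.fst f ξ = ζ := by
        rw [e, h]
      have h₂ : ((m ≫ (pullback f ξ).homOfLE (hD i)) ≫ κ (z i)) ≫ (V (z i)).hom = ζ := by
        rw [Category.assoc, hκ, ← Category.assoc, h₁]
      rw [γ.val_congr e.symm ζ h h₁, ha (z i) L _ ζ h₁ h₂]
      exact germ_congr G (Category.assoc _ _ _) _ _ _)
  obtain ⟨U, l, hl, τ, hτ, H⟩ := exists_lift_over f ξ X₀ hX₀ hξ₀ v (by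
    intro w
    obtain ⟨i, y, rfl⟩ := exists_sigmaι_eq (fun i => (V (z i)).left) w
    rw [← Scheme.Hom.comp_apply, hv]
    exact hVX _ y) σ hσ
  obtain ⟨e, he⟩ : ∃ e : (EtCoh.bc f).obj U ⟶ (Scheme.Etale.mk v : X'.Etale), e.left = τ :=
    ⟨MorphismProperty.Over.homMk τ hτ trivial, rfl⟩
  refine ⟨U, l, hl, G.obj.map e.op a', ?_⟩
  intro Ω' _ _ ζ ρ h h'
  have hβ := H ζ (bcPt f ρ (ζ ≫ pullback.snd f ξ ≫ l) h') (bcPt_fst _ _ _ _)
    ((bcPt_hom _ _ _ _).trans h.symm)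
  have h₁ : (ζ ≫ σ : _ ⟶ (Scheme.Etale.mk v).left) ≫ (Scheme.Etale.mk v).hom = ρ := by
    rw [← h, ← hσ]
    exact Category.assoc _ _ _
  exact (ha' Ω' ζ ρ h h₁).trans
    (germ_res' G e _ (bcPt_hom _ _ _ _) _ h₁ (by rw [he]; exact hβ) a').symm

end Groth.Agent.Sga4A.BCIntegral
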