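import Groth.Agent.Sga4A.EtDescCrit

/-!
# Sections of inverse images of étale sheaves as locally representable families of germs
-/

set_option autoImplicit false
universe u

open CategoryTheory CategoryTheory.Limits AlgebraicGeometry Opposite

namespace Groth.Agent.Sga4A.EtStalk

open EtDesc

section Ext

variable {X : Scheme.{u}} {Ω Ω' : Type u} [Field Ω] [IsSepClosed Ω] [Field Ω'] [IsSepClosed Ω']

theorem mem_agree_iff' (F : Sh X) {U : X.Etale} (s t : sect F U)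
    (l : Spec (.of Ω) ⟶ U.left) {ξ : Spec (.of Ω) ⟶ X} (hl : l ≫ U.hom = ξ) :
    l default ∈ agree F s t ↔ germ F l hl s = germ F l hl t := by
  subst hl
  exact mem_agree_iff F s t l

/-- Extension of the field of a geometric point, on stalks. -/
noncomputable def extStk (F : Sh X) (α : Spec (.of Ω') ⟶ Spec (.of Ω)) (ξ : Spec (.of Ω) ⟶ X)
    (ξ₂ : Spec (.of Ω') ⟶ X) (h : α ≫ ξ = ξ₂) : Stk F ξ → Stk F ξ₂ :=
  (Scheme.pointSmallEtale ξ).presheafFiberDesc (P := F.obj)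
    (T := (Scheme.pointSmallEtale ξ₂).presheafFiber.obj F.obj)
    (fun U x => (Scheme.pointSmallEtale ξ₂).toPresheafFiber U
      (Over.homMk (α ≫ x.left) (by
        have := Over.w x
        exact ((Category.assoc _ _ _).trans (congrArg (α ≫ ·) this)).trans h)) F.obj)
    (fun U V g x => by
      refine ((Scheme.pointSmallEtale ξ₂).toPresheafFiber_w g _ F.obj).trans ?_
      congr 1)

theorem extStk_germ (F : Sh X) (α : Spec (.of Ω') ⟶ Spec (.of Ω)) (ξ : Spec (.of Ω) ⟶ X)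
    (ξ₂ : Spec (.of Ω') ⟶ X) (h : α ≫ ξ = ξ₂) {U : X.Etale} (l : Spec (.of Ω) ⟶ U.left)
    (hl : l ≫ U.hom = ξ) (s : sect F U) :
    extStk F α ξ ξ₂ h (germ F l hl s) =
      germ F (α ≫ l) (by rw [Category.assoc, hl, h]) s :=
  ConcreteCategory.congr_hom ((Scheme.pointSmallEtale ξ).toPresheafFiber_presheafFiberDesc
    (P := F.obj) (T := (Scheme.pointSmallEtale ξ₂).presheafFiber.obj F.obj) _ _ U
      (Over.homMk l hl)) s

omit [IsSepClosed Ω] [IsSepClosed Ω'] in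
theorem comp_default {Y : Scheme.{u}} (α : Spec (.of Ω') ⟶ Spec (.of Ω)) (l : Spec (.of Ω) ⟶ Y) :
    (α ≫ l) default = l default := by
  rw [Scheme.Hom.comp_apply]
  congr 1
  exact Subsingleton.elim _ _

theorem extStk_injective (F : Sh X) (α : Spec (.of Ω') ⟶ Spec (.of Ω)) (ξ : Spec (.of Ω) ⟶ X)
    (ξ₂ : Spec (.of Ω') ⟶ X) (h : α ≫ ξ = ξ₂) : Function.Injective (extStk F α ξ ξ₂ h) := by
  intro σ τ hστ
  obtain ⟨U, l, hl, s, t, rfl, rfl⟩ := exists_germ₂ F σ τ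
  rw [extStk_germ, extStk_germ, ← mem_agree_iff', comp_default, mem_agree_iff' F s t l hl] at hστ
  exact hστ

theorem extStk_mapStk {F G : Sh X} (a : F ⟶ G) (α : Spec (.of Ω') ⟶ Spec (.of Ω))
    (ξ : Spec (.of Ω) ⟶ X) (ξ₂ : Spec (.of Ω') ⟶ X) (h : α ≫ ξ = ξ₂) (σ : Stk F ξ) :
    extStk G α ξ ξ₂ h (mapStk a ξ σ) = mapStk a ξ₂ (extStk F α ξ ξ₂ h σ) := by
  obtain ⟨U, l, hl, s, rfl⟩ := exists_germ F σ
  rw [mapStk_germ, extStk_germ, extStk_germ, mapStk_germ]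

theorem extStk_pullStk' {Y : Scheme.{u}} (g : Y ⟶ X) (F : Sh X) (α : Spec (.of Ω') ⟶ Spec (.of Ω))
    (η : Spec (.of Ω) ⟶ Y) (η₂ : Spec (.of Ω') ⟶ Y) (h : α ≫ η = η₂)
    (ξ : Spec (.of Ω) ⟶ X) (ξ₂ : Spec (.of Ω') ⟶ X) (e : η ≫ g = ξ) (e₂ : η₂ ≫ g = ξ₂)
    (σ : Stk F ξ) :
    extStk ((pullSh g).obj F) α η η₂ h (pullStk' g F η ξ e σ) =
      pullStk' g F η₂ ξ₂ e₂ (extStk F α ξ ξ₂ (by rw [← e, ← e₂, ← h, Category.assoc]) σ) := by
  obtain ⟨U, l, hl, s, rfl⟩ := exists_germ F σ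
  rw [pullStk'_germ, extStk_germ, extStk_germ, pullStk'_germ]
  congr 1
  apply hom_ext_bc
  · rw [Category.assoc, bcPt_fst, bcPt_fst]
  · rw [Category.assoc, bcPt_hom, bcPt_hom, h]

end Ext

/-- Families of germs of `F` along `g : Y ⟶ X` which are étale-locally on `Y` given by a section
of `F`. These are the global sections of `g^* F`. -/
structure Fam {X Y : Scheme.{u}} (F : Sh X) (g : Y ⟶ X) where
  /-- the germs -/
  val : ∀ {Ω : Type u} [Field Ω] [IsSepClosed Ω] (η : Spec (.of Ω) ⟶ Y) (ξ : Spec (.of Ω) ⟶ X)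
    (_ : η ≫ g = ξ), Stk F ξ
  rep : ∀ y : Y, ∃ (V : Scheme.{u}) (j : V ⟶ Y) (_ : Etale j) (v : V) (_ : j v = y)
    (U : X.Etale) (k : V ⟶ U.left) (_ : k ≫ U.hom = j ≫ g) (t : sect F U),
    ∀ {Ω : Type u} [Field Ω] [IsSepClosed Ω] (ζ : Spec (.of Ω) ⟶ V) (ξ : Spec (.of Ω) ⟶ X)
      (h : (ζ ≫ j) ≫ g = ξ) (h' : (ζ ≫ k) ≫ U.hom = ξ),
      val (ζ ≫ j) ξ h = germ F (ζ ≫ k) h' t

namespace Fam

variable {X Y Z : Scheme.{u}} {F : Sh X} {g : Y ⟶ X}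

theorem val_congr (γ : Fam F g) {Ω : Type u} [Field Ω] [IsSepClosed Ω]
    {η η' : Spec (.of Ω) ⟶ Y} (e : η = η') (ξ : Spec (.of Ω) ⟶ X) (h : η ≫ g = ξ)
    (h' : η' ≫ g = ξ) : γ.val η ξ h = γ.val η' ξ h' := by
  subst e; rfl

/-- The family attached to a section of `F` over an étale `X`-scheme. -/
noncomputable def ofSect {U : X.Etale} (s : sect F U) : Fam F U.hom where
  val η _ h := germ F η h s
  rep y := ⟨U.left, 𝟙 _, inferInstance, y, rfl, U, 𝟙 _, by rfl, s, fun ζ ξ h h' => by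
    congr 1⟩

theorem ofSect_val {U : X.Etale} (s : sect F U) {Ω : Type u} [Field Ω] [IsSepClosed Ω]
    (η : Spec (.of Ω) ⟶ U.left) (ξ : Spec (.of Ω) ⟶ X) (h : η ≫ U.hom = ξ) :
    (ofSect s).val η ξ h = germ F η h s := rfl

/-- Inverse image of families. -/
noncomputable def pull (γ : Fam F g) (h : Z ⟶ Y) : Fam F (h ≫ g) where
  val η ξ e := γ.val (η ≫ h) ξ (by rw [Category.assoc, e])
  rep z := by
    obtain ⟨V, j, _, v, hv, U, k, hk, t, ht⟩ := γ.rep (h z)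
    obtain ⟨w, hw1, hw2⟩ := Scheme.Pullback.exists_preimage_pullback (f := h) (g := j) z v hv.symm
    refine ⟨pullback h j, pullback.fst h j, inferInstance, w, hw1, U, pullback.snd h j ≫ k, ?_, t,
      ?_⟩
    · rw [Category.assoc, hk, ← Category.assoc, ← pullback.condition, Category.assoc]
    · intro Ω _ _ ζ ξ e e'
      have h1 : (ζ ≫ pullback.fst h j) ≫ h = (ζ ≫ pullback.snd h j) ≫ j := by
        rw [Category.assoc, pullback.condition, Category.assoc]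
      rw [γ.val_congr h1 ξ _ (by rw [← h1, Category.assoc, e])]
      rw [ht (ζ ≫ pullback.snd h j) ξ _ (by rw [← e']; simp only [Category.assoc])]
      congr 1

theorem pull_val (γ : Fam F g) (h : Z ⟶ Y) {Ω : Type u} [Field Ω] [IsSepClosed Ω]
    (η : Spec (.of Ω) ⟶ Z) (ξ : Spec (.of Ω) ⟶ X) (e : η ≫ h ≫ g = ξ)
    (e' : (η ≫ h) ≫ g = ξ) :
    (γ.pull h).val η ξ e = γ.val (η ≫ h) ξ e' := rfl

/-- Transport along an equality. -/
noncomputable def congr (γ : Fam F g) {g' : Y ⟶ X} (e : g = g') : Fam F g' := e ▸ γ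

theorem congr_val (γ : Fam F g) {g' : Y ⟶ X} (e : g = g') {Ω : Type u} [Field Ω] [IsSepClosed Ω]
    (η : Spec (.of Ω) ⟶ Y) (ξ : Spec (.of Ω) ⟶ X) (h : η ≫ g' = ξ) :
    (γ.congr e).val η ξ h = γ.val η ξ (by rw [e, h]) := by
  subst e; rfl

/-- Image of a family by a morphism of sheaves. -/
noncomputable def map (γ : Fam F g) {G : Sh X} (a : F ⟶ G) : Fam G g where
  val η ξ h := mapStk a ξ (γ.val η ξ h)
  rep y := by
    obtain ⟨V, j, hj, v, hv, U, k, hk, t, ht⟩ := γ.rep y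
    refine ⟨V, j, hj, v, hv, U, k, hk, a.hom.app (op U) t, ?_⟩
    intro Ω _ _ ζ ξ h h'
    rw [ht ζ ξ h h', mapStk_germ]

theorem map_val (γ : Fam F g) {G : Sh X} (a : F ⟶ G) {Ω : Type u} [Field Ω] [IsSepClosed Ω]
    (η : Spec (.of Ω) ⟶ Y) (ξ : Spec (.of Ω) ⟶ X) (h : η ≫ g = ξ) :
    (γ.map a).val η ξ h = mapStk a ξ (γ.val η ξ h) := rfl

/-- Families commute with extension of the geometric point. -/
theorem extStk_val (γ : Fam F g) {Ω Ω' : Type u} [Field Ω] [IsSepClosed Ω] [Field Ω']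
    [IsSepClosed Ω'] (α : Spec (.of Ω') ⟶ Spec (.of Ω)) (η : Spec (.of Ω) ⟶ Y)
    (ξ : Spec (.of Ω) ⟶ X) (h : η ≫ g = ξ) (ξ₂ : Spec (.of Ω') ⟶ X) (h₂ : α ≫ ξ = ξ₂)
    (h₃ : (α ≫ η) ≫ g = ξ₂) :
    extStk F α ξ ξ₂ h₂ (γ.val η ξ h) = γ.val (α ≫ η) ξ₂ h₃ := by
  obtain ⟨V, j, hj, v, hv, U, k, hk, t, ht⟩ := γ.rep (η default)
  obtain ⟨m, hm, -⟩ := Scheme.exists_fac_of_etale_of_isSepClosed j η v hv
  subst hm
  have e1 := ht m ξ h (by rw [← h, Category.assoc, hk, Category.assoc])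
  rw [e1, extStk_germ]
  have e2 := ht (α ≫ m) ξ₂ (by rw [← h₃]; simp only [Category.assoc]) (by
    rw [← h₃, Category.assoc, hk]; simp only [Category.assoc])
  rw [γ.val_congr (Category.assoc α m j) ξ₂ _ h₃] at e2
  rw [e2]
  congr 1

/-- The fibre product of two étale `X`-schemes. -/
noncomputable def prodEt (U₁ U₂ : X.Etale) : X.Etale :=
  Scheme.Etale.mk (pullback.fst U₁.hom U₂.hom ≫ U₁.hom)

/-- first projection -/
noncomputable def prodEtFst (U₁ U₂ : X.Etale) : prodEt U₁ U₂ ⟶ U₁ :=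
  MorphismProperty.Over.homMk (pullback.fst U₁.hom U₂.hom) rfl trivial

/-- second projection -/
noncomputable def prodEtSnd (U₁ U₂ : X.Etale) : prodEt U₁ U₂ ⟶ U₂ :=
  MorphismProperty.Over.homMk (pullback.snd U₁.hom U₂.hom) pullback.condition.symm trivial

/-- Joint representation of two families. -/
theorem rep₂ (γ δ : Fam F g) (y : Y) :
    ∃ (V : Scheme.{u}) (j : V ⟶ Y) (_ : Etale j) (v : V) (_ : j v = y)
    (U : X.Etale) (k : V ⟶ U.left) (_ : k ≫ U.hom = j ≫ g) (s t : sect F U),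
    (∀ {Ω : Type u} [Field Ω] [IsSepClosed Ω] (ζ : Spec (.of Ω) ⟶ V) (ξ : Spec (.of Ω) ⟶ X)
      (h : (ζ ≫ j) ≫ g = ξ) (h' : (ζ ≫ k) ≫ U.hom = ξ),
      γ.val (ζ ≫ j) ξ h = germ F (ζ ≫ k) h' s) ∧
    (∀ {Ω : Type u} [Field Ω] [IsSepClosed Ω] (ζ : Spec (.of Ω) ⟶ V) (ξ : Spec (.of Ω) ⟶ X)
      (h : (ζ ≫ j) ≫ g = ξ) (h' : (ζ ≫ k) ≫ U.hom = ξ),
      δ.val (ζ ≫ j) ξ h = germ F (ζ ≫ k) h' t) := by
  obtain ⟨V₁, j₁, hj₁, v₁, hv₁, U₁, k₁, hk₁, s, hs⟩ := γ.rep y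
  obtain ⟨V₂, j₂, hj₂, v₂, hv₂, U₂, k₂, hk₂, t, ht⟩ := δ.rep y
  obtain ⟨w, hw1, hw2⟩ := Scheme.Pullback.exists_preimage_pullback (f := j₁) (g := j₂) v₁ v₂
    (hv₁.trans hv₂.symm)
  have hlift : (pullback.fst j₁ j₂ ≫ k₁) ≫ U₁.hom = (pullback.snd j₁ j₂ ≫ k₂) ≫ U₂.hom := by
    rw [Category.assoc, Category.assoc, hk₁, hk₂, pullback.condition_assoc]
  let k : pullback j₁ j₂ ⟶ (prodEt U₁ U₂).left :=
    pullback.lift (pullback.fst j₁ j₂ ≫ k₁) (pullback.snd j₁ j₂ ≫ k₂) hlift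
  have hkf : k ≫ (prodEtFst U₁ U₂).left = pullback.fst j₁ j₂ ≫ k₁ := pullback.lift_fst _ _ _
  have hks : k ≫ (prodEtSnd U₁ U₂).left = pullback.snd j₁ j₂ ≫ k₂ := pullback.lift_snd _ _ _
  have hkh : k ≫ (prodEt U₁ U₂).hom = (pullback.fst j₁ j₂ ≫ j₁) ≫ g := by
    have : k ≫ (prodEt U₁ U₂).hom = (k ≫ (prodEtFst U₁ U₂).left) ≫ U₁.hom :=
      (Category.assoc _ _ _).symm
    rw [this, hkf, Category.assoc, hk₁, Category.assoc]
  refine ⟨pullback j₁ j₂, pullback.fst j₁ j₂ ≫ j₁, inferInstance, w, ?_, prodEt U₁ U₂, k, hkh,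
    F.obj.map (prodEtFst U₁ U₂).op s, F.obj.map (prodEtSnd U₁ U₂).op t, ?_, ?_⟩
  · rw [Scheme.Hom.comp_apply, hw1, hv₁]
  · intro Ω _ _ ζ ξ h h'
    have e : ζ ≫ pullback.fst j₁ j₂ ≫ j₁ = (ζ ≫ pullback.fst j₁ j₂) ≫ j₁ :=
      (Category.assoc _ _ _).symm
    rw [γ.val_congr e ξ h (by rw [← e, h]), hs (ζ ≫ pullback.fst j₁ j₂) ξ _ (by
      rw [← h, Category.assoc, hk₁]; simp only [Category.assoc])]
    refine (germ_res' F (prodEtFst U₁ U₂) (ζ ≫ k) h' _ _ ?_ s).symm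
    rw [Category.assoc, hkf, Category.assoc]
  · intro Ω _ _ ζ ξ h h'
    have e : ζ ≫ pullback.fst j₁ j₂ ≫ j₁ = (ζ ≫ pullback.snd j₁ j₂) ≫ j₂ := by
      rw [pullback.condition, Category.assoc]
    rw [δ.val_congr e ξ h (by rw [← e, h]), ht (ζ ≫ pullback.snd j₁ j₂) ξ _ (by
      rw [← h, Category.assoc, hk₂, pullback.condition]; simp only [Category.assoc])]
    refine (germ_res' F (prodEtSnd U₁ U₂) (ζ ≫ k) h' _ _ ?_ t).symm
    rw [Category.assoc, hks, Category.assoc]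

/-- The agreement locus of two families. -/
def Agree (γ δ : Fam F g) : Set Y :=
  {y | ∃ (Ω : Type u) (_ : Field Ω) (_ : IsSepClosed Ω) (η : Spec (.of Ω) ⟶ Y), η default = y ∧
    γ.val η _ rfl = δ.val η _ rfl}

theorem mem_agree_iff (γ δ : Fam F g) {Ω : Type u} [Field Ω] [IsSepClosed Ω]
    (η : Spec (.of Ω) ⟶ Y) (ξ : Spec (.of Ω) ⟶ X) (h : η ≫ g = ξ) :
    η default ∈ Agree γ δ ↔ γ.val η ξ h = δ.val η ξ h := by
  subst h
  refine ⟨?_, fun h => ⟨Ω, inferInstance, inferInstance, η, rfl, h⟩⟩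
  rintro ⟨Ω', _, _, η', hη', e⟩
  obtain ⟨V, j, hj, v, hv, U, k, hk, s, t, hs, ht⟩ := rep₂ γ δ (η default)
  obtain ⟨m, rfl, hm⟩ := Scheme.exists_fac_of_etale_of_isSepClosed j η v hv
  obtain ⟨m', rfl, hm'⟩ := Scheme.exists_fac_of_etale_of_isSepClosed j η' v (hv.trans hη'.symm)
  have k₁ : ∀ {Ω : Type u} [Field Ω] (m : Spec (.of Ω) ⟶ V), (m ≫ k) ≫ U.hom = (m ≫ j) ≫ g :=
    fun m => by rw [Category.assoc, hk, Category.assoc]
  rw [hs m' _ rfl (k₁ m'), ht m' _ rfl (k₁ m'), ← mem_agree_iff'] at e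
  rw [hs m _ rfl (k₁ m), ht m _ rfl (k₁ m), ← mem_agree_iff', Scheme.Hom.comp_apply, hm, ← hm',
    ← Scheme.Hom.comp_apply]
  exact e

theorem isOpen_Agree (γ δ : Fam F g) : IsOpen (Agree γ δ) := by
  rw [isOpen_iff_forall_mem_open]
  rintro y hy
  obtain ⟨V, j, hj, v, hv, U, k, hk, s, t, hs, ht⟩ := rep₂ γ δ y
  have k₁ : ∀ {Ω : Type u} [Field Ω] (m : Spec (.of Ω) ⟶ V), (m ≫ k) ≫ U.hom = (m ≫ j) ≫ g :=
    fun m => by rw [Category.assoc, hk, Category.assoc]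
  have key : ∀ v' : V, k v' ∈ agree F s t ↔ j v' ∈ Agree γ δ := by
    intro v'
    obtain ⟨Ω, _, _, m, rfl⟩ := exists_geomPoint V v'
    have := mem_agree_iff γ δ (m ≫ j) _ rfl
    rw [hs m _ rfl (k₁ m), ht m _ rfl (k₁ m), ← mem_agree_iff'] at this
    exact this.symm
  refine ⟨j '' (k ⁻¹' agree F s t), ?_, ?_, ?_⟩
  · rintro _ ⟨v', hv', rfl⟩
    exact (key v').1 hv'
  · exact (AlgebraicGeometry.Scheme.Hom.isOpenMap j) _
      ((isOpen_agree F s t).preimage k.continuous)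
  · exact ⟨v, (key v).2 (by rwa [hv]), hv⟩

/-- Two families with the same values at geometric points covering `Y` agree everywhere. -/
theorem val_eq_of_cover (γ δ : Fam F g)
    (h : ∀ y : Y, ∃ (Ω : Type u) (_ : Field Ω) (_ : IsSepClosed Ω) (η : Spec (.of Ω) ⟶ Y),
      η default = y ∧ γ.val η _ rfl = δ.val η _ rfl)
    {Ω : Type u} [Field Ω] [IsSepClosed Ω] (η : Spec (.of Ω) ⟶ Y) (ξ : Spec (.of Ω) ⟶ X)
    (e : η ≫ g = ξ) : γ.val η ξ e = δ.val η ξ e :=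
  (mem_agree_iff γ δ η ξ e).1 (h _)

/-- A family over an étale `X`-scheme comes from a section. -/
theorem exists_sect {U : X.Etale} (γ : Fam F U.hom) :
    ∃ s : sect F U, ∀ {Ω : Type u} [Field Ω] [IsSepClosed Ω] (l : Spec (.of Ω) ⟶ U.left)
      (ξ : Spec (.of Ω) ⟶ X) (h : l ≫ U.hom = ξ), germ F l h s = γ.val l ξ h := by
  let P : ∀ (V : X.Etale) (_ : V ⟶ U), sect F V → Prop := fun V a s =>
    ∀ (Ω : Type u) [Field Ω] [IsSepClosed Ω] (m : Spec (.of Ω) ⟶ V.left)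
      (ξ : Spec (.of Ω) ⟶ X) (h : m ≫ V.hom = ξ) (h' : (m ≫ a.left) ≫ U.hom = ξ),
      germ F m h s = γ.val (m ≫ a.left) ξ h'
  have hw : ∀ {V : X.Etale} (a : V ⟶ U), a.left ≫ U.hom = V.hom := fun a => Over.w a.hom
  have hex : ∀ x : U.left, ∃ (V : X.Etale) (a : V ⟶ U) (v : V.left) (s : sect F V),
      a.left v = x ∧ P V a s := by
    intro x
    obtain ⟨V, j, hj, v, hv, U₁, k, hk, t, ht⟩ := γ.rep x
    let V' : X.Etale := Scheme.Etale.mk (j ≫ U.hom)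
    let a : V' ⟶ U := MorphismProperty.Over.homMk j rfl trivial
    let b : V' ⟶ U₁ := MorphismProperty.Over.homMk k hk trivial
    refine ⟨V', a, v, F.obj.map b.op t, hv, ?_⟩
    intro Ω _ _ m ξ h h'
    rw [germ_res]
    exact (ht m ξ h' _).symm
  obtain ⟨s, hs⟩ := exists_glue F U P (by
      intro V W a k s hs Ω _ _ m ξ h h'
      rw [germ_res]
      refine (hs Ω (m ≫ k.left) ξ _ ?_).trans ?_
      · rw [← h']
        exact congrArg (· ≫ U.hom) (Category.assoc m k.left a.left)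
      · exact γ.val_congr (Category.assoc m k.left a.left) ξ _ h')
    (by
      intro V a s t hs ht
      refine sect_ext_germ' F V s t (fun Ω _ _ l => ?_)
      rw [hs Ω l _ rfl (by rw [Category.assoc, hw]), ht Ω l _ rfl (by rw [Category.assoc, hw])])
    hex
  refine ⟨s, ?_⟩
  intro Ω _ _ l ξ h
  obtain ⟨V, a, v, t, hv, ht⟩ := hex (l default)
  obtain ⟨m, hm, -⟩ := exists_lift a l v hv
  have hm' : m ≫ V.hom = ξ := by rw [← hw a, ← Category.assoc, hm, h]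
  rw [← germ_res' F a m hm' l h hm s, hs V a t ht, ht Ω m ξ hm' (by rw [hm, h])]
  exact γ.val_congr hm ξ _ h

/-- Families along `h ≫ g` give families of `g^* F` along `h`. -/
noncomputable def toPull {h : Z ⟶ Y} (γ : Fam F (h ≫ g)) : Fam ((pullSh g).obj F) h where
  val η ζ e := pullStk' g F ζ (ζ ≫ g) rfl (γ.val η (ζ ≫ g) (by rw [← e, Category.assoc]))
  rep z := by
    obtain ⟨V, j, hj, v, hv, U, k, hk, t, ht⟩ := γ.rep z
    have hk' : k ≫ U.hom = (j ≫ h) ≫ g := by rw [hk, Category.assoc]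
    let k' : V ⟶ ((EtCoh.bc g).obj U).left := pullback.lift k (j ≫ h) hk'
    have hkf : k' ≫ bcFst g U = k := pullback.lift_fst _ _ _
    have hkh : k' ≫ ((EtCoh.bc g).obj U).hom = j ≫ h := pullback.lift_snd _ _ _
    refine ⟨V, j, hj, v, hv, (EtCoh.bc g).obj U, k', hkh, pullSect g F t, ?_⟩
    intro Ω _ _ ζ ξ e e'
    have e'' : ((ζ ≫ k') ≫ bcFst g U) ≫ U.hom = ξ ≫ g := by
      rw [← e, Category.assoc, Category.assoc, bc_condition, reassoc_of% hkh]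
      simp only [Category.assoc]
    rw [germ_pullSect g F t (ζ ≫ k') ξ e' (ξ ≫ g) e'']
    congr 1
    have e3 : (ζ ≫ k) ≫ U.hom = ξ ≫ g := by
      rw [← e, Category.assoc, hk']; simp only [Category.assoc]
    rw [ht ζ (ξ ≫ g) _ e3]
    congr 1
    rw [Category.assoc, hkf]

theorem toPull_val {h : Z ⟶ Y} (γ : Fam F (h ≫ g)) {Ω : Type u} [Field Ω] [IsSepClosed Ω]
    (η : Spec (.of Ω) ⟶ Z) (ζ : Spec (.of Ω) ⟶ Y) (ξ : Spec (.of Ω) ⟶ X) (e : η ≫ h = ζ)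
    (e₂ : ζ ≫ g = ξ) (e₃ : η ≫ h ≫ g = ξ) :
    γ.toPull.val η ζ e = pullStk' g F ζ ξ e₂ (γ.val η ξ e₃) := by
  subst e₂; rfl

/-- The family of `F` attached to a section of `g^* F` over an étale `Y`-scheme. -/
noncomputable def ofPullSect {V : Y.Etale} (s : sect ((pullSh g).obj F) V) :
    Fam F (V.hom ≫ g) where
  val η ξ h := (pullStk' g F (η ≫ V.hom) ξ (by rw [Category.assoc, h])).symm (germ _ η rfl s)
  rep v := by
    obtain ⟨Ω, _, _, η, rfl⟩ := exists_geomPoint V.left v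
    obtain ⟨σ, hσ⟩ := (pullStk' g F (η ≫ V.hom) ((η ≫ V.hom) ≫ g) rfl).surjective (germ _ η rfl s)
    obtain ⟨U, l, hl, t, rfl⟩ := exists_germ F σ
    rw [pullStk'_germ, germ_eq_germ_iff] at hσ
    obtain ⟨W, b, a, n, hn, hb, ha, e⟩ := hσ
    have ha' : a.left ≫ V.hom = W.hom := Over.w a.hom
    have hb' : b.left ≫ ((EtCoh.bc g).obj U).hom = W.hom := Over.w b.hom
    refine ⟨W.left, a.left, inferInstance, n default, ?_, U, b.left ≫ bcFst g U, ?_, t, ?_⟩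
    · rw [← Scheme.Hom.comp_apply, ha]
    · rw [Category.assoc, bc_condition, ← Category.assoc, hb', ← Category.assoc, ha']
    · intro Ω' _ _ ζ ξ h h'
      rw [Equiv.symm_apply_eq]
      have h1 : germ ((pullSh g).obj F) (ζ ≫ a.left) rfl s =
          germ ((pullSh g).obj F) ζ (by rw [Category.assoc, ha'])
            (((pullSh g).obj F).obj.map a.op s) :=
        (germ_res' _ a ζ _ _ _ rfl s).symm
      rw [h1, ← e, germ_res]
      rw [germ_pullSect g F t (ζ ≫ b.left) _ _ ξ (by rw [← h']; simp only [Category.assoc])]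
      congr 2

theorem ofPullSect_val {V : Y.Etale} (s : sect ((pullSh g).obj F) V) {Ω : Type u} [Field Ω]
    [IsSepClosed Ω] (η : Spec (.of Ω) ⟶ V.left) (ζ : Spec (.of Ω) ⟶ Y) (ξ : Spec (.of Ω) ⟶ X)
    (e : η ≫ V.hom ≫ g = ξ) (e₁ : η ≫ V.hom = ζ) (e₂ : ζ ≫ g = ξ) :
    (ofPullSect s).val η ξ e = (pullStk' g F ζ ξ e₂).symm (germ _ η e₁ s) := by
  subst e₁; rfl

/-- Families of `g^* F` along `h` give families of `F` along `h ≫ g`. -/
noncomputable def fromPull {h : Z ⟶ Y} (γ : Fam ((pullSh g).obj F) h) : Fam F (h ≫ g) where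
  val η ξ e := (pullStk' g F (η ≫ h) ξ (by rw [Category.assoc, e])).symm (γ.val η (η ≫ h) rfl)
  rep z := by
    obtain ⟨V, j, hj, v, hv, W, k, hk, t, ht⟩ := γ.rep z
    obtain ⟨V₂, j₂, hj₂, v₂, hv₂, U, k₂, hk₂, t₂, ht₂⟩ := (ofPullSect (g := g) t).rep (k v)
    obtain ⟨w, hw1, hw2⟩ := Scheme.Pullback.exists_preimage_pullback (f := k) (g := j₂) v v₂
      hv₂.symm
    refine ⟨pullback k j₂, pullback.fst k j₂ ≫ j, inferInstance, w, ?_, U,
      pullback.snd k j₂ ≫ k₂, ?_, t₂, ?_⟩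
    · rw [Scheme.Hom.comp_apply, hw1, hv]
    · rw [Category.assoc, hk₂, ← pullback.condition_assoc, reassoc_of% hk, Category.assoc]
    · intro Ω _ _ ζ ξ e e'
      have e1 : ζ ≫ pullback.fst k j₂ ≫ j = (ζ ≫ pullback.fst k j₂) ≫ j :=
        (Category.assoc _ _ _).symm
      have e2 : ((ζ ≫ pullback.fst k j₂) ≫ k) ≫ W.hom = (ζ ≫ pullback.fst k j₂ ≫ j) ≫ h := by
        rw [Category.assoc, Category.assoc, hk]; simp only [Category.assoc]
      have e3 : (ζ ≫ pullback.fst k j₂) ≫ k = (ζ ≫ pullback.snd k j₂) ≫ j₂ := by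
        rw [Category.assoc, pullback.condition, Category.assoc]
      have e4 : ((ζ ≫ pullback.snd k j₂) ≫ j₂) ≫ W.hom ≫ g = ξ := by
        rw [← e3, ← Category.assoc, e2, ← e]; simp only [Category.assoc]
      have e5 : ((ζ ≫ pullback.snd k j₂) ≫ k₂) ≫ U.hom = ξ := by
        rw [← e4, Category.assoc, hk₂]; simp only [Category.assoc]
      have h1 := ht (ζ ≫ pullback.fst k j₂) ((ζ ≫ pullback.fst k j₂ ≫ j) ≫ h)
        (by rw [e1]) e2
      rw [← γ.val_congr e1 _ rfl] at h1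
      rw [h1, Equiv.symm_apply_eq]
      have h2 := ht₂ (ζ ≫ pullback.snd k j₂) ξ e4 e5
      have h3 : germ F (ζ ≫ pullback.snd k j₂ ≫ k₂) e' t₂ =
        germ F ((ζ ≫ pullback.snd k j₂) ≫ k₂) e5 t₂ := by
        congr 1
      rw [h3, ← h2, ofPullSect_val t ((ζ ≫ pullback.snd k j₂) ≫ j₂)
        ((ζ ≫ pullback.fst k j₂ ≫ j) ≫ h) ξ e4 (by rw [← e3, e2])
        (by rw [← e]; simp only [Category.assoc]), Equiv.apply_symm_apply]
      congr 1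

theorem fromPull_val {h : Z ⟶ Y} (γ : Fam ((pullSh g).obj F) h) {Ω : Type u} [Field Ω]
    [IsSepClosed Ω]
    (η : Spec (.of Ω) ⟶ Z) (ζ : Spec (.of Ω) ⟶ Y) (ξ : Spec (.of Ω) ⟶ X) (e : η ≫ h = ζ)
    (e₂ : ζ ≫ g = ξ) (e₃ : η ≫ h ≫ g = ξ) :
    γ.fromPull.val η ξ e₃ = (pullStk' g F ζ ξ e₂).symm (γ.val η ζ e) := by
  subst e; rfl

/-- A family along `V ⟶ Y ⟶ X` with `V` étale over `Y` comes from a section of `g^* F`. -/
theorem exists_pullSect {V : Y.Etale} (γ : Fam F (V.hom ≫ g)) :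
    ∃ s : sect ((pullSh g).obj F) V, ∀ {Ω : Type u} [Field Ω] [IsSepClosed Ω]
      (η : Spec (.of Ω) ⟶ V.left) (ζ : Spec (.of Ω) ⟶ Y) (ξ : Spec (.of Ω) ⟶ X)
      (e : η ≫ V.hom = ζ) (e₂ : ζ ≫ g = ξ) (e₃ : η ≫ V.hom ≫ g = ξ),
      germ _ η e s = pullStk' g F ζ ξ e₂ (γ.val η ξ e₃) := by
  obtain ⟨s, hs⟩ := exists_sect (F := (pullSh g).obj F) (U := V) γ.toPull
  refine ⟨s, ?_⟩
  intro Ω _ _ η ζ ξ e e₂ e₃
  rw [hs η ζ e, toPull_val γ η ζ ξ e e₂ e₃]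

/-- A family comes from a global section of `g^* F`. -/
theorem exists_topSect (γ : Fam F g) :
    ∃ s : sect ((pullSh g).obj F) (EtCoh.top Y), ∀ {Ω : Type u} [Field Ω] [IsSepClosed Ω]
      (η : Spec (.of Ω) ⟶ Y) (ξ : Spec (.of Ω) ⟶ X) (e : η ≫ g = ξ),
      germTop _ η s = pullStk' g F η ξ e (γ.val η ξ e) := by
  obtain ⟨s, hs⟩ := exists_pullSect (V := EtCoh.top Y) (g := g) (γ.pull (𝟙 Y))
  refine ⟨s, ?_⟩
  intro Ω _ _ η ξ e
  have := hs (topPt η) η ξ (topPt_hom η) e (by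
    rw [← e]; exact congrArg _ (Category.id_comp g))
  refine this.trans ?_
  congr 1

/-- The family of a global section of `g^* F`. -/
noncomputable def ofTopSect (s : sect ((pullSh g).obj F) (EtCoh.top Y)) : Fam F g :=
  (ofPullSect (V := EtCoh.top Y) s).congr (Category.id_comp g)

theorem ofTopSect_val (s : sect ((pullSh g).obj F) (EtCoh.top Y)) {Ω : Type u} [Field Ω]
    [IsSepClosed Ω] (η : Spec (.of Ω) ⟶ Y) (ξ : Spec (.of Ω) ⟶ X) (e : η ≫ g = ξ) :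
    pullStk' g F η ξ e ((ofTopSect s).val η ξ e) = germTop _ η s := by
  have h1 : (ofTopSect s).val η ξ e = (pullStk' g F η ξ e).symm (germTop _ η s) :=
    (congr_val _ (Category.id_comp g) η ξ e).trans
      (ofPullSect_val (V := EtCoh.top Y) s (topPt η) η ξ _ (topPt_hom η) e)
  rw [h1, Equiv.apply_symm_apply]

/-- **Descent of families along submersive morphisms.** -/
theorem exists_descend {q : Z ⟶ Y} (hq : EtSubmersive q) (γ : Fam F (q ≫ g))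
    (hγ : ∀ (Ω : Type u) [Field Ω] [IsSepClosed Ω] (z₁ z₂ : Spec (.of Ω) ⟶ Z)
      (_ : z₁ ≫ q = z₂ ≫ q) (ξ : Spec (.of Ω) ⟶ X) (h₁ : z₁ ≫ q ≫ g = ξ) (h₂ : z₂ ≫ q ≫ g = ξ),
      γ.val z₁ ξ h₁ = γ.val z₂ ξ h₂) :
    ∃ δ : Fam F g, ∀ {Ω : Type u} [Field Ω] [IsSepClosed Ω] (z : Spec (.of Ω) ⟶ Z)
      (ξ : Spec (.of Ω) ⟶ X) (h : (z ≫ q) ≫ g = ξ) (h' : z ≫ q ≫ g = ξ),
      δ.val (z ≫ q) ξ h = γ.val z ξ h' := by
  let G := (pullSh g).obj F
  obtain ⟨s', hs'⟩ := exists_topSect (F := G) (g := q) γ.toPull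
  have hcomp : ∀ (Ω : Type u) [Field Ω] [IsSepClosed Ω] (ξ'₁ ξ'₂ : Spec (.of Ω) ⟶ Z)
      (ξ : Spec (.of Ω) ⟶ Y) (h₁ : ξ'₁ ≫ q = ξ) (h₂ : ξ'₂ ≫ q = ξ),
      (pullStk' q G ξ'₁ ξ h₁).symm (germTop _ ξ'₁ s') =
        (pullStk' q G ξ'₂ ξ h₂).symm (germTop _ ξ'₂ s') := by
    intro Ω _ _ ξ'₁ ξ'₂ ξ h₁ h₂
    rw [hs' ξ'₁ ξ h₁, hs' ξ'₂ ξ h₂, Equiv.symm_apply_apply, Equiv.symm_apply_apply,
      toPull_val γ ξ'₁ ξ (ξ ≫ g) h₁ rfl (by rw [← h₁, Category.assoc]),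
      toPull_val γ ξ'₂ ξ (ξ ≫ g) h₂ rfl (by rw [← h₂, Category.assoc])]
    congr 1
    exact hγ Ω ξ'₁ ξ'₂ (h₁.trans h₂.symm) _ _ _
  obtain ⟨s, hs⟩ := exists_secPull_eq q hq G s' hcomp
  refine ⟨ofTopSect s, ?_⟩
  intro Ω _ _ z ξ h h'
  apply (pullStk' g F (z ≫ q) ξ h).injective
  rw [ofTopSect_val s (z ≫ q) ξ h]
  apply (pullStk' q G z (z ≫ q) rfl).injective
  rw [← germTop_secPull' q G s z (z ≫ q) rfl, hs, hs' z (z ≫ q) rfl,
    toPull_val γ z (z ≫ q) ξ rfl h h']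

end Fam

end Groth.Agent.Sga4A.EtStalk
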