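import Groth.Agent.Sga4A.PbcSet
import Groth.Agent.Sga4A.EtFam

/-!
# Degree zero base change for sheaves of sets, in terms of families of germs
-/

set_option autoImplicit false
universe u

open CategoryTheory CategoryTheory.Limits AlgebraicGeometry Opposite

namespace Groth.Agent.Sga4A.PbcFam

open Groth.Agent.Sga4A.EtStalk Groth.Agent.Sga4A.FreeAbEt Groth.Agent.Sga4A.PbcAb
  Groth.Agent.Sga4A.PbcSet EtDesc

/-- A family of germs over the geometric fibre extends to an étale neighbourhood. -/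
theorem exists_sect_of_fam {T S : Scheme.{u}} (π : T ⟶ S) [UniversallyClosed π] {Ω : Type u}
    [Field Ω] [IsSepClosed Ω] (ξ : Spec (.of Ω) ⟶ S) (G : Sh T)
    (hbc : IsIso (EtCoh.baseChange0 π ξ (pullback.snd π ξ) (pullback.fst π ξ)
      pullback.condition (ZZ G)))
    (γ : Fam G (pullback.fst π ξ)) :
    ∃ (U : S.Etale) (l : Spec (.of Ω) ⟶ U.left) (_ : l ≫ U.hom = ξ)
      (b : sect G ((EtCoh.bc π).obj U)),
      ∀ (Ω' : Type u) [Field Ω'] [IsSepClosed Ω'] (ζ : Spec (.of Ω') ⟶ pullback π ξ)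
        (ρ : Spec (.of Ω') ⟶ T) (h : ζ ≫ pullback.fst π ξ = ρ)
        (h' : (ζ ≫ pullback.snd π ξ ≫ l) ≫ U.hom = ρ ≫ π),
        γ.val ζ ρ h = germ G (bcPt π ρ (ζ ≫ pullback.snd π ξ ≫ l) h') (bcPt_hom _ _ _ _) b := by
  obtain ⟨s, hs⟩ := γ.exists_topSect
  obtain ⟨U, l, hl, b, hb⟩ := exists_section_germ π ξ G hbc s
  refine ⟨U, l, hl, b, ?_⟩
  intro Ω' _ _ ζ ρ h h'
  subst h
  have h1 := (hs ζ _ rfl).symm.trans (hb Ω' ζ)
  have h2 := (pullStk (pullback.fst π ξ) G ζ).injective h1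
  refine h2.trans ?_
  have e : ζ ≫ fibInc π ξ l hl =
      bcPt π (ζ ≫ pullback.fst π ξ) (ζ ≫ pullback.snd π ξ ≫ l) h' := by
    apply hom_ext_bc
    · rw [Category.assoc, fibInc_fst, bcPt_fst]
    · rw [Category.assoc, fibInc_hom, bcPt_hom]
  congr 1

end Groth.Agent.Sga4A.PbcFam
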