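import Groth.Prelude.Def_SGA4c
import Mathlib.CategoryTheory.Sites.LocallySurjective
import Mathlib.CategoryTheory.Sites.EpiMono

/-!
# Jointly epimorphic families in `Sheaf J (Type u)`, elementwise
-/

set_option autoImplicit false
open CategoryTheory CategoryTheory.Limits Opposite
universe w u

namespace Groth.Agent.Sga4A.EpiFam

variable {C : Type u} [SmallCategory C] {J : GrothendieckTopology C}

/-- The sieve of arrows along which a section of `X` lifts to one of the `F i`. -/
def famSieve {X : ToposFin.Sh J} {ι : Type w} (F : ι → ToposFin.Sh J) (π : ∀ i, F i ⟶ X) {U : C}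
    (x : X.obj.obj (op U)) : Sieve U where
  arrows V f := ∃ i, ∃ y : (F i).obj.obj (op V), (π i).hom.app _ y = X.obj.map f.op x
  downward_closed := by
    rintro V W f ⟨i, y, hy⟩ g
    refine ⟨i, (F i).obj.map g.op y, ?_⟩
    rw [NatTrans.naturality_apply (π i).hom, hy]
    simp

/-- The subfunctor of sections of `X` which lift to one of the `F i`. -/
def famRange {X : ToposFin.Sh J} {ι : Type w} (F : ι → ToposFin.Sh J) (π : ∀ i, F i ⟶ X) :
    Subfunctor X.obj where
  obj U := {x | ∃ i, ∃ y : (F i).obj.obj U, (π i).hom.app _ y = x}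
  map := by
    rintro U V f x ⟨i, y, hy⟩
    refine ⟨i, (F i).obj.map f y, ?_⟩
    rw [NatTrans.naturality_apply (π i).hom, hy]

theorem sieveOfSection_famRange {X : ToposFin.Sh J} {ι : Type w} (F : ι → ToposFin.Sh J)
    (π : ∀ i, F i ⟶ X) {U : C} (x : X.obj.obj (op U)) :
    (famRange F π).sieveOfSection x = famSieve F π x := rfl

/-- The subsheaf generated by a family. -/
def famImage {X : ToposFin.Sh J} {ι : Type w} (F : ι → ToposFin.Sh J) (π : ∀ i, F i ⟶ X) :
    ToposFin.Sh J :=
  ⟨((famRange F π).sheafify J).toFunctor, by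
    rw [isSheaf_iff_isSheaf_of_type]
    apply Subfunctor.sheafify_isSheaf
    rw [← isSheaf_iff_isSheaf_of_type]
    exact X.2⟩

/-- Inclusion of the subsheaf generated by a family. -/
def famImageι {X : ToposFin.Sh J} {ι : Type w} (F : ι → ToposFin.Sh J) (π : ∀ i, F i ⟶ X) :
    famImage F π ⟶ X := ⟨Subfunctor.ι _⟩

instance {X : ToposFin.Sh J} {ι : Type w} (F : ι → ToposFin.Sh J) (π : ∀ i, F i ⟶ X) :
    Mono (famImageι F π) :=
  (sheafToPresheaf J _).mono_of_mono_map
    (inferInstanceAs (Mono (Subfunctor.ι ((famRange F π).sheafify J))))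

/-- A member of the family factors through the subsheaf generated by the family. -/
def toFamImage {X : ToposFin.Sh J} {ι : Type w} (F : ι → ToposFin.Sh J) (π : ∀ i, F i ⟶ X) (i : ι) :
    F i ⟶ famImage F π :=
  ⟨Subfunctor.lift (π i).hom (by
    rintro U _ ⟨y, rfl⟩
    exact (famRange F π).le_sheafify J U ⟨i, y, rfl⟩)⟩

@[reassoc (attr := simp)]
theorem toFamImage_ι {X : ToposFin.Sh J} {ι : Type w} (F : ι → ToposFin.Sh J)
    (π : ∀ i, F i ⟶ X) (i : ι) : toFamImage F π i ≫ famImageι F π = π i := by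
  ext1
  rfl

theorem famSieve_mem_of_isIso {X : ToposFin.Sh J} {ι : Type w} (F : ι → ToposFin.Sh J)
    (π : ∀ i, F i ⟶ X) [IsIso (famImageι F π)] {U : C} (x : X.obj.obj (op U)) :
    famSieve F π x ∈ J U := by
  have h1 : IsIso (famImageι F π).hom :=
    (inferInstance : IsIso ((sheafToPresheaf J _).map (famImageι F π)))
  have h2 : (famRange F π).sheafify J = ⊤ := (Subfunctor.eq_top_iff_isIso _).2 h1
  have h3 : x ∈ ((famRange F π).sheafify J).obj (op U) := by rw [h2]; trivial
  exact h3

theorem epi_desc_iff {X : ToposFin.Sh J} {ι : Type u} (F : ι → ToposFin.Sh J) (π : ∀ i, F i ⟶ X) :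
    Epi (Sigma.desc π) ↔ ∀ (U : C) (x : X.obj.obj (op U)), famSieve F π x ∈ J U := by
  constructor
  · intro h U x
    have h1 : Sigma.desc (toFamImage F π) ≫ famImageι F π = Sigma.desc π := by
      ext1 i; simp
    have h2 : Epi (famImageι F π) := epi_of_epi_fac h1
    have h3 : IsIso (famImageι F π) := isIso_of_mono_of_epi _
    exact famSieve_mem_of_isIso F π x
  · intro h
    refine ⟨fun {Z} g₁ g₂ e => ?_⟩
    ext ⟨U⟩ x
    apply (((isSheaf_iff_isSheaf_of_type _ _).1 Z.2).isSeparated _ (h U x)).ext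
    rintro V f ⟨i, y, hy⟩
    have e' : π i ≫ g₁ = π i ≫ g₂ := by
      have := congr_arg (fun t => Sigma.ι F i ≫ t) e
      simpa using this
    have e'' := ConcreteCategory.congr_hom (congr_app ((sheafToPresheaf J _).congr_map e') (op V)) y
    dsimp at e''
    have h₁ := NatTrans.naturality_apply g₁.hom f.op x
    have h₂ := NatTrans.naturality_apply g₂.hom f.op x
    refine h₁.symm.trans (Eq.trans ?_ h₂)
    rw [← hy]
    exact e''

end Groth.Agent.Sga4A.EpiFam
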