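import Groth.Prelude.Def_SGA4c
import Mathlib.CategoryTheory.Sites.LocallySurjective
import Mathlib.CategoryTheory.Sites.LocallyInjective
import Mathlib.CategoryTheory.Sites.EpiMono

/-!
# Sections of `eps J X` coming from arrows of the site
-/

set_option autoImplicit false
open CategoryTheory CategoryTheory.Limits Opposite
universe w u

namespace Groth.Agent.Sga4A.EpsSect

variable {C : Type u} [SmallCategory C] (J : GrothendieckTopology C)

/-- The section of `eps J X` over `V` given by an arrow `V ⟶ X`. -/
noncomputable def sect {V X : C} (f : V ⟶ X) : (ToposFin.eps J X).obj.obj (op V) :=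
  (toSheafify J (yoneda.obj X)).app (op V) f

theorem map_sect {V W X : C} (f : V ⟶ X) (g : W ⟶ V) :
    (ToposFin.eps J X).obj.map g.op (sect J f) = sect J (g ≫ f) :=
  (NatTrans.naturality_apply (toSheafify J (yoneda.obj X)) g.op f).symm

theorem eps_map_sect {V X Y : C} (f : V ⟶ X) (h : X ⟶ Y) :
    ((presheafToSheaf J (Type u)).map (yoneda.map h)).hom.app (op V) (sect J f) =
      sect J (f ≫ h) := by
  have h1 := toSheafify_naturality J (yoneda.map h)
  have h2 := ConcreteCategory.congr_hom (congr_app h1 (op V)) f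
  exact h2.symm

/-- Every section of `eps J X` is locally given by an arrow. -/
theorem exists_sect {U X : C} (x : (ToposFin.eps J X).obj.obj (op U)) :
    ∃ S ∈ J U, ∀ (V : C) (g : V ⟶ U), S g → ∃ f : V ⟶ X,
      sect J f = (ToposFin.eps J X).obj.map g.op x := by
  refine ⟨_, Presheaf.imageSieve_mem J (toSheafify J (yoneda.obj X)) x, ?_⟩
  rintro V g ⟨f, hf⟩
  exact ⟨f, hf⟩

/-- Two arrows which give the same section agree locally. -/
theorem eq_locally {U X : C} (f g : U ⟶ X) (h : sect J f = sect J g) :
    ∃ S ∈ J U, ∀ (V : C) (a : V ⟶ U), S a → a ≫ f = a ≫ g := by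
  refine ⟨_, Presheaf.equalizerSieve_mem J (toSheafify J (yoneda.obj X)) (X := op U) f g h, ?_⟩
  intro V a ha
  exact ha

end Groth.Agent.Sga4A.EpsSect
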