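import Groth.Prelude.Def_SGA4c
import Mathlib.CategoryTheory.Sites.LocallySurjective
import Mathlib.CategoryTheory.Sites.Subsheaf
import Mathlib.CategoryTheory.MorphismProperty.Limits
import Mathlib.CategoryTheory.Limits.Types.Pullbacks

/-!
# Jointly surjective families and quasi-compactness in a sheaf topos

* `JS π` : the family `π i : F i ⟶ X` of morphisms of sheaves of sets is jointly (locally) surjective.
* `js_iff_epi` : `JS π ↔ Epi (Sigma.desc π)`.
* `isQC_iff_js` : quasi-compactness in terms of `JS`.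
* pullback, composition, refinement of `JS` families.
* `QCH J` : the morphism property of quasi-compact morphisms, stable under base change and composition;
  `qsh_iff` : `IsQSHom f ↔ (QCH J).diagonal f`.
-/

set_option autoImplicit false

universe w w' u

open CategoryTheory CategoryTheory.Limits Opposite ToposFin

namespace Groth.Agent.Sga4A.QC

variable {C : Type u} [SmallCategory C] {J : GrothendieckTopology C}

/-- A family of morphisms of sheaves of sets is jointly (locally) surjective. -/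
def JS {ι : Type w} {X : Sh J} {F : ι → Sh J} (π : ∀ i, F i ⟶ X) : Prop :=
  ∀ (U : C) (s : X.obj.obj (op U)), ∃ S ∈ J U, ∀ (V : C) (g : V ⟶ U), S g →
    ∃ (i : ι) (x : (F i).obj.obj (op V)), (π i).hom.app (op V) x = X.obj.map g.op s

/-- The union of the images of a family, as a subpresheaf. -/
def imSub {ι : Type w} {X : Sh J} {F : ι → Sh J} (π : ∀ i, F i ⟶ X) : Subfunctor X.obj where
  obj U := {s | ∃ (i : ι) (x : (F i).obj.obj U), (π i).hom.app U x = s}
  map := by
    rintro U V g _ ⟨i, x, rfl⟩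
    exact ⟨i, (F i).obj.map g x, NatTrans.naturality_apply (π i).hom g x⟩

lemma js_iff_sheafify {ι : Type w} {X : Sh J} {F : ι → Sh J} (π : ∀ i, F i ⟶ X) :
    JS π ↔ ((imSub π).sheafify J) = ⊤ := by
  constructor
  · intro h
    ext ⟨U⟩ s
    simp only [Subfunctor.top_obj, Set.top_eq_univ, Set.mem_univ, iff_true]
    obtain ⟨S, hS, h⟩ := h U s
    refine J.superset_covering ?_ hS
    intro V g hg
    exact h V g hg
  · intro h U s
    have : s ∈ ((imSub π).sheafify J).obj (op U) := by rw [h]; trivial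
    exact ⟨_, this, fun V g hg => hg⟩

/-- equality of maps can be tested on a jointly surjective family -/
lemma JS.hom_ext {ι : Type w} {X : Sh J} {F : ι → Sh J} {π : ∀ i, F i ⟶ X} (h : JS π)
    {Z : Sh J} {a b : X ⟶ Z} (hab : ∀ i, π i ≫ a = π i ≫ b) : a = b := by
  ext U s
  obtain ⟨S, hS, h⟩ := h U.unop s
  apply (((isSheaf_iff_isSheaf_of_type _ _).1 Z.2).isSeparated _ hS).ext
  intro V g hg
  obtain ⟨i, x, hx⟩ := h V g hg
  dsimp
  have h₁ := NatTrans.naturality_apply a.hom g.op s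
  have h₂ := NatTrans.naturality_apply b.hom g.op s
  dsimp at h₁ h₂
  rw [← h₁, ← h₂, ← hx]
  exact ConcreteCategory.congr_hom (congr_app ((sheafToPresheaf J _).congr_map (hab i)) (op V)) x

/-- The image sheaf of a family. -/
noncomputable def imSheaf {ι : Type w} {X : Sh J} {F : ι → Sh J} (π : ∀ i, F i ⟶ X) : Sh J :=
  ⟨((imSub π).sheafify J).toFunctor, by
    rw [isSheaf_iff_isSheaf_of_type]
    apply Subfunctor.sheafify_isSheaf
    rw [← isSheaf_iff_isSheaf_of_type]
    exact X.2⟩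

/-- The inclusion of the image sheaf of a family. -/
noncomputable def imι {ι : Type w} {X : Sh J} {F : ι → Sh J} (π : ∀ i, F i ⟶ X) : imSheaf π ⟶ X :=
  ⟨Subfunctor.ι _⟩

instance {ι : Type w} {X : Sh J} {F : ι → Sh J} (π : ∀ i, F i ⟶ X) : Mono (imι π) :=
  (sheafToPresheaf J _).mono_of_mono_map
    (show Mono (Subfunctor.ι ((imSub π).sheafify J)) from inferInstance)

/-- Members of the family factor through the image sheaf. -/
noncomputable def toIm {ι : Type w} {X : Sh J} {F : ι → Sh J} (π : ∀ i, F i ⟶ X) (i : ι) :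
    F i ⟶ imSheaf π :=
  ⟨Subfunctor.lift (π i).hom (by
    rintro U _ ⟨x, rfl⟩
    exact Subfunctor.le_sheafify J _ _ ⟨i, x, rfl⟩)⟩

@[reassoc (attr := simp)]
lemma toIm_ι {ι : Type w} {X : Sh J} {F : ι → Sh J} (π : ∀ i, F i ⟶ X) (i : ι) :
    toIm π i ≫ imι π = π i := by
  apply Sheaf.hom_ext
  rfl

lemma js_iff_isIso_imι {ι : Type w} {X : Sh J} {F : ι → Sh J} (π : ∀ i, F i ⟶ X) :
    JS π ↔ IsIso (imι π) := by
  rw [js_iff_sheafify, Subfunctor.eq_top_iff_isIso]
  exact isIso_iff_of_reflects_iso (f := imι π) (F := sheafToPresheaf J (Type u))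

/-- A family which tests equality of maps is jointly surjective. -/
lemma js_of_epiFamily {ι : Type w} {X : Sh J} {F : ι → Sh J} {π : ∀ i, F i ⟶ X}
    (h : ∀ (Z : Sh J) (a b : X ⟶ Z), (∀ i, π i ≫ a = π i ≫ b) → a = b) : JS π := by
  rw [js_iff_isIso_imι]
  have : Epi (imι π) := ⟨fun {Z} a b hab => h Z a b fun i => by
    rw [← toIm_ι π i, Category.assoc, Category.assoc, hab]⟩
  exact isIso_of_mono_of_epi _

lemma js_iff_epiFamily {ι : Type w} {X : Sh J} {F : ι → Sh J} {π : ∀ i, F i ⟶ X} :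
    JS π ↔ ∀ (Z : Sh J) (a b : X ⟶ Z), (∀ i, π i ≫ a = π i ≫ b) → a = b :=
  ⟨fun h _ _ _ hab => h.hom_ext hab, js_of_epiFamily⟩

/-- Jointly surjective = the map from the coproduct is an epimorphism. -/
lemma js_iff_epi {ι : Type w} {X : Sh J} {F : ι → Sh J} [HasCoproduct F] (π : ∀ i, F i ⟶ X) :
    JS π ↔ Epi (Sigma.desc π) := by
  rw [js_iff_epiFamily]
  constructor
  · intro h
    refine ⟨fun {Z} a b hab => h Z a b fun i => ?_⟩
    have := congrArg (fun t => Sigma.ι F i ≫ t) hab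
    simpa using this
  · intro h Z a b hab
    rw [← cancel_epi (Sigma.desc π)]
    apply Sigma.hom_ext
    intro i
    simpa using hab i

/-- A single epimorphism is a jointly surjective family. -/
lemma js_single {ι : Type w} [Unique ι] {X : Sh J} {F : ι → Sh J} (π : ∀ i, F i ⟶ X) :
    JS π ↔ Epi (π default) := by
  rw [js_iff_epiFamily]
  constructor
  · intro h
    exact ⟨fun {Z} a b hab => h Z a b fun i => by rw [Unique.eq_default i]; exact hab⟩
  · intro h Z a b hab
    exact (cancel_epi (π default)).1 (hab default)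

lemma js_punit {X Y : Sh J} (f : Y ⟶ X) : JS (fun _ : PUnit.{w + 1} => f) ↔ Epi f :=
  js_single _

/-- If the members of a jointly surjective family factor through members of `π`, then `π` is jointly surjective. -/
lemma JS.of_factors {ι : Type w} {κ : Type w'} {X : Sh J} {F : ι → Sh J} {G : κ → Sh J}
    {π : ∀ i, F i ⟶ X} {ρ : ∀ k, G k ⟶ X} (h : JS ρ)
    (hf : ∀ k, ∃ (i : ι) (t : G k ⟶ F i), t ≫ π i = ρ k) : JS π := by
  rw [js_iff_epiFamily]
  intro Z a b hab
  apply h.hom_ext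
  intro k
  obtain ⟨i, t, ht⟩ := hf k
  rw [← ht, Category.assoc, Category.assoc, hab i]

/-- Reindexing a jointly surjective family along a surjection. -/
lemma JS.reindex {ι : Type w} {κ : Type w'} {X : Sh J} {F : ι → Sh J}
    {π : ∀ i, F i ⟶ X} (h : JS π) (e : κ → ι) (he : Function.Surjective e) :
    JS (fun k => π (e k)) := by
  apply h.of_factors
  intro i
  obtain ⟨k, rfl⟩ := he i
  exact ⟨k, 𝟙 _, by simp⟩

/-- Composition of jointly surjective families. -/
lemma JS.comp {ι : Type w} {κ : ι → Type w'} {X : Sh J} {F : ι → Sh J} {G : ∀ i, κ i → Sh J}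
    {π : ∀ i, F i ⟶ X} {ρ : ∀ i (k : κ i), G i k ⟶ F i} (h : JS π) (h' : ∀ i, JS (ρ i)) :
    JS (fun p : Σ i, κ i => ρ p.1 p.2 ≫ π p.1) := by
  rw [js_iff_epiFamily]
  intro Z a b hab
  apply h.hom_ext
  intro i
  apply (h' i).hom_ext
  intro k
  simpa using hab ⟨i, k⟩

/-- Post-composition of a jointly surjective family with an epimorphism. -/
lemma JS.comp_epi {ι : Type w} {X Y : Sh J} {F : ι → Sh J}
    {π : ∀ i, F i ⟶ X} (h : JS π) (f : X ⟶ Y) [Epi f] : JS (fun i => π i ≫ f) := by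
  rw [js_iff_epiFamily]
  intro Z a b hab
  rw [← cancel_epi f]
  apply h.hom_ext
  intro i
  simpa using hab i

/-- `Sections` of a pullback square of sheaves. -/
lemma exists_section_of_isPullback {P X Y Z : Sh J} {fst : P ⟶ X} {snd : P ⟶ Y} {f : X ⟶ Z} {g : Y ⟶ Z}
    (h : IsPullback fst snd f g) {U : Cᵒᵖ} (x : X.obj.obj U) (y : Y.obj.obj U)
    (hxy : f.hom.app U x = g.hom.app U y) :
    ∃ p : P.obj.obj U, fst.hom.app U p = x ∧ snd.hom.app U p = y := by
  have h' := h.map (sheafToPresheaf J (Type u) ⋙ (evaluation _ _).obj U)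
  obtain ⟨p, h₁, h₂⟩ := Types.exists_of_isPullback h' x y hxy
  exact ⟨p, h₁, h₂⟩

/-- Jointly surjective families are stable under base change. -/
lemma JS.pullback {ι : Type w} {X Y : Sh J} {F P : ι → Sh J}
    {π : ∀ i, F i ⟶ X} (h : JS π) (f : Y ⟶ X) {fst : ∀ i, P i ⟶ F i} {snd : ∀ i, P i ⟶ Y}
    (hP : ∀ i, IsPullback (fst i) (snd i) (π i) f) : JS snd := by
  intro U y
  obtain ⟨S, hS, h⟩ := h U (f.hom.app (op U) y)
  refine ⟨S, hS, fun V g hg => ?_⟩
  obtain ⟨i, x, hx⟩ := h V g hg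
  obtain ⟨p, -, hp⟩ := exists_section_of_isPullback (hP i) x (Y.obj.map g.op y)
    (hx.trans (NatTrans.naturality_apply f.hom g.op y).symm)
  exact ⟨i, p, hp⟩

lemma JS.pullback_snd {ι : Type w} {X Y : Sh J} {F : ι → Sh J}
    {π : ∀ i, F i ⟶ X} (h : JS π) (f : Y ⟶ X) : JS (fun i => pullback.snd (π i) f) :=
  h.pullback f (fun i => IsPullback.of_hasPullback (π i) f)

lemma JS.pullback_fst {ι : Type w} {X Y : Sh J} {F : ι → Sh J}
    {π : ∀ i, F i ⟶ X} (h : JS π) (f : Y ⟶ X) : JS (fun i => pullback.fst f (π i)) :=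
  h.pullback f (fun i => (IsPullback.of_hasPullback f (π i)).flip)

/-- Epimorphisms of sheaves of sets are stable under base change. -/
lemma epi_of_isPullback {P X Y Z : Sh J} {fst : P ⟶ X} {snd : P ⟶ Y} {f : X ⟶ Z} {g : Y ⟶ Z}
    (h : IsPullback fst snd f g) [hf : Epi f] : Epi snd := by
  have := ((js_punit.{0} f).2 hf).pullback (P := fun _ => P) g (fst := fun _ => fst) (snd := fun _ => snd)
    (fun _ => h)
  exact (js_punit.{0} snd).1 this

lemma epi_of_isPullback' {P X Y Z : Sh J} {fst : P ⟶ X} {snd : P ⟶ Y} {f : X ⟶ Z} {g : Y ⟶ Z}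
    (h : IsPullback fst snd f g) [hf : Epi g] : Epi fst := epi_of_isPullback h.flip

/-! ### Quasi-compact objects -/

/-- Quasi-compactness in terms of jointly surjective families. -/
lemma isQC_iff_js (X : Sh J) : IsQC X ↔ ∀ (ι : Type u) (F : ι → Sh J) (π : ∀ i, F i ⟶ X),
    JS π → ∃ s : Finset ι, JS (fun i : s => π i) := by
  constructor
  · intro h ι F π hπ
    obtain ⟨s, hs⟩ := h ι F π ((js_iff_epi π).1 hπ)
    exact ⟨s, (js_iff_epi _).2 hs⟩
  · intro h ι F π hπ
    obtain ⟨s, hs⟩ := h ι F π ((js_iff_epi π).2 hπ)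
    exact ⟨s, (js_iff_epi _).1 hs⟩

/-- A jointly surjective family contains a small jointly surjective family. -/
lemma JS.exists_small {ι : Type w} {X : Sh J} {F : ι → Sh J} {π : ∀ i, F i ⟶ X} (h : JS π) :
    ∃ (κ : Type u) (e : κ → ι), JS (fun k => π (e k)) := by
  choose S hS h using h
  choose i x hx using h
  refine ⟨Σ (U : C) (s : X.obj.obj (op U)) (V : C), {g : V ⟶ U // S U s g},
    fun t => i t.1 t.2.1 t.2.2.1 t.2.2.2.1 t.2.2.2.2, ?_⟩
  intro U s
  refine ⟨S U s, hS U s, fun V g hg => ⟨⟨U, s, V, g, hg⟩, x U s V g hg, hx U s V g hg⟩⟩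

/-- Restricting a jointly surjective family to a finite image. -/
lemma JS.image_finset {ι : Type w} {κ : Type w'} {X : Sh J} {F : ι → Sh J} {π : ∀ i, F i ⟶ X}
    (e : κ → ι) (s : Finset κ) (h : JS (fun k : s => π (e k))) :
    ∃ t : Finset ι, (∀ i ∈ t, ∃ k ∈ s, e k = i) ∧ JS (fun i : t => π i) := by
  classical
  refine ⟨s.image e, fun i hi => by simpa using hi, ?_⟩
  apply h.of_factors
  intro k
  exact ⟨⟨e k, Finset.mem_image_of_mem e k.2⟩, 𝟙 _, by simp⟩

/-- Quasi-compactness against families indexed in an arbitrary universe. -/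
lemma exists_finset_js {X : Sh J} (hX : IsQC X) {ι : Type w} {F : ι → Sh J} {π : ∀ i, F i ⟶ X}
    (h : JS π) : ∃ s : Finset ι, JS (fun i : s => π i) := by
  obtain ⟨κ, e, he⟩ := h.exists_small
  obtain ⟨s, hs⟩ := (isQC_iff_js X).1 hX κ _ _ he
  obtain ⟨t, -, ht⟩ := JS.image_finset e s hs
  exact ⟨t, ht⟩

/-- An object which is the target of a finite jointly surjective family of quasi-compact objects is
quasi-compact. -/
lemma isQC_of_finite_js {ι : Type w} [Finite ι] {X : Sh J} {F : ι → Sh J} {π : ∀ i, F i ⟶ X}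
    (h : JS π) (hF : ∀ i, IsQC (F i)) : IsQC X := by
  classical
  have := Fintype.ofFinite ι
  rw [isQC_iff_js]
  intro κ G ρ hρ
  have hρ' : ∀ i, JS (fun k => pullback.snd (ρ k) (π i)) := fun i => hρ.pullback_snd (π i)
  choose s hs using fun i => exists_finset_js (hF i) (hρ' i)
  refine ⟨Finset.univ.biUnion s, ?_⟩
  refine (h.comp hs).of_factors ?_
  rintro ⟨i, k⟩
  refine ⟨⟨k, Finset.mem_biUnion.2 ⟨i, Finset.mem_univ _, k.2⟩⟩, pullback.fst (ρ k) (π i), ?_⟩
  exact pullback.condition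

/-- A quotient of a quasi-compact object is quasi-compact. -/
lemma isQC_of_epi {X Y : Sh J} (f : X ⟶ Y) [hf : Epi f] (hX : IsQC X) : IsQC Y :=
  isQC_of_finite_js ((js_punit.{0} f).2 hf) (fun _ => hX)

lemma isQC_of_iso {X Y : Sh J} (e : X ≅ Y) (hX : IsQC X) : IsQC Y := isQC_of_epi e.hom hX

lemma isQC_congr {X Y : Sh J} (e : X ≅ Y) : IsQC X ↔ IsQC Y :=
  ⟨isQC_of_iso e, isQC_of_iso e.symm⟩

/-- The coproduct inclusions form a jointly surjective family. -/
lemma js_sigma_ι {ι : Type w} (F : ι → Sh J) [HasCoproduct F] : JS (fun i => Sigma.ι F i) := by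
  rw [js_iff_epiFamily]
  intro Z a b hab
  exact Sigma.hom_ext _ _ hab

/-- A finite coproduct of quasi-compact objects is quasi-compact. -/
lemma isQC_sigma {ι : Type w} [Finite ι] (F : ι → Sh J) [HasCoproduct F] (hF : ∀ i, IsQC (F i)) :
    IsQC (∐ F) := isQC_of_finite_js (js_sigma_ι F) hF

/-- An initial object is quasi-compact. -/
lemma isQC_of_isInitial {X : Sh J} (hX : IsInitial X) : IsQC X := by
  refine isQC_of_finite_js (ι := PEmpty.{1}) (F := PEmpty.elim) (π := fun i => i.elim) ?_ (fun i => i.elim)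
  rw [js_iff_epiFamily]
  intro Z a b _
  exact hX.hom_ext a b

/-! ### Quasi-compact and quasi-separated morphisms -/

lemma isQC_of_isPullback {X Y Y' P : Sh J} {f : X ⟶ Y} (hf : IsQCHom f) {fst : P ⟶ X} {snd : P ⟶ Y'}
    {g : Y' ⟶ Y} (h : IsPullback fst snd f g) (hY' : IsQC Y') : IsQC P :=
  isQC_of_iso h.isoPullback.symm (hf Y' g hY')

/-- Quasi-compactness of a morphism from arbitrary pullback squares. -/
lemma isQCHom_of_isPullback_test {X Y : Sh J} {f : X ⟶ Y}
    (h : ∀ (Y' : Sh J) (g : Y' ⟶ Y), IsQC Y' → ∃ (P : Sh J) (fst : P ⟶ X) (snd : P ⟶ Y'),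
      IsPullback fst snd f g ∧ IsQC P) : IsQCHom f := by
  intro Y' g hY'
  obtain ⟨P, fst, snd, hP, hq⟩ := h Y' g hY'
  exact isQC_of_iso hP.isoPullback hq

variable (J) in
/-- The morphism property of quasi-compact morphisms of the topos. -/
def QCH : MorphismProperty (Sh J) := fun _ _ f => IsQCHom f

lemma QCH_iff {X Y : Sh J} (f : X ⟶ Y) : QCH J f ↔ IsQCHom f := Iff.rfl

lemma isQSHom_iff {X Y : Sh J} (f : X ⟶ Y) : IsQSHom f ↔ (QCH J).diagonal f := Iff.rfl

instance : (QCH J).IsStableUnderBaseChange where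
  of_isPullback := by
    intro X Y Y' S f g f' g' sq hg
    change IsQCHom g'
    intro T t hT
    exact isQC_of_isPullback hg ((IsPullback.of_hasPullback g' t).paste_horiz sq) hT

instance : (QCH J).RespectsIso := MorphismProperty.IsStableUnderBaseChange.respectsIso

lemma isQCHom_of_isIso {X Y : Sh J} (f : X ⟶ Y) [IsIso f] : IsQCHom f := by
  intro Y' g hY'
  exact isQC_of_iso (asIso (pullback.snd f g)).symm hY'

lemma isQCHom_comp {X Y Z : Sh J} {f : X ⟶ Y} {g : Y ⟶ Z} (hf : IsQCHom f) (hg : IsQCHom g) :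
    IsQCHom (f ≫ g) := by
  apply isQCHom_of_isPullback_test
  intro Z' t hZ'
  have h₁ := IsPullback.of_hasPullback g t
  have h₂ := IsPullback.of_hasPullback f (pullback.fst g t)
  refine ⟨_, _, _, h₂.flip.paste_horiz h₁.flip |>.flip, hf _ _ (hg _ _ hZ')⟩

instance : (QCH J).IsMultiplicative where
  id_mem X := isQCHom_of_isIso (𝟙 X)
  comp_mem _ _ hf hg := isQCHom_comp hf hg

lemma isQCHom_of_isPullback {P X Y Z : Sh J} {fst : P ⟶ X} {snd : P ⟶ Y} {f : X ⟶ Z} {g : Y ⟶ Z}
    (h : IsPullback fst snd f g) (hf : IsQCHom f) : IsQCHom snd :=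
  (QCH J).of_isPullback h hf

lemma isQSHom_comp {X Y Z : Sh J} {f : X ⟶ Y} {g : Y ⟶ Z} (hf : IsQSHom f) (hg : IsQSHom g) :
    IsQSHom (f ≫ g) :=
  (QCH J).diagonal.comp_mem _ _ hf hg

lemma isQSHom_of_isPullback {P X Y Z : Sh J} {fst : P ⟶ X} {snd : P ⟶ Y} {f : X ⟶ Z} {g : Y ⟶ Z}
    (h : IsPullback fst snd f g) (hf : IsQSHom f) : IsQSHom snd :=
  (QCH J).diagonal.of_isPullback h hf

/-- A monomorphism is quasi-separated. -/
lemma isQSHom_of_mono {X Y : Sh J} (f : X ⟶ Y) [Mono f] : IsQSHom f :=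
  isQCHom_of_isIso (pullback.diagonal f)

/-- Quasi-compactness of a morphism to a topos with quasi-compact generators is local on the target. -/
lemma isQCHom_of_js_target (hE : HasQCGenerators J) {X Y : Sh J} (f : X ⟶ Y) {ι : Type w}
    {Yi P : ι → Sh J} {g : ∀ i, Yi i ⟶ Y} (hg : JS g) {fst : ∀ i, P i ⟶ X} {snd : ∀ i, P i ⟶ Yi i}
    (hP : ∀ i, IsPullback (fst i) (snd i) f (g i)) (h : ∀ i, IsQCHom (snd i)) : IsQCHom f := by
  intro Y' t hY'
  choose κ G ρ hG hρ using fun i => hE (pullback (g i) t)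
  have hρ' : ∀ i, JS (ρ i) := fun i => (js_iff_epi _).2 (hρ i)
  have h₁ : JS (fun p : Σ i, κ i => ρ p.1 p.2 ≫ pullback.snd (g p.1) t) := (hg.pullback_snd t).comp hρ'
  obtain ⟨s, hs⟩ := exists_finset_js hY' h₁
  have h₂ := hs.pullback_snd (pullback.snd f t)
  refine isQC_of_finite_js h₂ fun p => ?_
  -- `G ×_{Y'} (X ×_Y Y') = X ×_Y G = (X ×_Y Yi) ×_{Yi} G`
  obtain ⟨⟨i, k⟩, hik⟩ := p
  have e₁ : IsPullback (pullback.snd (ρ i k ≫ pullback.snd (g i) t) (pullback.snd f t) ≫ pullback.fst f t)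
      (pullback.fst (ρ i k ≫ pullback.snd (g i) t) (pullback.snd f t)) f
      ((ρ i k ≫ pullback.snd (g i) t) ≫ t) :=
    (IsPullback.of_hasPullback _ _).flip.paste_horiz (IsPullback.of_hasPullback f t)
  have e₂ : (ρ i k ≫ pullback.snd (g i) t) ≫ t = (ρ i k ≫ pullback.fst (g i) t) ≫ g i := by
    rw [Category.assoc, Category.assoc, pullback.condition]
  rw [e₂] at e₁
  have e₃ := (IsPullback.of_hasPullback (snd i) (ρ i k ≫ pullback.fst (g i) t)).paste_horiz (hP i)
  exact isQC_of_iso (e₃.isoIsPullback _ _ e₁) (h i _ _ (hG i k))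

end Groth.Agent.Sga4A.QC
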