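import Mathlib.CategoryTheory.Limits.VanKampen
import Mathlib.CategoryTheory.Limits.Types.Coproducts
import Mathlib.CategoryTheory.Limits.Types.Pullbacks
import Mathlib.CategoryTheory.Limits.Shapes.DisjointCoproduct
import Mathlib.CategoryTheory.Sites.Limits
import Mathlib.CategoryTheory.Sites.LeftExact
import Mathlib.CategoryTheory.Sites.Sheafification

/-!
# Van Kampen coproducts in `Type u`, presheaf and sheaf categories

* `isVanKampenColimit_types_cofan`: every colimit cofan in `Type u` is van Kampen.
* `isVanKampenColimit_sheaf_cofan`: every colimit cofan (indexed by `ι : Type u`) in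
  `Sheaf J (Type u)`, for a small site `(C, J)`, is van Kampen.
* `isUniversalColimit_sheaf_cofan`, `coproductDisjoint_sheaf`: consequences.
-/

set_option autoImplicit false
universe w v u

open CategoryTheory CategoryTheory.Limits Opposite

namespace Groth.Agent.Sga4A.GiraudVK

lemma exists_eq_discreteFunctor {ι : Type w} {D : Type u} [Category.{v} D]
    (F : Discrete ι ⥤ D) : ∃ Y : ι → D, F = Discrete.functor Y :=
  ⟨fun i => F.obj ⟨i⟩, by
    refine CategoryTheory.Functor.ext (fun ⟨i⟩ => rfl) ?_
    rintro ⟨i⟩ ⟨j⟩ ⟨⟨h⟩⟩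
    obtain rfl : i = j := h
    simp only [eqToHom_refl, Category.comp_id, Category.id_comp]
    exact F.map_id _⟩

/-- Every colimit cofan in `Type u` is van Kampen. -/
theorem isVanKampenColimit_types_cofan {ι : Type w} {X : ι → Type v} {c : Cofan X}
    (hc : IsColimit c) : IsVanKampenColimit c := by
  intro F' c' α f hα hequi
  obtain ⟨Y, rfl⟩ := exists_eq_discreteFunctor F'
  let d : Cofan Y := c'
  have hcomm (j : ι) (x : Y j) : f (d.inj j x) = c.inj j (α.app ⟨j⟩ x) :=
    (ConcreteCategory.congr_hom (NatTrans.congr_app hα ⟨j⟩) x).symm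
  change Nonempty (IsColimit d) ↔ _
  constructor
  · rintro ⟨hd⟩ ⟨j⟩
    refine (Types.isPullback_iff _ _ _ _).2 ⟨?_, ?_, ?_⟩
    · exact (NatTrans.congr_app hα ⟨j⟩).symm
    · rintro x y ⟨h, -⟩
      exact Cofan.inj_injective_of_isColimit hd j h
    · intro y x hxy
      obtain ⟨i, z, rfl⟩ := Cofan.inj_jointly_surjective_of_isColimit hd y
      have h1 : c.inj i (α.app ⟨i⟩ z) = c.inj j x := (hcomm i z).symm.trans hxy
      obtain rfl := Cofan.eq_of_inj_apply_eq_of_isColimit hc _ _ h1
      exact ⟨z, rfl, Cofan.inj_injective_of_isColimit hc _ h1⟩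
  · intro H
    rw [Cofan.nonempty_isColimit_iff_bijective_fromSigma]
    constructor
    · rintro ⟨i, x⟩ ⟨j, y⟩ hxy
      change d.inj i x = d.inj j y at hxy
      have h1 : c.inj i (α.app ⟨i⟩ x) = c.inj j (α.app ⟨j⟩ y) := by
        rw [← hcomm, ← hcomm, hxy]
      obtain rfl := Cofan.eq_of_inj_apply_eq_of_isColimit hc _ _ h1
      have h2 := Cofan.inj_injective_of_isColimit hc _ h1
      have := ((Types.isPullback_iff _ _ _ _).1 (H ⟨i⟩)).2.1 x y ⟨hxy, h2⟩
      rw [this]
    · intro y
      obtain ⟨j, x, hx⟩ := Cofan.inj_jointly_surjective_of_isColimit hc (f y)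
      obtain ⟨z, hz, -⟩ := ((Types.isPullback_iff _ _ _ _).1 (H ⟨j⟩)).2.2 y x hx.symm
      exact ⟨⟨j, z⟩, hz⟩

/-- Every colimit cocone on a discrete diagram in `Type u` is van Kampen. -/
theorem isVanKampenColimit_types {ι : Type w} {F : Discrete ι ⥤ Type v} {c : Cocone F}
    (hc : IsColimit c) : IsVanKampenColimit c := by
  obtain ⟨Y, rfl⟩ := exists_eq_discreteFunctor F
  exact isVanKampenColimit_types_cofan hc

/-- Every colimit cocone on a discrete diagram in a presheaf category is van Kampen. -/
theorem isVanKampenColimit_presheaf {C : Type w} [Category.{v} C] {ι : Type u}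
    {F : Discrete ι ⥤ C ⥤ Type u} {c : Cocone F}
    (hc : IsColimit c) : IsVanKampenColimit c :=
  isVanKampenColimit_of_evaluation _ _ fun x =>
    isVanKampenColimit_types (isColimitOfPreserves ((evaluation C (Type u)).obj x) hc)

section Sheaf

variable {C : Type w} [Category.{v} C] {J : GrothendieckTopology C} [HasSheafify J (Type u)]

/-- Every colimit cocone on a (small) discrete diagram of sheaves of sets is van Kampen. -/
theorem isVanKampenColimit_sheaf {ι : Type u}
    {F : Discrete ι ⥤ Sheaf J (Type u)} {c : Cocone F}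
    (hc : IsColimit c) : IsVanKampenColimit c := by
  let adj := sheafificationAdjunction J (Type u)
  let d := colimit.cocone (F ⋙ sheafToPresheaf J (Type u))
  have hd : IsColimit d := colimit.isColimit _
  have h1 : IsVanKampenColimit ((presheafToSheaf J (Type u)).mapCocone d) :=
    IsVanKampenColimit.map_reflective adj (isVanKampenColimit_presheaf hd)
  let β : (F ⋙ sheafToPresheaf J (Type u)) ⋙ presheafToSheaf J (Type u) ≅ F :=
    Functor.associator _ _ _ ≪≫ Functor.isoWhiskerLeft F (asIso adj.counit) ≪≫ F.rightUnitor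
  have h2 := IsVanKampenColimit.precompose_isIso β.inv h1
  exact h2.of_iso (h2.isColimit.uniqueUpToIso hc)

/-- Every colimit cocone on a (small) discrete diagram of sheaves of sets is universal. -/
theorem isUniversalColimit_sheaf {ι : Type u}
    {F : Discrete ι ⥤ Sheaf J (Type u)} {c : Cocone F}
    (hc : IsColimit c) : IsUniversalColimit c :=
  (isVanKampenColimit_sheaf hc).isUniversal

/-- Coproducts in a category of sheaves of sets are disjoint. -/
theorem coproductDisjoint_sheaf {ι : Type u} (X : ι → Sheaf J (Type u)) :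
    CoproductDisjoint X := by
  have : HasColimitsOfSize.{u, u} (Sheaf J (Type u)) := inferInstance
  have : HasInitial (Sheaf J (Type u)) := inferInstance
  have hVK := isVanKampenColimit_sheaf (coproductIsCoproduct X)
  have hm : ∀ i, Mono ((Cofan.mk (∐ X) (Sigma.ι X)).inj i) := fun i =>
    mono_of_cofan_isVanKampen hVK ⟨i⟩
  exact CoproductDisjoint.of_cofan (coproductIsCoproduct X)
    (fun {i j} hij => PullbackCone.mk (initial.to (X i)) (initial.to (X j))
      (Subsingleton.elim _ _))
    (fun {i j} hij =>
      (isPullback_initial_to_of_cofan_isVanKampen hVK ⟨i⟩ ⟨j⟩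
        (fun h => hij (congrArg Discrete.as h))).isLimit)
    (fun {i j} hij => initialIsInitial)

end Sheaf

end Groth.Agent.Sga4A.GiraudVK
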