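import Groth.Prelude.Def_SGA4c
import Mathlib.CategoryTheory.Sites.EpiMono
import Mathlib.CategoryTheory.Filtered.Final
import Mathlib.CategoryTheory.Limits.FilteredColimitCommutesFiniteLimit

/-!
# Jointly epimorphic families and filtered colimits in a sheaf topos
-/

set_option autoImplicit false
open CategoryTheory CategoryTheory.Limits Opposite
universe u

namespace Groth.Agent.Sga4A.FiltColim

variable {C : Type u} [SmallCategory C] {J : GrothendieckTopology C}

/-- A family of morphisms with common target is jointly epimorphic. -/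
def JEpi {E : Type*} [Category* E] {ι : Type*} {X : E} {F : ι → E} (π : ∀ i, F i ⟶ X) : Prop :=
  ∀ ⦃Z : E⦄ (f g : X ⟶ Z), (∀ i, π i ≫ f = π i ≫ g) → f = g

theorem jepi_iff_epi {E : Type*} [Category* E] {ι : Type*} {X : E} {F : ι → E}
    [HasCoproduct F] (π : ∀ i, F i ⟶ X) : JEpi π ↔ Epi (Sigma.desc π) := by
  constructor
  · intro h
    constructor
    intro Z f g hfg
    apply h
    intro i
    have := congrArg (fun t => Sigma.ι F i ≫ t) hfg
    simp only [Sigma.ι_desc_assoc] at this
    exact this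
  · intro h Z f g hfg
    rw [← cancel_epi (Sigma.desc π)]
    apply Sigma.hom_ext
    intro i
    simp [hfg i]

/-- The sieve of morphisms along which a section lifts to one of the members of a family. -/
def liftSieve {ι : Type*} {X : ToposFin.Sh J} {F : ι → ToposFin.Sh J} (π : ∀ i, F i ⟶ X)
    {U : C} (x : X.obj.obj (op U)) : Sieve U where
  arrows V f := ∃ (i : ι) (y : (F i).obj.obj (op V)), (π i).hom.app (op V) y = X.obj.map f.op x
  downward_closed := by
    rintro V W f ⟨i, y, hy⟩ g
    refine ⟨i, (F i).obj.map g.op y, ?_⟩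
    have := ConcreteCategory.congr_hom ((π i).hom.naturality g.op) y
    simp only [op_comp, Functor.map_comp]
    rw [ConcreteCategory.comp_apply]
    rw [← hy]
    simpa using this

theorem jepi_of_liftSieve {ι : Type*} {X : ToposFin.Sh J} {F : ι → ToposFin.Sh J}
    (π : ∀ i, F i ⟶ X) (h : ∀ (U : C) (x : X.obj.obj (op U)), liftSieve π x ∈ J U) : JEpi π := by
  intro Z f g hfg
  ext U x
  apply (((isSheaf_iff_isSheaf_of_type _ _).1 Z.2).isSeparated _ (h U.unop x)).ext
  rintro V t ⟨i, y, hy⟩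
  have h₁ := ConcreteCategory.congr_hom (f.hom.naturality t.op) x
  have h₂ := ConcreteCategory.congr_hom (g.hom.naturality t.op) x
  have h₃ := ConcreteCategory.congr_hom (congr_app ((sheafToPresheaf J _).congr_map (hfg i)) (op V)) y
  dsimp at h₁ h₂ h₃
  dsimp
  rw [← h₁, ← h₂, ← hy]
  exact h₃


/-- The sub-presheaf of sections which lift locally. -/
def liftSub {ι : Type*} {X : ToposFin.Sh J} {F : ι → ToposFin.Sh J} (π : ∀ i, F i ⟶ X) :
    Subfunctor X.obj := (⨆ i, Subfunctor.range (π i).hom).sheafify J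

theorem mem_liftSub_iff {ι : Type*} {X : ToposFin.Sh J} {F : ι → ToposFin.Sh J}
    (π : ∀ i, F i ⟶ X) {U : C} (x : X.obj.obj (op U)) :
    x ∈ (liftSub π).obj (op U) ↔ liftSieve π x ∈ J U := by
  change _ ∈ J _ ↔ _ ∈ J _
  have : (⨆ i, Subfunctor.range (π i).hom : Subfunctor X.obj).sieveOfSection x = liftSieve π x := by
    ext V f
    change X.obj.map f.op x ∈ (⨆ i, Subfunctor.range (π i).hom : Subfunctor X.obj).obj (op V) ↔ _
    rw [Subfunctor.iSup_obj, Set.mem_iUnion]
    rfl
  rw [this]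

/-- The sheaf of sections which lift locally. -/
def liftSheaf {ι : Type*} {X : ToposFin.Sh J} {F : ι → ToposFin.Sh J} (π : ∀ i, F i ⟶ X) :
    ToposFin.Sh J :=
  ⟨(liftSub π).toFunctor, by
    rw [isSheaf_iff_isSheaf_of_type]
    apply Subfunctor.sheafify_isSheaf
    rw [← isSheaf_iff_isSheaf_of_type]
    exact X.2⟩

/-- The inclusion of the sheaf of sections which lift locally. -/
def liftSheafι {ι : Type*} {X : ToposFin.Sh J} {F : ι → ToposFin.Sh J} (π : ∀ i, F i ⟶ X) :
    liftSheaf π ⟶ X := ⟨(liftSub π).ι⟩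

instance {ι : Type*} {X : ToposFin.Sh J} {F : ι → ToposFin.Sh J} (π : ∀ i, F i ⟶ X) :
    Mono (liftSheafι π) :=
  (sheafToPresheaf J _).mono_of_mono_map
    (by
      change Mono (liftSub π).ι
      infer_instance)

theorem range_le_liftSub {ι : Type*} {X : ToposFin.Sh J} {F : ι → ToposFin.Sh J}
    (π : ∀ i, F i ⟶ X) (i : ι) : Subfunctor.range (π i).hom ≤ liftSub π := by
  refine le_trans ?_ (Subfunctor.le_sheafify _ _)
  exact le_iSup (fun i => Subfunctor.range (π i).hom) i

/-- The lift of the members of the family to the sheaf of sections which lift locally. -/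
def toLiftSheaf {ι : Type*} {X : ToposFin.Sh J} {F : ι → ToposFin.Sh J} (π : ∀ i, F i ⟶ X)
    (i : ι) : F i ⟶ liftSheaf π :=
  ⟨Subfunctor.lift (π i).hom (range_le_liftSub π i)⟩

theorem toLiftSheaf_ι {ι : Type*} {X : ToposFin.Sh J} {F : ι → ToposFin.Sh J}
    (π : ∀ i, F i ⟶ X) (i : ι) : toLiftSheaf π i ≫ liftSheafι π = π i := by
  ext1
  exact Subfunctor.lift_ι (π i).hom (range_le_liftSub π i)

theorem liftSieve_of_jepi {ι : Type*} {X : ToposFin.Sh J} {F : ι → ToposFin.Sh J}
    (π : ∀ i, F i ⟶ X) (h : JEpi π) (U : C) (x : X.obj.obj (op U)) : liftSieve π x ∈ J U := by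
  have : Epi (liftSheafι π) := by
    constructor
    intro Z f g hfg
    apply h
    intro i
    rw [← toLiftSheaf_ι π i, Category.assoc, Category.assoc, hfg]
  have : IsIso (liftSheafι π) := isIso_of_mono_of_epi _
  have h1 : IsIso ((sheafToPresheaf J _).map (liftSheafι π)) := inferInstance
  have h2 : IsIso (((sheafToPresheaf J _).map (liftSheafι π)).app (op U)) := inferInstance
  obtain ⟨y, hy⟩ := ((isIso_iff_bijective _).1 h2).2 x
  rw [← mem_liftSub_iff]
  rw [← hy]
  exact y.2

theorem jepi_iff_liftSieve {ι : Type*} {X : ToposFin.Sh J} {F : ι → ToposFin.Sh J}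
    (π : ∀ i, F i ⟶ X) :
    JEpi π ↔ ∀ (U : C) (x : X.obj.obj (op U)), liftSieve π x ∈ J U :=
  ⟨liftSieve_of_jepi π, jepi_of_liftSieve π⟩


/-- Sections of a pullback of sheaves. -/
theorem exists_section_of_isPullback {P X Y Z : ToposFin.Sh J} {fst : P ⟶ X} {snd : P ⟶ Y}
    {f : X ⟶ Z} {g : Y ⟶ Z} (h : IsPullback fst snd f g) (U : Cᵒᵖ) (x : X.obj.obj U)
    (y : Y.obj.obj U) (hxy : f.hom.app U x = g.hom.app U y) :
    ∃ p : P.obj.obj U, fst.hom.app U p = x ∧ snd.hom.app U p = y := by
  have h' := h.map (sheafToPresheaf J (Type u) ⋙ (evaluation _ _).obj U)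
  exact Types.exists_of_isPullback h' x y hxy

theorem JEpi.of_isPullback {ι : Type*} {X : ToposFin.Sh J} {F : ι → ToposFin.Sh J}
    {π : ∀ i, F i ⟶ X} (h : JEpi π) {Y : ToposFin.Sh J} (g : Y ⟶ X)
    {P : ι → ToposFin.Sh J} {fst : ∀ i, P i ⟶ F i} {snd : ∀ i, P i ⟶ Y}
    (hP : ∀ i, IsPullback (fst i) (snd i) (π i) g) : JEpi snd := by
  apply jepi_of_liftSieve
  intro U y
  refine J.superset_covering ?_ (liftSieve_of_jepi π h U (g.hom.app (op U) y))
  rintro V f ⟨i, z, hz⟩
  have h₁ := ConcreteCategory.congr_hom (g.hom.naturality f.op) y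
  obtain ⟨p, hp1, hp2⟩ := exists_section_of_isPullback (hP i) (op V) z (Y.obj.map f.op y) (by
    rw [hz]
    exact h₁.symm)
  exact ⟨i, p, hp2⟩


/-- Two sections of a member of a filtered diagram of sheaves which become equal in the colimit
become locally equal at a later stage. -/
theorem local_eq_of_colimit {I : Type u} [SmallCategory I] [IsFiltered I]
    (D : I ⥤ ToposFin.Sh J) (c : Cocone D) (hc : IsColimit c) (i : I) (U : C)
    (a b : (D.obj i).obj.obj (op U)) (hab : (c.ι.app i).hom.app (op U) a = (c.ι.app i).hom.app (op U) b) :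
    ∃ S ∈ J U, ∀ ⦃V : C⦄ (f : V ⟶ U), S f → ∃ (j : I) (h : i ⟶ j),
      (D.map h).hom.app (op V) ((D.obj i).obj.map f.op a) =
        (D.map h).hom.app (op V) ((D.obj i).obj.map f.op b) := by
  let E := colimit.cocone (D ⋙ sheafToPresheaf J (Type u))
  have hE : IsColimit E := colimit.isColimit _
  have hc' := Sheaf.isColimitSheafifyCocone E hE
  let e := hc.coconePointUniqueUpToIso hc'
  have he : ∀ i, c.ι.app i ≫ e.hom = (Sheaf.sheafifyCocone E).ι.app i :=
    fun i => hc.comp_coconePointUniqueUpToIso_hom hc' i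
  have h1 : ((Sheaf.sheafifyCocone E).ι.app i).hom.app (op U) a =
      ((Sheaf.sheafifyCocone E).ι.app i).hom.app (op U) b := by
    rw [← he i]
    have := congrArg (fun t => e.hom.hom.app (op U) t) hab
    exact this
  rw [Sheaf.sheafifyCocone_ι_app_val] at h1
  have h2 := Presheaf.equalizerSieve_mem J (toSheafify J E.pt) ((E.ι.app i).app (op U) a)
    ((E.ι.app i).app (op U) b) h1
  refine ⟨_, h2, ?_⟩
  intro V f hf
  have hf' : E.pt.map f.op ((E.ι.app i).app (op U) a) = E.pt.map f.op ((E.ι.app i).app (op U) b) := hf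
  have n1 := ConcreteCategory.congr_hom ((E.ι.app i).naturality f.op) a
  have n2 := ConcreteCategory.congr_hom ((E.ι.app i).naturality f.op) b
  have h3 : (E.ι.app i).app (op V) ((D.obj i).obj.map f.op a) =
      (E.ι.app i).app (op V) ((D.obj i).obj.map f.op b) := by
    refine Eq.trans n1 (Eq.trans hf' n2.symm)
  have hV := isColimitOfPreserves ((evaluation Cᵒᵖ (Type u)).obj (op V)) hE
  obtain ⟨j, h, hj⟩ := (Types.FilteredColimit.isColimit_eq_iff' hV
    ((D.obj i).obj.map f.op a) ((D.obj i).obj.map f.op b)).1 h3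
  exact ⟨j, h, hj⟩


section
variable {I : Type u} [SmallCategory I] [IsFiltered I] (D : I ⥤ ToposFin.Sh J)

/-- Two morphisms to a member of a filtered diagram which agree in the colimit agree jointly
on the equalizers at later stages. -/
theorem jepi_equalizers (c : Cocone D) (hc : IsColimit c) {X : ToposFin.Sh J} (i : I)
    (f g : X ⟶ D.obj i) (hfg : f ≫ c.ι.app i = g ≫ c.ι.app i) :
    JEpi (fun k : Under i => equalizer.ι (f ≫ D.map k.hom) (g ≫ D.map k.hom)) := by
  apply jepi_of_liftSieve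
  intro U x
  obtain ⟨S, hS, hS'⟩ := local_eq_of_colimit D c hc i U (f.hom.app (op U) x) (g.hom.app (op U) x) (by
    have := congrArg (fun t : X ⟶ c.pt => t.hom.app (op U) x) hfg
    exact this)
  refine J.superset_covering ?_ hS
  intro V t ht
  obtain ⟨j, h, hj⟩ := hS' t ht
  have hl := (equalizerIsEqualizer (f ≫ D.map h) (g ≫ D.map h))
  have hl' := isLimitForkMapOfIsLimit (sheafToPresheaf J (Type u) ⋙ (evaluation _ _).obj (op V))
    (equalizer.condition _ _) hl
  have n1 := ConcreteCategory.congr_hom (f.hom.naturality t.op) x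
  have n2 := ConcreteCategory.congr_hom (g.hom.naturality t.op) x
  obtain ⟨y, hy, -⟩ := Types.unique_of_type_equalizer _ _ hl' (X.obj.map t.op x) (by
    refine Eq.trans ?_ (Eq.trans hj ?_)
    · exact congrArg ((D.map h).hom.app (op V)) n1
    · exact congrArg ((D.map h).hom.app (op V)) n2.symm)
  exact ⟨Under.mk h, y, hy⟩

/-- Morphisms from a quasi-compact sheaf to a member of a filtered diagram which agree in the
colimit agree at a later stage. -/
theorem eq_of_isQC {X : ToposFin.Sh J} (hX : ToposFin.IsQC X) (c : Cocone D) (hc : IsColimit c)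
    (i : I) (f g : X ⟶ D.obj i) (hfg : f ≫ c.ι.app i = g ≫ c.ι.app i) :
    ∃ (j : I) (h : i ⟶ j), f ≫ D.map h = g ≫ D.map h := by
  obtain ⟨s, hs⟩ := hX (Under i) _ _ ((jepi_iff_epi _).1 (jepi_equalizers D c hc i f g hfg))
  obtain ⟨k, hk⟩ := IsFiltered.sup_objs_exists s
  refine ⟨k.right, k.hom, ?_⟩
  apply (jepi_iff_epi _).2 hs
  rintro ⟨l, hl⟩
  obtain ⟨t⟩ := hk hl
  have := equalizer.condition (f ≫ D.map l.hom) (g ≫ D.map l.hom)
  change equalizer.ι _ _ ≫ f ≫ D.map k.hom = equalizer.ι _ _ ≫ g ≫ D.map k.hom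
  rw [← Under.w t, D.map_comp]
  rw [reassoc_of% this]

end

end Groth.Agent.Sga4A.FiltColim
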