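import Groth.Agent.Sga4A.FiltColim
import Mathlib.CategoryTheory.Sites.RegularEpi

/-!
# Quasi-compact and coherent objects of a sheaf topos: jointly epimorphic families, coproducts,
and finite presentability of coherent objects
-/

set_option autoImplicit false
open CategoryTheory CategoryTheory.Limits Opposite
universe u

namespace Groth.Agent.Sga4A.FiltColim

section general

variable {E : Type*} [Category* E]

theorem JEpi.trans {ι : Type*} {κ : ι → Type*} {X : E} {F : ι → E} {π : ∀ i, F i ⟶ X}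
    (h : JEpi π) {G : ∀ i, κ i → E} {ρ : ∀ i k, G i k ⟶ F i} (hρ : ∀ i, JEpi (ρ i)) :
    JEpi (fun p : Σ i, κ i => ρ p.1 p.2 ≫ π p.1) := by
  intro Z f g hfg
  apply h
  intro i
  apply hρ i
  intro k
  simpa using hfg ⟨i, k⟩

theorem JEpi.of_factor {ι κ : Type*} {X : E} {F : ι → E} {π : ∀ i, F i ⟶ X}
    (h : JEpi π) {G : κ → E} {ρ : ∀ i, G i ⟶ X} (hρ : ∀ i, ∃ k, ∃ t : F i ⟶ G k, t ≫ ρ k = π i) :
    JEpi ρ := by
  intro Z f g hfg
  apply h
  intro i
  obtain ⟨k, t, ht⟩ := hρ i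
  rw [← ht, Category.assoc, Category.assoc, hfg]

theorem jepi_of_isIso {X Y : E} (f : Y ⟶ X) [Epi f] : JEpi (fun _ : PUnit.{1} => f) := by
  intro Z a b hab
  rw [← cancel_epi f]
  exact hab PUnit.unit

theorem jepi_sigma_ι {ι : Type*} (F : ι → E) [HasCoproduct F] : JEpi (Sigma.ι F) := by
  intro Z a b hab
  exact Sigma.hom_ext _ _ hab

theorem JEpi.epi_desc {ι : Type*} {X : E} {F : ι → E} {π : ∀ i, F i ⟶ X}
    (h : JEpi π) [HasCoproduct F] : Epi (Sigma.desc π) := (jepi_iff_epi π).1 h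

theorem JEpi.comp_epi {ι : Type*} {X Y : E} {F : ι → E} {π : ∀ i, F i ⟶ X}
    (h : JEpi π) (f : X ⟶ Y) [Epi f] : JEpi (fun i => π i ≫ f) := by
  intro Z a b hab
  rw [← cancel_epi f]
  apply h
  intro i
  simpa using hab i

theorem jepi_colimit_ι {I : Type*} [Category* I] {D : I ⥤ E} (c : Cocone D) (hc : IsColimit c) :
    JEpi (fun i => c.ι.app i) := by
  intro Z a b hab
  exact hc.hom_ext hab

end general

variable {C : Type u} [SmallCategory C] {J : GrothendieckTopology C}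

theorem isQC_iff (X : ToposFin.Sh J) : ToposFin.IsQC X ↔
    ∀ (ι : Type u) (F : ι → ToposFin.Sh J) (π : ∀ i, F i ⟶ X), JEpi π →
      ∃ s : Finset ι, JEpi (fun i : s => π i) := by
  unfold ToposFin.IsQC
  simp only [jepi_iff_epi]

/-- A sheaf with a finite jointly epimorphic family of quasi-compact sheaves is quasi-compact. -/
theorem isQC_of_finite_jepi {κ : Type*} [Finite κ] {X : ToposFin.Sh J} {F : κ → ToposFin.Sh J}
    {π : ∀ k, F k ⟶ X} (hπ : JEpi π) (hF : ∀ k, ToposFin.IsQC (F k)) : ToposFin.IsQC X := by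
  classical
  rw [isQC_iff]
  intro ι G ρ hρ
  have h1 : ∀ k, ∃ s : Finset ι, JEpi (fun i : s => pullback.snd (ρ i) (π k)) := by
    intro k
    exact (isQC_iff _).1 (hF k) ι _ (fun i => pullback.snd (ρ i) (π k))
      (hρ.of_isPullback (π k) (fun i => IsPullback.of_hasPullback _ _))
  choose s hs using h1
  have := Fintype.ofFinite κ
  refine ⟨Finset.univ.biUnion s, ?_⟩
  refine (hπ.trans hs).of_factor ?_
  rintro ⟨k, i⟩
  refine ⟨⟨i.1, Finset.mem_biUnion.2 ⟨k, Finset.mem_univ _, i.2⟩⟩, pullback.fst (ρ i) (π k), ?_⟩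
  exact pullback.condition

theorem isQC_of_epi {X Y : ToposFin.Sh J} (f : Y ⟶ X) [Epi f] (hY : ToposFin.IsQC Y) :
    ToposFin.IsQC X :=
  isQC_of_finite_jepi (jepi_of_isIso f) (fun _ => hY)

theorem isQC_sigma {κ : Type*} [Finite κ] (F : κ → ToposFin.Sh J) [HasCoproduct F]
    (hF : ∀ k, ToposFin.IsQC (F k)) : ToposFin.IsQC (∐ F) :=
  isQC_of_finite_jepi (jepi_sigma_ι F) hF

section

variable {I : Type u} [SmallCategory I] [IsFiltered I] (D : I ⥤ ToposFin.Sh J)

/-- A morphism from a quasi-compact sheaf to a filtered colimit lifts to a member after a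
quasi-compact cover. -/
theorem exists_lift_of_isQC (hE : ToposFin.HasQCGenerators J)
    {X : ToposFin.Sh J} (hX : ToposFin.IsQC X) (c : Cocone D) (hc : IsColimit c)
    (g : X ⟶ c.pt) :
    ∃ (G : ToposFin.Sh J) (q : G ⟶ X) (i : I) (h : G ⟶ D.obj i), ToposFin.IsQC G ∧ Epi q ∧
      h ≫ c.ι.app i = q ≫ g := by
  have h1 : JEpi (fun i => pullback.snd (c.ι.app i) g) :=
    (jepi_colimit_ι c hc).of_isPullback g (fun i => IsPullback.of_hasPullback _ _)
  choose κ G π hG hπ using fun i => hE (pullback (c.ι.app i) g)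
  obtain ⟨s, hs⟩ := (isQC_iff X).1 hX _ _ _
    (h1.trans (fun i => (jepi_iff_epi (π i)).2 (hπ i)))
  classical
  obtain ⟨k, hk⟩ := IsFiltered.sup_objs_exists (s.image (fun p => p.1))
  have t : ∀ p : s, p.1.1 ⟶ k := fun p =>
    (hk (Finset.mem_image.2 ⟨p.1, p.2, rfl⟩)).some
  refine ⟨∐ (fun p : s => G p.1.1 p.1.2), Sigma.desc (fun p : s =>
    π p.1.1 p.1.2 ≫ pullback.snd (c.ι.app p.1.1) g), k, Sigma.desc (fun p : s =>
    π p.1.1 p.1.2 ≫ pullback.fst (c.ι.app p.1.1) g ≫ D.map (t p)), ?_, ?_, ?_⟩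
  · exact isQC_sigma _ (fun p => hG _ _)
  · exact (jepi_iff_epi _).1 hs
  · apply Sigma.hom_ext
    intro p
    have := c.w (t p)
    simp only [Sigma.ι_desc_assoc, Category.assoc]
    rw [this, pullback.condition]

/-- Coherent objects are finitely presentable. -/
theorem exists_lift_of_isCoherent (hE : ToposFin.HasQCGenerators J)
    {X : ToposFin.Sh J} (hX : ToposFin.IsCoherent X) (c : Cocone D) (hc : IsColimit c)
    (g : X ⟶ c.pt) : ∃ (i : I) (h : X ⟶ D.obj i), h ≫ c.ι.app i = g := by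
  obtain ⟨G, q, i, h, hG, hq, hh⟩ := exists_lift_of_isQC D hE hX.1 c hc g
  have h1 : ToposFin.IsQC (pullback q q) := hX.2 _ _ q q hG hG
  obtain ⟨j, t, ht⟩ := eq_of_isQC D h1 c hc i (pullback.fst q q ≫ h) (pullback.snd q q ≫ h) (by
    rw [Category.assoc, Category.assoc, hh, pullback.condition_assoc])
  have : IsRegularEpi q := IsRegularEpiCategory.regularEpiOfEpi q
  have : EffectiveEpi q := inferInstance
  let r : X ⟶ D.obj j := EffectiveEpi.desc q (h ≫ D.map t) (by
    intro Z g₁ g₂ h12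
    have h3 : pullback.lift g₁ g₂ h12 ≫ pullback.fst q q = g₁ := pullback.lift_fst _ _ _
    have h4 : pullback.lift g₁ g₂ h12 ≫ pullback.snd q q = g₂ := pullback.lift_snd _ _ _
    have := pullback.lift g₁ g₂ h12 ≫= ht
    simp only [Category.assoc] at this
    rw [reassoc_of% h3, reassoc_of% h4] at this
    exact this)
  have hr : q ≫ r = h ≫ D.map t := EffectiveEpi.fac q _ _
  refine ⟨j, r, ?_⟩
  rw [← cancel_epi q, reassoc_of% hr, c.w, hh]

end

end Groth.Agent.Sga4A.FiltColim
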