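import Groth.Prelude.Def_SGA4c
import Mathlib.CategoryTheory.Sites.LocallySurjective
import Mathlib.CategoryTheory.Sites.EpiMono
import Mathlib.CategoryTheory.Sites.LeftExact
import Mathlib.CategoryTheory.Limits.Shapes.Diagonal
import Mathlib.CategoryTheory.Limits.Types.Pullbacks
import Mathlib.CategoryTheory.Adhesive.Basic

/-!
# Jointly epimorphic families and quasi-compactness in a sheaf topos

* `JointEpi π`, `LocSurj π`: a family `π i : F i ⟶ X` of morphisms of sheaves of types is jointly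
  epimorphic iff every section of `X` lifts locally to some `F i`;
* stability of such families under base change, composition, refinement;
* `IsQC` (quasi-compact objects) in these terms, with finite covers, quotients, isomorphisms;
* formal calculus of quasi-compact, quasi-separated morphisms (composition, base change, ...).
-/

set_option autoImplicit false

open CategoryTheory CategoryTheory.Limits Opposite

universe w w' u

namespace Groth.Agent.Sga4A.FinBase

open ToposFin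

variable {C : Type u} [SmallCategory C] {J : GrothendieckTopology C}

/-- A family is jointly epimorphic: maps out of the target are determined by composites. -/
def JointEpi {ι : Type w} {X : Sh J} {F : ι → Sh J} (π : ∀ i, F i ⟶ X) : Prop :=
  ∀ (Z : Sh J) (g h : X ⟶ Z), (∀ i, π i ≫ g = π i ≫ h) → g = h

theorem epi_desc_iff_jointEpi {ι : Type w} {X : Sh J} {F : ι → Sh J} [HasCoproduct F]
    (π : ∀ i, F i ⟶ X) : Epi (Sigma.desc π) ↔ JointEpi π := by
  constructor
  · intro h Z g k hgk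
    rw [← cancel_epi (Sigma.desc π)]
    refine Sigma.hom_ext _ _ fun i => ?_
    simpa using hgk i
  · intro h
    refine ⟨fun {Z} g k hgk => h Z g k fun i => ?_⟩
    have := congr(Sigma.ι F i ≫ $hgk)
    simpa using this

/-- The sieve of arrows along which the section `x` of `X` lifts to a member of the family. -/
def liftSieve {ι : Type w} {X : Sh J} {F : ι → Sh J} (π : ∀ i, F i ⟶ X) {U : C}
    (x : X.obj.obj (op U)) : Sieve U where
  arrows V f := ∃ (i : ι) (y : (F i).obj.obj (op V)),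
    (π i).hom.app (op V) y = X.obj.map f.op x
  downward_closed := by
    rintro V W f ⟨i, y, hy⟩ g
    refine ⟨i, (F i).obj.map g.op y, ?_⟩
    rw [NatTrans.naturality_apply, hy]
    simp

/-- Every section of the target lifts locally to a member of the family. -/
def LocSurj {ι : Type w} {X : Sh J} {F : ι → Sh J} (π : ∀ i, F i ⟶ X) : Prop :=
  ∀ (U : C) (x : X.obj.obj (op U)), liftSieve π x ∈ J U

theorem sh_ext {Z : Sh J} {U : C} {S : Sieve U} (hS : S ∈ J U) (a b : Z.obj.obj (op U))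
    (h : ∀ ⦃V : C⦄ (f : V ⟶ U), S f → Z.obj.map f.op a = Z.obj.map f.op b) : a = b :=
  (((isSheaf_iff_isSheaf_of_type _ _).1 Z.2).isSeparated _ hS).ext fun _ f hf => h f hf

theorem comp_app_apply {X Y Z : Sh J} (f : X ⟶ Y) (g : Y ⟶ Z) {U : Cᵒᵖ} (x : X.obj.obj U) :
    (f ≫ g).hom.app U x = g.hom.app U (f.hom.app U x) := rfl

theorem congr_app_apply {X Y : Sh J} {f g : X ⟶ Y} (h : f = g) {U : Cᵒᵖ} (x : X.obj.obj U) :
    f.hom.app U x = g.hom.app U x := by rw [h]

theorem jointEpi_of_locSurj {ι : Type w} {X : Sh J} {F : ι → Sh J} (π : ∀ i, F i ⟶ X)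
    (h : LocSurj π) : JointEpi π := by
  intro Z g k hgk
  ext ⟨U⟩ x
  refine sh_ext (h U x) _ _ ?_
  rintro V f ⟨i, y, hy⟩
  have h₁ := NatTrans.naturality_apply g.hom f.op x
  have h₂ := NatTrans.naturality_apply k.hom f.op x
  refine h₁.symm.trans (Eq.trans ?_ h₂)
  rw [← hy]
  exact congr_app_apply (hgk i) y

/-- The sub-presheaf of sections lifting locally. -/
def unionSub {ι : Type w} {X : Sh J} {F : ι → Sh J} (π : ∀ i, F i ⟶ X) : Subfunctor X.obj where
  obj U := {x | ∃ (i : ι) (y : (F i).obj.obj U), (π i).hom.app U y = x}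
  map := by
    rintro U V f x ⟨i, y, hy⟩
    refine ⟨i, (F i).obj.map f y, ?_⟩
    rw [NatTrans.naturality_apply, hy]

/-- The subsheaf of sections lifting locally. -/
def unionSheaf {ι : Type w} {X : Sh J} {F : ι → Sh J} (π : ∀ i, F i ⟶ X) : Sh J :=
  ⟨((unionSub π).sheafify J).toFunctor, by
    rw [isSheaf_iff_isSheaf_of_type]
    apply Subfunctor.sheafify_isSheaf
    rw [← isSheaf_iff_isSheaf_of_type]
    exact X.2⟩

/-- Inclusion of the union. -/
def unionSheafι {ι : Type w} {X : Sh J} {F : ι → Sh J} (π : ∀ i, F i ⟶ X) : unionSheaf π ⟶ X :=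
  ⟨Subfunctor.ι _⟩

theorem range_le_union {ι : Type w} {X : Sh J} {F : ι → Sh J} (π : ∀ i, F i ⟶ X) (i : ι) :
    Subfunctor.range (π i).hom ≤ (unionSub π).sheafify J := by
  rintro U _ ⟨y, rfl⟩
  exact Subfunctor.le_sheafify J _ U ⟨i, y, rfl⟩

/-- Members of the family factor through the union. -/
def toUnionSheaf {ι : Type w} {X : Sh J} {F : ι → Sh J} (π : ∀ i, F i ⟶ X) (i : ι) :
    F i ⟶ unionSheaf π :=
  ⟨Subfunctor.lift (π i).hom (range_le_union π i)⟩

theorem toUnionSheaf_ι {ι : Type w} {X : Sh J} {F : ι → Sh J} (π : ∀ i, F i ⟶ X) (i : ι) :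
    toUnionSheaf π i ≫ unionSheafι π = π i := by
  ext1
  exact Subfunctor.lift_ι (π i).hom (range_le_union π i)

theorem locSurj_of_jointEpi {ι : Type w} {X : Sh J} {F : ι → Sh J} (π : ∀ i, F i ⟶ X)
    (h : JointEpi π) : LocSurj π := by
  have : Epi (unionSheafι π) := by
    refine ⟨fun {Z} g k hgk => h Z g k fun i => ?_⟩
    rw [← toUnionSheaf_ι π i, Category.assoc, Category.assoc, hgk]
  rw [← Sheaf.isLocallySurjective_iff_epi] at this
  intro U x
  have hx : Presheaf.imageSieve (unionSheafι π).hom x ∈ J U :=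
    Presheaf.imageSieve_mem J (U := op U) (unionSheafι π).hom x
  refine J.transitive hx _ ?_
  rintro V f ⟨⟨t, ht⟩, rfl : t = X.obj.map f.op x⟩
  refine J.superset_covering ?_ ht
  rintro W g ⟨i, y, hy⟩
  refine ⟨i, y, ?_⟩
  rw [hy]
  simp

theorem jointEpi_iff_locSurj {ι : Type w} {X : Sh J} {F : ι → Sh J} (π : ∀ i, F i ⟶ X) :
    JointEpi π ↔ LocSurj π :=
  ⟨locSurj_of_jointEpi π, jointEpi_of_locSurj π⟩

theorem epi_desc_iff_locSurj {ι : Type w} {X : Sh J} {F : ι → Sh J} [HasCoproduct F]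
    (π : ∀ i, F i ⟶ X) : Epi (Sigma.desc π) ↔ LocSurj π :=
  (epi_desc_iff_jointEpi π).trans (jointEpi_iff_locSurj π)

theorem epi_iff_locSurj {X Y : Sh J} (f : Y ⟶ X) :
    Epi f ↔ LocSurj (fun _ : PUnit.{w + 1} => f) := by
  rw [← jointEpi_iff_locSurj]
  constructor
  · intro h Z g k hgk
    exact (cancel_epi f).1 (hgk PUnit.unit)
  · intro h
    exact ⟨fun g k hgk => h _ g k fun _ => hgk⟩

/-! ### Pullbacks and sections -/

theorem isPullback_app {P X Y Z : Sh J} {fst : P ⟶ X} {snd : P ⟶ Y} {f : X ⟶ Z} {g : Y ⟶ Z}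
    (h : IsPullback fst snd f g) (U : Cᵒᵖ) :
    IsPullback (fst.hom.app U) (snd.hom.app U) (f.hom.app U) (g.hom.app U) :=
  h.map (sheafToPresheaf J (Type u) ⋙ (evaluation _ _).obj U)

theorem exists_of_isPullback {P X Y Z : Sh J} {fst : P ⟶ X} {snd : P ⟶ Y} {f : X ⟶ Z}
    {g : Y ⟶ Z} (h : IsPullback fst snd f g) {U : Cᵒᵖ} (a : X.obj.obj U) (b : Y.obj.obj U)
    (hab : f.hom.app U a = g.hom.app U b) :
    ∃ c : P.obj.obj U, fst.hom.app U c = a ∧ snd.hom.app U c = b :=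
  Types.exists_of_isPullback (isPullback_app h U) a b hab

theorem ext_of_isPullback {P X Y Z : Sh J} {fst : P ⟶ X} {snd : P ⟶ Y} {f : X ⟶ Z}
    {g : Y ⟶ Z} (h : IsPullback fst snd f g) {U : Cᵒᵖ} (a b : P.obj.obj U)
    (h1 : fst.hom.app U a = fst.hom.app U b) (h2 : snd.hom.app U a = snd.hom.app U b) : a = b :=
  Types.ext_of_isPullback (isPullback_app h U) h1 h2

/-! ### Stability of locally surjective families -/

theorem LocSurj.baseChange {ι : Type w} {X Y : Sh J} {F G : ι → Sh J} {π : ∀ i, F i ⟶ X}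
    (hπ : LocSurj π) (g : Y ⟶ X) (p : ∀ i, G i ⟶ F i) (q : ∀ i, G i ⟶ Y)
    (h : ∀ i, IsPullback (p i) (q i) (π i) g) : LocSurj q := by
  intro U y
  refine J.superset_covering ?_ (hπ U (g.hom.app (op U) y))
  rintro V f ⟨i, z, hz⟩
  rw [← NatTrans.naturality_apply] at hz
  obtain ⟨c, _, hc⟩ := exists_of_isPullback (h i) z (Y.obj.map f.op y) hz
  exact ⟨i, c, hc⟩

theorem LocSurj.pullback_snd {ι : Type w} {X Y : Sh J} {F : ι → Sh J} {π : ∀ i, F i ⟶ X}
    (hπ : LocSurj π) (g : Y ⟶ X) : LocSurj (fun i => pullback.snd (π i) g) :=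
  hπ.baseChange g _ _ fun i => IsPullback.of_hasPullback (π i) g

theorem LocSurj.pullback_fst {ι : Type w} {X Y : Sh J} {F : ι → Sh J} {π : ∀ i, F i ⟶ X}
    (hπ : LocSurj π) (g : Y ⟶ X) : LocSurj (fun i => pullback.fst g (π i)) :=
  hπ.baseChange g _ _ fun i => (IsPullback.of_hasPullback g (π i)).flip

/-- If every member of a locally surjective family factors through a member of another
family, the latter is locally surjective. -/
theorem LocSurj.of_factor {ι : Type w} {κ : Type w'} {X : Sh J} {F : ι → Sh J} {G : κ → Sh J}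
    {π : ∀ i, F i ⟶ X} (hπ : LocSurj π) (ρ : ∀ j, G j ⟶ X)
    (h : ∀ i, ∃ (j : κ) (t : F i ⟶ G j), t ≫ ρ j = π i) : LocSurj ρ := by
  intro U x
  refine J.superset_covering ?_ (hπ U x)
  rintro V f ⟨i, y, hy⟩
  obtain ⟨j, t, ht⟩ := h i
  refine ⟨j, t.hom.app _ y, ?_⟩
  rw [← comp_app_apply, ht, hy]

/-- If a family `ρ` is such that, for all members `π i` of a locally surjective family,
the members of `ρ` refine a locally surjective family of `F i`, then `ρ` is locally surjective. -/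
theorem LocSurj.trans {ι : Type w} {κ : Type w'} {X : Sh J} {F : ι → Sh J} {G : κ → Sh J}
    {π : ∀ i, F i ⟶ X} (hπ : LocSurj π) (ρ : ∀ j, G j ⟶ X)
    (h : ∀ i, ∃ (μ : Type (max w w')) (H : μ → Sh J) (σ : ∀ m, H m ⟶ F i), LocSurj σ ∧
      ∀ m, ∃ (j : κ) (t : H m ⟶ G j), t ≫ ρ j = σ m ≫ π i) : LocSurj ρ := by
  intro U x
  refine J.transitive (hπ U x) _ ?_
  rintro V f ⟨i, y, hy⟩
  obtain ⟨μ, H, σ, hσ, h'⟩ := h i
  refine J.superset_covering ?_ (hσ V y)
  rintro W g ⟨m, z, hz⟩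
  obtain ⟨j, t, ht⟩ := h' m
  refine ⟨j, t.hom.app _ z, ?_⟩
  rw [← comp_app_apply, ht, comp_app_apply, hz, NatTrans.naturality_apply, hy]
  simp

/-- Composition of locally surjective families, sigma-indexed. -/
theorem LocSurj.sigma_comp {ι : Type w} {κ : ι → Type w'} {X : Sh J} {F : ι → Sh J}
    {G : ∀ i, κ i → Sh J} {π : ∀ i, F i ⟶ X} (hπ : LocSurj π) (ρ : ∀ i j, G i j ⟶ F i)
    (h : ∀ i, LocSurj (ρ i)) :
    LocSurj (F := fun k : Σ i, κ i => G k.1 k.2) fun k => ρ k.1 k.2 ≫ π k.1 := by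
  intro U x
  refine J.transitive (hπ U x) _ ?_
  rintro V f ⟨i, y, hy⟩
  refine J.superset_covering ?_ (h i V y)
  rintro W g ⟨m, z, hz⟩
  refine ⟨⟨i, m⟩, z, ?_⟩
  dsimp only
  rw [comp_app_apply, hz, NatTrans.naturality_apply, hy]
  simp

theorem LocSurj.comp_epi {ι : Type w} {X Y : Sh J} {F : ι → Sh J} {π : ∀ i, F i ⟶ X}
    (hπ : LocSurj π) (g : X ⟶ Y) [Epi g] : LocSurj (fun i => π i ≫ g) := by
  rw [← jointEpi_iff_locSurj] at hπ ⊢
  intro Z a b hab
  rw [← cancel_epi g]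
  exact hπ _ _ _ fun i => by simpa using hab i

theorem LocSurj.comp_iso {ι : Type w} {X Y : Sh J} {F : ι → Sh J} {π : ∀ i, F i ⟶ X}
    (hπ : LocSurj π) (g : X ⟶ Y) [IsIso g] : LocSurj (fun i => π i ≫ g) :=
  hπ.comp_epi g

theorem locSurj_sigma_ι {ι : Type w} (F : ι → Sh J) [HasCoproduct F] : LocSurj (Sigma.ι F) := by
  rw [← jointEpi_iff_locSurj]
  intro Z g h hgh
  exact Sigma.hom_ext _ _ hgh

theorem locSurj_cofan_inj {ι : Type w} {F : ι → Sh J} {c : Cofan F} (hc : IsColimit c) :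
    LocSurj c.inj := by
  rw [← jointEpi_iff_locSurj]
  intro Z g h hgh
  exact Cofan.IsColimit.hom_ext hc _ _ hgh

/-! ### Quasi-compact objects -/

theorem isQC_iff (X : Sh J) : IsQC X ↔ ∀ (ι : Type u) (F : ι → Sh J) (π : ∀ i, F i ⟶ X),
    LocSurj π → ∃ s : Finset ι, LocSurj (fun i : s => π i) := by
  refine forall_congr' fun ι => forall_congr' fun F => forall_congr' fun π => ?_
  rw [epi_desc_iff_locSurj]
  refine imp_congr_right fun _ => exists_congr fun s => ?_
  rw [epi_desc_iff_locSurj]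

/-- A finite locally surjective family with quasi-compact sources has quasi-compact target. -/
theorem isQC_of_finite {κ : Type w} [Finite κ] {X : Sh J} {F : κ → Sh J} (π : ∀ k, F k ⟶ X)
    (hπ : LocSurj π) (hF : ∀ k, IsQC (F k)) : IsQC X := by
  classical
  rw [isQC_iff]
  intro ι G ρ hρ
  have := Fintype.ofFinite κ
  have h (k : κ) : ∃ s : Finset ι, LocSurj (fun i : s => pullback.snd (ρ i) (π k)) :=
    (isQC_iff (F k)).1 (hF k) ι _ _ (hρ.pullback_snd (π k))
  choose s hs using h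
  refine ⟨Finset.univ.biUnion s, ?_⟩
  intro U x
  refine J.transitive (hπ U x) _ ?_
  rintro V f ⟨k, y, hy⟩
  refine J.superset_covering ?_ (hs k V y)
  rintro W g ⟨m, z, hz⟩
  refine ⟨⟨m.1, Finset.mem_biUnion.2 ⟨k, Finset.mem_univ _, m.2⟩⟩,
    (pullback.fst (ρ m) (π k)).hom.app _ z, ?_⟩
  rw [← comp_app_apply]
  dsimp only
  rw [pullback.condition, comp_app_apply]
  erw [hz]
  rw [NatTrans.naturality_apply, hy]
  simp

theorem isQC_of_epi {X Y : Sh J} (f : X ⟶ Y) [Epi f] (hX : IsQC X) : IsQC Y :=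
  isQC_of_finite (fun _ : PUnit.{1} => f) ((epi_iff_locSurj f).1 inferInstance) fun _ => hX

theorem isQC_of_iso {X Y : Sh J} (e : X ≅ Y) (hX : IsQC X) : IsQC Y :=
  isQC_of_epi e.hom hX

theorem isQC_iff_of_iso {X Y : Sh J} (e : X ≅ Y) : IsQC X ↔ IsQC Y :=
  ⟨isQC_of_iso e, isQC_of_iso e.symm⟩


/-! ### Quasi-compact and quasi-separated morphisms -/

theorem isQC_of_isPullback_of_isQCHom {P X Y Z : Sh J} {fst : P ⟶ X} {snd : P ⟶ Y} {f : X ⟶ Z}
    {g : Y ⟶ Z} (h : IsPullback fst snd f g) (hf : IsQCHom f) (hY : IsQC Y) : IsQC P :=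
  isQC_of_iso h.isoPullback.symm (hf Y g hY)

theorem isQCHom_iff_isPullback {X Y : Sh J} (f : X ⟶ Y) :
    IsQCHom f ↔ ∀ (P Y' : Sh J) (p : P ⟶ X) (q : P ⟶ Y') (g : Y' ⟶ Y),
      IsPullback p q f g → IsQC Y' → IsQC P :=
  ⟨fun hf _ _ _ _ _ h hY => isQC_of_isPullback_of_isQCHom h hf hY,
    fun h Y' g hY => h _ Y' _ _ g (IsPullback.of_hasPullback f g) hY⟩

theorem isQCHom_of_isIso {X Y : Sh J} (f : X ⟶ Y) [IsIso f] : IsQCHom f := by
  rw [isQCHom_iff_isPullback]
  intro P Y' p q g h hY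
  have : IsIso q := h.isIso_snd_of_isIso
  exact isQC_of_iso (asIso q).symm hY

theorem isQCHom_of_isPullback {X' Y' X Y : Sh J} {g' : X' ⟶ X} {f' : X' ⟶ Y'} {f : X ⟶ Y}
    {g : Y' ⟶ Y} (h : IsPullback g' f' f g) (hf : IsQCHom f) : IsQCHom f' := by
  rw [isQCHom_iff_isPullback] at hf ⊢
  intro P Y'' p q k hk hY
  exact hf P Y'' (p ≫ g') q (k ≫ g) (hk.paste_horiz h) hY

theorem isQCHom_pullback_snd {X Y' Y : Sh J} (f : X ⟶ Y) (g : Y' ⟶ Y) (hf : IsQCHom f) :
    IsQCHom (pullback.snd f g) :=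
  isQCHom_of_isPullback (IsPullback.of_hasPullback f g) hf

theorem isQCHom_pullback_fst {X Y' Y : Sh J} (f : X ⟶ Y) (g : Y' ⟶ Y) (hg : IsQCHom g) :
    IsQCHom (pullback.fst f g) :=
  isQCHom_of_isPullback (IsPullback.of_hasPullback f g).flip hg

theorem isQCHom_comp {X Y Z : Sh J} {f : X ⟶ Y} {g : Y ⟶ Z} (hf : IsQCHom f) (hg : IsQCHom g) :
    IsQCHom (f ≫ g) := by
  rw [isQCHom_iff_isPullback]
  intro P Z' p q k hk hZ
  have h1 : IsQC (pullback g k) := hg Z' k hZ
  exact (isQCHom_iff_isPullback f).1 hf P (pullback g k) p _ (pullback.fst g k)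
    (IsPullback.of_bot' hk (IsPullback.of_hasPullback g k)) h1

theorem isQCHom_of_comp_iso {X Y Z : Sh J} {f : X ⟶ Y} (g : Y ⟶ Z) [IsIso g]
    (h : IsQCHom (f ≫ g)) : IsQCHom f := by
  have := isQCHom_comp h (isQCHom_of_isIso (inv g))
  simpa using this

/-- If `g` is a monomorphism and `f ≫ g` is quasi-compact then `f` is quasi-compact. -/
theorem isQCHom_of_comp_mono {X Y Z : Sh J} {f : X ⟶ Y} (g : Y ⟶ Z) [Mono g]
    (h : IsQCHom (f ≫ g)) : IsQCHom f := by
  refine isQCHom_of_isPullback (g' := 𝟙 X) (f := f ≫ g) (g := g) ?_ h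
  refine ⟨⟨by simp⟩, ⟨PullbackCone.IsLimit.mk _ (fun s => s.fst) ?_ ?_ ?_⟩⟩
  · intro s; simp
  · intro s
    rw [← cancel_mono g, Category.assoc, s.condition]
  · intro s m h1 h2
    simpa using h1

theorem isPullback_map_diagonal {X Y S T : Sh J} (f : X ⟶ T) (g : Y ⟶ T) (i : T ⟶ S) :
    IsPullback (pullback.fst f g ≫ f)
      (pullback.map f g (f ≫ i) (g ≫ i) (𝟙 _) (𝟙 _) i (Category.id_comp _).symm
        (Category.id_comp _).symm) (pullback.diagonal i)
      (pullback.map (f ≫ i) (g ≫ i) i i f g (𝟙 _) (Category.comp_id _) (Category.comp_id _)) :=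
  pullback_map_diagonal_isPullback f g i

/-- The fibre product over `T` is quasi-compact if the one over `S` is and `T ⟶ S` is
quasi-separated. -/
theorem isQC_pullback_of_isQSHom {X Y S T : Sh J} (f : X ⟶ T) (g : Y ⟶ T) (i : T ⟶ S)
    (hi : IsQSHom i) (h : IsQC (pullback (f ≫ i) (g ≫ i))) : IsQC (pullback f g) :=
  isQC_of_isPullback_of_isQCHom (isPullback_map_diagonal f g i) hi h

theorem isQSHom_of_mono {X Y : Sh J} (f : X ⟶ Y) [Mono f] : IsQSHom f :=
  isQCHom_of_isIso (pullback.diagonal f)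

theorem isPullback_comp_mono {P X Y T S : Sh J} {p : P ⟶ X} {q : P ⟶ Y} {f : X ⟶ T} {g : Y ⟶ T}
    (h : IsPullback p q f g) (i : T ⟶ S) [Mono i] : IsPullback p q (f ≫ i) (g ≫ i) := by
  refine ⟨⟨by rw [h.w_assoc]⟩, ⟨PullbackCone.IsLimit.mk _
    (fun s => h.lift s.fst s.snd ?_) ?_ ?_ ?_⟩⟩
  · rw [← cancel_mono i, Category.assoc, Category.assoc, s.condition]
  · intro s; simp
  · intro s; simp
  · intro s m h1 h2
    apply h.hom_ext
    · simpa using h1
    · simpa using h2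

theorem isPullback_of_comp_mono {P X Y T S : Sh J} {p : P ⟶ X} {q : P ⟶ Y} {f : X ⟶ T}
    {g : Y ⟶ T} (i : T ⟶ S) [Mono i] (h : IsPullback p q (f ≫ i) (g ≫ i)) :
    IsPullback p q f g := by
  refine ⟨⟨by rw [← cancel_mono i, Category.assoc, Category.assoc, h.w]⟩,
    ⟨PullbackCone.IsLimit.mk _ (fun s => h.lift s.fst s.snd ?_) ?_ ?_ ?_⟩⟩
  · rw [reassoc_of% s.condition]
  · intro s; simp
  · intro s; simp
  · intro s m h1 h2
    apply h.hom_ext
    · simpa using h1
    · simpa using h2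

theorem isQC_pullback_comp_mono_iff {X Y S T : Sh J} (f : X ⟶ T) (g : Y ⟶ T) (i : T ⟶ S)
    [Mono i] : IsQC (pullback (f ≫ i) (g ≫ i)) ↔ IsQC (pullback f g) :=
  isQC_iff_of_iso (isPullback_comp_mono (IsPullback.of_hasPullback f g) i).isoPullback.symm

theorem isQSHom_comp_left {X Y Z : Sh J} (f : X ⟶ Y) (g : Y ⟶ Z) (h : IsQSHom (f ≫ g)) :
    IsQSHom f := by
  have : Mono ((pullbackDiagonalMapIdIso f f g).inv ≫ pullback.snd _ _) := by
    have : Mono (pullback.diagonal g) := inferInstance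
    infer_instance
  unfold IsQSHom at h ⊢
  rw [pullback.diagonal_comp] at h
  exact isQCHom_of_comp_mono _ h

/-- If `g` is quasi-separated and `f ≫ g` is quasi-compact then `f` is quasi-compact. -/
theorem isQCHom_of_comp_of_isQSHom {X Y Z : Sh J} (f : X ⟶ Y) (g : Y ⟶ Z) (hg : IsQSHom g)
    (h : IsQCHom (f ≫ g)) : IsQCHom f := by
  have h2 := isQCHom_of_isPullback (pullback_lift_diagonal_isPullback f g) hg
  have h3 := isQCHom_comp h2 (isQCHom_pullback_snd (f ≫ g) g h)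
  rwa [pullback.lift_snd] at h3

theorem isQS_of_isQSHom {X Y : Sh J} (f : X ⟶ Y) (hf : IsQSHom f) (hY : IsQS Y) : IsQS X :=
  fun A B a b hA hB => isQC_pullback_of_isQSHom a b f hf (hY A B _ _ hA hB)

theorem isQS_of_mono {X Y : Sh J} (f : X ⟶ Y) [Mono f] (hY : IsQS Y) : IsQS X :=
  isQS_of_isQSHom f (isQSHom_of_mono f) hY

end Groth.Agent.Sga4A.FinBase
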