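import Groth.Agent.Sga4A.QC

/-!
# Quasi-compactness of fibre products tested on covers; quasi-separatedness is local on the target
-/

set_option autoImplicit false
open CategoryTheory CategoryTheory.Limits Opposite
universe w u

namespace Groth.Agent.Sga4A.QCLocal

open ToposFin Groth.Agent.Sga4A.QC

variable {C : Type u} [SmallCategory C] {J : GrothendieckTopology C}

/-- Testing quasi-compactness of a fibre product on a finite cover of the test object. -/
theorem isQC_pullback_of_js {X Y T : Sh J} (f : X ⟶ Y) (t : T ⟶ Y) {κ : Type w} [Finite κ]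
    {Q : κ → Sh J} {q : ∀ k, Q k ⟶ T} (hq : JS q) (h : ∀ k, IsQC (pullback f (q k ≫ t))) :
    IsQC (pullback f t) := by
  refine isQC_of_finite_js (hq.pullback_fst (pullback.snd f t)) (fun k => ?_)
  have h1 := IsPullback.of_hasPullback (pullback.snd f t) (q k)
  have h2 := IsPullback.of_hasPullback f t
  exact isQC_of_iso (h1.paste_horiz h2).isoPullback.symm (h k)

/-- Testing quasi-compactness of a fibre product on a finite cover of the source. -/
theorem isQC_pullback_of_js_source {X Y T : Sh J} (f : X ⟶ Y) (t : T ⟶ Y) {κ : Type w} [Finite κ]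
    {Q : κ → Sh J} {q : ∀ k, Q k ⟶ X} (hq : JS q) (h : ∀ k, IsQC (pullback (q k ≫ f) t)) :
    IsQC (pullback f t) := by
  refine isQC_of_iso (pullbackSymmetry t f) (isQC_pullback_of_js t f hq (fun k => ?_))
  exact isQC_of_iso (pullbackSymmetry _ _) (h k)

section Pull

variable {E : Type*} [Category* E] [HasPullbacks E] {X Y P Y' : E} {a : P ⟶ X} {b : P ⟶ Y'}
  {f : X ⟶ Y} {g : Y' ⟶ Y}

/-- The map `P ×_{Y'} P ⟶ X ×_Y X` induced by a cartesian square. -/
noncomputable abbrev selfMap (h : IsPullback a b f g) : pullback b b ⟶ pullback f f :=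
  pullback.map b b f f a a g h.w.symm h.w.symm

lemma selfMap_fst (h : IsPullback a b f g) :
    selfMap h ≫ pullback.fst f f = pullback.fst b b ≫ a := pullback.lift_fst _ _ _

lemma selfMap_snd (h : IsPullback a b f g) :
    selfMap h ≫ pullback.snd f f = pullback.snd b b ≫ a := pullback.lift_snd _ _ _

lemma isPullback_selfMap_fst (h : IsPullback a b f g) :
    IsPullback (selfMap h) (pullback.fst b b) (pullback.fst f f) a := by
  have h1 := (IsPullback.of_hasPullback b b).flip.paste_horiz h
  have h2 : IsPullback (selfMap h ≫ pullback.snd f f) (pullback.fst b b) f (a ≫ f) := by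
    rw [h.w, selfMap_snd]
    exact h1
  exact IsPullback.of_right h2 (selfMap_fst h) (IsPullback.of_hasPullback f f).flip

/-- `P ×_{Y'} P = (X ×_Y X) ×_Y Y'`. -/
lemma isPullback_selfMap (h : IsPullback a b f g) :
    IsPullback (selfMap h) (pullback.fst b b ≫ b) (pullback.fst f f ≫ f) g :=
  (isPullback_selfMap_fst h).paste_vert h

/-- The diagonal of a base change is the base change of the diagonal. -/
lemma isPullback_diagonal (h : IsPullback a b f g) :
    IsPullback a (pullback.diagonal b) (pullback.diagonal f) (selfMap h) := by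
  have h1 : IsPullback a (pullback.diagonal b ≫ pullback.fst b b)
      (pullback.diagonal f ≫ pullback.fst f f) a := by
    simpa using IsPullback.of_vert_isIso ⟨by simp⟩
  refine IsPullback.of_bot h1 ?_ (isPullback_selfMap_fst h)
  apply pullback.hom_ext
  · rw [Category.assoc, Category.assoc, selfMap_fst]
    simp
  · rw [Category.assoc, Category.assoc, selfMap_snd]
    simp

end Pull

/-- Quasi-separatedness of a morphism is local on the target. -/
theorem isQSHom_of_js_target (hE : HasQCGenerators J) {X Y : Sh J} (f : X ⟶ Y) {ι : Type w}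
    {Yi P : ι → Sh J} {g : ∀ i, Yi i ⟶ Y} (hg : JS g) {a : ∀ i, P i ⟶ X} {b : ∀ i, P i ⟶ Yi i}
    (hP : ∀ i, IsPullback (a i) (b i) f (g i)) (h : ∀ i, IsQSHom (b i)) : IsQSHom f := by
  have h1 : JS (fun i => selfMap (hP i)) :=
    hg.pullback (pullback.fst f f ≫ f) (fun i => (isPullback_selfMap (hP i)).flip)
  exact isQCHom_of_js_target hE (pullback.diagonal f) h1
    (fun i => isPullback_diagonal (hP i)) h

end Groth.Agent.Sga4A.QCLocal
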