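import Groth.Agent.Sga4A.QC

/-!
# Quasi-separated objects and morphisms of a sheaf topos

* `isQCHom_of_isQC_of_isQS` : a morphism from a quasi-compact object to a quasi-separated object is quasi-compact.
* `isQS_of_qs_cover_qc_maps`, `isQSHom_of_cover_of_source`, `isQSHom_of_cover_with_qs_products`.
-/

set_option autoImplicit false

universe w w' u

open CategoryTheory CategoryTheory.Limits Opposite ToposFin

namespace Groth.Agent.Sga4A.QS

open Groth.Agent.Sga4A.QC

variable {C : Type u} [SmallCategory C] {J : GrothendieckTopology C}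

attribute [local simp] pullback.lift_fst pullback.lift_snd pullback.lift_fst_assoc pullback.lift_snd_assoc

/-- Quasi-separatedness tested on arbitrary pullback squares. -/
lemma isQC_of_isPullback_of_isQS {X A B P : Sh J} (hX : IsQS X) {fst : P ⟶ A} {snd : P ⟶ B}
    {a : A ⟶ X} {b : B ⟶ X} (h : IsPullback fst snd a b) (hA : IsQC A) (hB : IsQC B) : IsQC P :=
  isQC_of_iso h.isoPullback.symm (hX _ _ _ _ hA hB)

/-- A morphism from a quasi-compact object to a quasi-separated object is quasi-compact. -/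
lemma isQCHom_of_isQC_of_isQS {X Y : Sh J} (f : X ⟶ Y) (hX : IsQC X) (hY : IsQS Y) : IsQCHom f :=
  fun _ g hY' => hY _ _ f g hX hY'

/-- An object covered by quasi-separated objects through quasi-compact maps is quasi-separated. -/
lemma isQS_of_qs_cover_qc_maps {Y : Sh J} {ι : Type w} {Yi : ι → Sh J} {g : ∀ i, Yi i ⟶ Y}
    (hg : JS g) (hqs : ∀ i, IsQS (Yi i)) (hqc : ∀ i, IsQCHom (g i)) : IsQS Y := by
  intro A B a b hA hB
  obtain ⟨s, hs⟩ := exists_finset_js hA (hg.pullback_snd a)
  refine isQC_of_finite_js (hs.pullback_snd (pullback.fst a b)) fun i => ?_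
  have e₁ : IsPullback (pullback.fst (pullback.fst (g i) a) (pullback.fst (g i) b))
      (pullback.snd (pullback.fst (g i) a) (pullback.fst (g i) b) ≫ pullback.snd (g i) b)
      (pullback.fst (g i) a ≫ g i) b :=
    (IsPullback.of_hasPullback (pullback.fst (g i) a) (pullback.fst (g i) b)).flip.paste_horiz
      (IsPullback.of_hasPullback (g i) b).flip |>.flip
  have e₂ : IsPullback (pullback.fst (pullback.snd (g i) a) (pullback.fst a b))
      (pullback.snd (pullback.snd (g i) a) (pullback.fst a b) ≫ pullback.snd a b)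
      (pullback.snd (g i) a ≫ a) b :=
    (IsPullback.of_hasPullback (pullback.snd (g i) a) (pullback.fst a b)).flip.paste_horiz
      (IsPullback.of_hasPullback a b).flip |>.flip
  rw [pullback.condition] at e₁
  exact isQC_of_iso (e₁.isoIsPullback _ _ e₂) (hqs i _ _ _ _ (hqc i _ a hA) (hqc i _ b hB))

/-- The base change of `f` along the projection: `X ×_Z X' ⟶ X ×_Z Y` for `f : X' ⟶ Y`. -/
lemma isPullback_map_id_left {X X' Y Z : Sh J} (f : X' ⟶ Y) (g : Y ⟶ Z) (h : X ⟶ Z) :
    IsPullback (pullback.snd h (f ≫ g)) (pullback.map h (f ≫ g) h g (𝟙 X) f (𝟙 Z) (by simp) (by simp))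
      f (pullback.snd h g) := by
  refine IsPullback.of_bot (v₂₁ := pullback.fst h g) (v₂₂ := g) (h₃₁ := h) ?_ (by simp)
    (IsPullback.of_hasPullback h g).flip
  have : pullback.map h (f ≫ g) h g (𝟙 X) f (𝟙 Z) (by simp) (by simp) ≫ pullback.fst h g =
      pullback.fst h (f ≫ g) := by simp
  rw [this]
  exact (IsPullback.of_hasPullback h (f ≫ g)).flip

/-- The base change of `f` along the projection: `X' ×_Z X ⟶ Y ×_Z X` for `f : X' ⟶ Y`. -/
lemma isPullback_map_id_right {X X' Y Z : Sh J} (f : X' ⟶ Y) (g : Y ⟶ Z) (h : X ⟶ Z) :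
    IsPullback (pullback.fst (f ≫ g) h) (pullback.map (f ≫ g) h g h f (𝟙 X) (𝟙 Z) (by simp) (by simp))
      f (pullback.fst g h) := by
  refine IsPullback.of_bot (v₂₁ := pullback.snd g h) (v₂₂ := g) (h₃₁ := h) ?_ (by simp)
    (IsPullback.of_hasPullback g h)
  have : pullback.map (f ≫ g) h g h f (𝟙 X) (𝟙 Z) (by simp) (by simp) ≫ pullback.snd g h =
      pullback.snd (f ≫ g) h := by simp
  rw [this]
  exact (IsPullback.of_hasPullback (f ≫ g) h)

/-- The graph of a quasi-compact morphism `f` over `Z` is quasi-compact if `f ≫ g` is quasi-separated. -/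
lemma isQCHom_graph {X Y Z : Sh J} (f : X ⟶ Y) (g : Y ⟶ Z) (hf : IsQCHom f) (hfg : IsQSHom (f ≫ g)) :
    IsQCHom (pullback.lift (𝟙 X) f (by simp) : X ⟶ pullback (f ≫ g) g) := by
  have : (pullback.lift (𝟙 X) f (by simp) : X ⟶ pullback (f ≫ g) g) =
      pullback.diagonal (f ≫ g) ≫ pullback.map (f ≫ g) (f ≫ g) (f ≫ g) g (𝟙 X) f (𝟙 Z) (by simp) (by simp) := by
    apply pullback.hom_ext <;> simp
  rw [this]
  exact isQCHom_comp hfg (isQCHom_of_isPullback (isPullback_map_id_left f g (f ≫ g)) hf)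

/-- Quasi-separatedness of a morphism can be checked after composition with a jointly surjective family of
quasi-compact morphisms. -/
lemma isQSHom_of_cover_of_source (hE : HasQCGenerators J) {Y Z : Sh J} (g : Y ⟶ Z) {ι : Type w}
    {X : ι → Sh J} {f : ∀ i, X i ⟶ Y} (hf : JS f) (hqc : ∀ i, IsQCHom (f i))
    (hqs : ∀ i, IsQSHom (f i ≫ g)) : IsQSHom g := by
  have h₁ : JS (fun i => pullback.map (f i ≫ g) g g g (f i) (𝟙 Y) (𝟙 Z) (by simp) (by simp)) :=
    hf.pullback (pullback.fst g g) (fun i => isPullback_map_id_right (f i) g g)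
  exact isQCHom_of_js_target hE (pullback.diagonal g) h₁
    (fun i => pullback_lift_diagonal_isPullback (f i) g)
    (fun i => isQCHom_graph (f i) g (hqc i) (hqs i))

/-- The products of the members of a jointly surjective family are jointly surjective. -/
lemma js_pullback_map {X Y : Sh J} (f : X ⟶ Y) {ι : Type w} {Xi : ι → Sh J} {g : ∀ i, Xi i ⟶ X}
    (hg : JS g) : JS (fun p : ι × ι => pullback.map (g p.1 ≫ f) (g p.2 ≫ f) f f (g p.1) (g p.2) (𝟙 Y)
      (by simp) (by simp)) := by
  have h₁ := hg.pullback_snd (pullback.fst f f)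
  have h₂ := h₁.comp (fun i => hg.pullback_snd (pullback.snd (g i) (pullback.fst f f) ≫ pullback.snd f f))
  refine h₂.of_factors ?_
  rintro ⟨i, j⟩
  refine ⟨(i, j), pullback.lift (pullback.snd _ _ ≫ pullback.fst _ _) (pullback.fst _ _) ?_, ?_⟩
  · simp only [Category.assoc]
    rw [pullback.condition_assoc, pullback.condition_assoc, pullback.condition]
    simp
  · apply pullback.hom_ext
    · simp [pullback.condition]
    · simp [pullback.condition]

/-- SGA 4 VI 2.1.3. -/
lemma isQSHom_of_cover_with_qs_products (hE : HasQCGenerators J) {X Y : Sh J} (f : X ⟶ Y) {ι : Type w}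
    {Xi : ι → Sh J} {g : ∀ i, Xi i ⟶ X} (hg : JS g) (hqc : ∀ i, IsQC (Xi i))
    (hqs : ∀ i j, IsQS (pullback (g i ≫ f) (g j ≫ f))) (hX : IsQS X) : IsQSHom f := by
  refine isQCHom_of_js_target hE (pullback.diagonal f) (js_pullback_map f hg)
    (fun p => pullback_map_diagonal_isPullback (g p.1) (g p.2) f) (fun p => ?_)
  exact isQCHom_of_isQC_of_isQS _ (hX _ _ _ _ (hqc p.1) (hqc p.2)) (hqs p.1 p.2)

/-- SGA 4 VI 1.11 (i). -/
lemma isQCHom_of_finite_cover_of_source {Y Z : Sh J} (g : Y ⟶ Z) {ι : Type w} [Finite ι]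
    {X : ι → Sh J} {f : ∀ i, X i ⟶ Y} (hf : JS f) (h : ∀ i, IsQCHom (f i ≫ g)) : IsQCHom g := by
  intro T t hT
  refine isQC_of_finite_js (hf.pullback_snd (pullback.fst g t)) fun i => ?_
  exact isQC_of_isPullback (h i) ((IsPullback.of_hasPullback (f i) (pullback.fst g t)).flip.paste_horiz
    (IsPullback.of_hasPullback g t).flip |>.flip) hT

/-- SGA 4 VI 1.17. -/
lemma isQS_iff_isQCHom_of_coherent_cover {Y : Sh J} {ι : Type w}
    {Yi : ι → Sh J} {g : ∀ i, Yi i ⟶ Y} (hg : JS g) (hY : ∀ i, IsCoherent (Yi i)) :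
    IsQS Y ↔ ∀ i, IsQCHom (g i) :=
  ⟨fun h i => isQCHom_of_isQC_of_isQS _ (hY i).1 h,
    fun h => isQS_of_qs_cover_qc_maps hg (fun i => (hY i).2) h⟩

lemma isQS_iff_isQC_pullback_of_coherent_cover (hE : HasQCGenerators J) {Y : Sh J} {ι : Type w}
    {Yi : ι → Sh J} {g : ∀ i, Yi i ⟶ Y} (hg : JS g) (hY : ∀ i, IsCoherent (Yi i)) :
    IsQS Y ↔ ∀ i j, IsQC (pullback (g i) (g j)) := by
  constructor
  · intro h i j
    exact h _ _ _ _ (hY i).1 (hY j).1
  · intro h
    rw [isQS_iff_isQCHom_of_coherent_cover hg hY]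
    intro i
    exact isQCHom_of_js_target hE (g i) hg (fun j => IsPullback.of_hasPullback (g i) (g j))
      (fun j => isQCHom_of_isQC_of_isQS _ (h i j) (hY j).2)

end Groth.Agent.Sga4A.QS
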