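import Groth.Agent.Sga4A.QC
import Groth.Agent.Sga4A.EpsSect

/-!
# Morphisms out of `eps J V` given by sections
-/

set_option autoImplicit false
universe w u
open CategoryTheory CategoryTheory.Limits Opposite ToposFin

namespace Groth.Agent.Sga4A.EpsHom

variable {C : Type u} [SmallCategory C] {J : GrothendieckTopology C}

/-- The morphism `eps J V ⟶ Y` given by a section of `Y` over `V`. -/
noncomputable def ofSect {V : C} {Y : Sh J} (y : Y.obj.obj (op V)) : eps J V ⟶ Y :=
  ((sheafificationAdjunction J (Type u)).homEquiv _ _).symm (yonedaEquiv.symm y)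

theorem toSheafify_ofSect {V : C} {Y : Sh J} (y : Y.obj.obj (op V)) :
    toSheafify J (yoneda.obj V) ≫ (ofSect y).hom = yonedaEquiv.symm y := by
  have h := ((sheafificationAdjunction J (Type u)).homEquiv _ Y).apply_symm_apply
    (yonedaEquiv.symm y)
  rw [Adjunction.homEquiv_unit] at h
  exact h

theorem ofSect_sect {V W : C} {Y : Sh J} (y : Y.obj.obj (op V)) (f : W ⟶ V) :
    (ofSect y).hom.app (op W) (EpsSect.sect J f) = Y.obj.map f.op y := by
  have h := ConcreteCategory.congr_hom (congr_app (toSheafify_ofSect y) (op W)) f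
  exact h

@[ext]
theorem hom_ext {V : C} {Y : Sh J} {a b : eps J V ⟶ Y}
    (h : a.hom.app (op V) (EpsSect.sect J (𝟙 V)) = b.hom.app (op V) (EpsSect.sect J (𝟙 V))) :
    a = b := by
  apply ((sheafificationAdjunction J (Type u)).homEquiv _ Y).injective
  apply yonedaEquiv.injective
  rw [Adjunction.homEquiv_unit, Adjunction.homEquiv_unit]
  exact h

theorem eq_ofSect {V : C} {Y : Sh J} (a : eps J V ⟶ Y) :
    a = ofSect (a.hom.app (op V) (EpsSect.sect J (𝟙 V))) := by
  apply hom_ext
  rw [ofSect_sect]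
  simp

theorem ofSect_comp {V : C} {Y Z : Sh J} (y : Y.obj.obj (op V)) (a : Y ⟶ Z) :
    ofSect y ≫ a = ofSect (a.hom.app (op V) y) := by
  apply hom_ext
  rw [ofSect_sect]
  simp only [op_id, ObjectProperty.FullSubcategory.comp_hom, NatTrans.comp_app,
    ConcreteCategory.comp_apply, ofSect_sect]
  simp

theorem eps_map_comp_ofSect {V W : C} {Y : Sh J} (y : Y.obj.obj (op V)) (f : W ⟶ V) :
    (presheafToSheaf J (Type u)).map (yoneda.map f) ≫ ofSect y = ofSect (Y.obj.map f.op y) := by
  apply hom_ext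
  rw [ofSect_sect]
  simp only [op_id, ObjectProperty.FullSubcategory.comp_hom, NatTrans.comp_app,
    ConcreteCategory.comp_apply]
  rw [EpsSect.eps_map_sect, ofSect_sect]
  simp

/-- All sections give a jointly surjective family. -/
theorem js_ofSect (Y : Sh J) :
    QC.JS (fun p : (Σ V : C, Y.obj.obj (op V)) => ofSect p.2) := by
  intro U s
  refine ⟨⊤, J.top_mem U, fun V g _ => ⟨⟨U, s⟩, EpsSect.sect J g, ofSect_sect _ _⟩⟩

/-- Two sections of a pullback agree if their projections agree. -/
theorem pullback_section_ext {P X Y Z : Sh J} {fst : P ⟶ X} {snd : P ⟶ Y} {f : X ⟶ Z} {g : Y ⟶ Z}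
    (h : IsPullback fst snd f g) {U : Cᵒᵖ} {p q : P.obj.obj U}
    (h₁ : fst.hom.app U p = fst.hom.app U q) (h₂ : snd.hom.app U p = snd.hom.app U q) : p = q := by
  have h' := h.map (sheafToPresheaf J (Type u) ⋙ (evaluation _ _).obj U)
  exact Types.ext_of_isPullback h' h₁ h₂

end Groth.Agent.Sga4A.EpsHom
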