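import Groth.Prelude.Def_SGA4c
import Mathlib.CategoryTheory.Sites.Subsheaf
import Mathlib.CategoryTheory.Sites.LocallySurjective
import Mathlib.CategoryTheory.Limits.Types.Pullbacks

/-!
# Jointly surjective families of sheaves of sets

Sections-level description of jointly epimorphic families in `ToposFin.Sh J`, their stability
under pullback, composition and refinement, and the first consequences for quasi-compact
objects.
-/

set_option autoImplicit false
universe u
open CategoryTheory CategoryTheory.Limits Opposite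

namespace Groth.Agent.Sga4A.JSFam

variable {C : Type u} [SmallCategory C] {J : GrothendieckTopology C}

/-- A family of morphisms of sheaves with common target is jointly surjective: every section
is locally in the image of one of the members. -/
def JS {X : ToposFin.Sh J} {ι : Type u} {F : ι → ToposFin.Sh J} (π : ∀ i, F i ⟶ X) : Prop :=
  ∀ (U : C) (s : X.obj.obj (op U)), ∃ S ∈ J U, ∀ (V : C) (g : V ⟶ U), S g →
    ∃ (i : ι) (x : (F i).obj.obj (op V)), (π i).hom.app (op V) x = X.obj.map g.op s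

/-- The subfunctor of sections locally in the image of a member of the family. -/
def locImage {X : ToposFin.Sh J} {ι : Type u} {F : ι → ToposFin.Sh J} (π : ∀ i, F i ⟶ X) :
    Subfunctor X.obj where
  obj U := {s | ∃ S ∈ J U.unop, ∀ (V : C) (g : V ⟶ U.unop), S g →
    ∃ (i : ι) (x : (F i).obj.obj (op V)), (π i).hom.app (op V) x = X.obj.map g.op s}
  map {U V} h := by
    rintro s ⟨S, hS, hs⟩
    refine ⟨S.pullback h.unop, J.pullback_stable _ hS, fun W g hg => ?_⟩
    obtain ⟨i, x, hx⟩ := hs W (g ≫ h.unop) hg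
    refine ⟨i, x, hx.trans ?_⟩
    simp

theorem locImage_isSheaf {X : ToposFin.Sh J} {ι : Type u} {F : ι → ToposFin.Sh J}
    (π : ∀ i, F i ⟶ X) : Presieve.IsSheaf J (locImage π).toFunctor := by
  have hX : Presieve.IsSheaf J X.obj := (isSheaf_iff_isSheaf_of_type _ _).mp X.property
  rw [Subfunctor.isSheaf_iff _ hX]
  intro U s hs
  -- `hs : (sieveOfSection s) ∈ J U.unop`
  refine ⟨Sieve.bind ((locImage π).sieveOfSection s).arrows (fun V g hg => (Classical.choose hg)),
    J.bind_covering hs (fun V g hg => (Classical.choose_spec hg).1), ?_⟩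
  rintro V g ⟨W, k, h, hh, hk, rfl⟩
  obtain ⟨i, x, hx⟩ := (Classical.choose_spec hh).2 V k hk
  refine ⟨i, x, hx.trans ?_⟩
  simp

/-- The sheaf of sections locally in the image of a member of the family. -/
def locImageSheaf {X : ToposFin.Sh J} {ι : Type u} {F : ι → ToposFin.Sh J} (π : ∀ i, F i ⟶ X) :
    ToposFin.Sh J :=
  ⟨(locImage π).toFunctor, (isSheaf_iff_isSheaf_of_type _ _).mpr (locImage_isSheaf π)⟩

/-- The inclusion of the sheaf of sections locally in the image. -/
def locImageι {X : ToposFin.Sh J} {ι : Type u} {F : ι → ToposFin.Sh J} (π : ∀ i, F i ⟶ X) :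
    locImageSheaf π ⟶ X := ⟨(locImage π).ι⟩

instance {X : ToposFin.Sh J} {ι : Type u} {F : ι → ToposFin.Sh J} (π : ∀ i, F i ⟶ X) :
    Mono (locImageι π) :=
  (sheafToPresheaf J _).mono_of_mono_map (by
    change Mono (locImage π).ι
    infer_instance)

/-- Members of the family factor through the sheaf of sections locally in the image. -/
def toLocImage {X : ToposFin.Sh J} {ι : Type u} {F : ι → ToposFin.Sh J} (π : ∀ i, F i ⟶ X)
    (i : ι) : F i ⟶ locImageSheaf π :=
  ⟨Subfunctor.lift (G := locImage π) (π i).hom (by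
    rintro U _ ⟨x, rfl⟩
    refine ⟨⊤, J.top_mem _, fun V g _ => ⟨i, (F i).obj.map g.op x, ?_⟩⟩
    exact ConcreteCategory.congr_hom ((π i).hom.naturality g.op) x)⟩

theorem toLocImage_ι {X : ToposFin.Sh J} {ι : Type u} {F : ι → ToposFin.Sh J} (π : ∀ i, F i ⟶ X)
    (i : ι) : toLocImage π i ≫ locImageι π = π i := by
  rfl

/-- A family is jointly epimorphic iff it is jointly surjective. -/
theorem epi_desc_iff {X : ToposFin.Sh J} {ι : Type u} {F : ι → ToposFin.Sh J}
    (π : ∀ i, F i ⟶ X) : Epi (Sigma.desc π) ↔ JS π := by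
  constructor
  · intro h
    have hfac : Sigma.desc (toLocImage π) ≫ locImageι π = Sigma.desc π := by
      ext1 i
      simp [toLocImage_ι]
    have h1 : Epi (locImageι π) := by
      rw [← hfac] at h
      exact epi_of_epi (Sigma.desc (toLocImage π)) (locImageι π)
    have h2 : IsIso (locImageι π) := isIso_of_mono_of_epi _
    intro U s
    let t := (inv (locImageι π)).hom.app (op U) s
    have ht : t.1 = s := by
      have := ConcreteCategory.congr_hom
        (congrArg (fun (m : X ⟶ X) => m.hom.app (op U)) (IsIso.inv_hom_id (locImageι π))) s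
      exact this
    have h3 := t.2
    rw [ht] at h3
    exact h3
  · intro h
    refine ⟨fun {Z} a b hab => ?_⟩
    have hab' : ∀ i, π i ≫ a = π i ≫ b := fun i => by
      have := congrArg (fun m => Sigma.ι F i ≫ m) hab
      simpa using this
    ext U s
    have hZ : Presieve.IsSheaf J Z.obj := (isSheaf_iff_isSheaf_of_type _ _).mp Z.property
    obtain ⟨S, hS, hs⟩ := h U.unop s
    apply (hZ.isSeparated S hS).ext
    intro V g hg
    obtain ⟨i, x, hx⟩ := hs V g hg
    have e1 := ConcreteCategory.congr_hom (a.hom.naturality g.op) s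
    have e2 := ConcreteCategory.congr_hom (b.hom.naturality g.op) s
    have e3 := ConcreteCategory.congr_hom
      (congrArg (fun (m : F i ⟶ Z) => m.hom.app (op V)) (hab' i)) x
    refine e1.symm.trans (Eq.trans ?_ e2)
    refine (congrArg (a.hom.app (op V)) hx.symm).trans (Eq.trans e3 ?_)
    exact congrArg (b.hom.app (op V)) hx

/-- If a jointly surjective family factors through another family, the latter is jointly
surjective. -/
theorem JS.of_factor {X : ToposFin.Sh J} {ι κ : Type u} {F : ι → ToposFin.Sh J}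
    {G : κ → ToposFin.Sh J} {π : ∀ i, F i ⟶ X} {ρ : ∀ k, G k ⟶ X} (h : JS π)
    (hf : ∀ i, ∃ (k : κ) (r : F i ⟶ G k), r ≫ ρ k = π i) : JS ρ := by
  intro U s
  obtain ⟨S, hS, hs⟩ := h U s
  refine ⟨S, hS, fun V g hg => ?_⟩
  obtain ⟨i, x, hx⟩ := hs V g hg
  obtain ⟨k, r, hr⟩ := hf i
  refine ⟨k, r.hom.app (op V) x, ?_⟩
  rw [← hx, ← hr]
  rfl

/-- Composition of jointly surjective families. -/
theorem JS.comp {X : ToposFin.Sh J} {ι : Type u} {F : ι → ToposFin.Sh J} {π : ∀ i, F i ⟶ X}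
    (h : JS π) {κ : ι → Type u} {G : ∀ i, κ i → ToposFin.Sh J} {ρ : ∀ i k, G i k ⟶ F i}
    (h' : ∀ i, JS (ρ i)) : JS (fun p : (Σ i, κ i) => ρ p.1 p.2 ≫ π p.1) := by
  intro U s
  obtain ⟨S, hS, hs⟩ := h U s
  have hx : ∀ (V : C) (g : V ⟶ U) (hg : S g), ∃ T ∈ J V, ∀ (W : C) (k : W ⟶ V), T k →
      ∃ (p : Σ i, κ i) (y : (G p.1 p.2).obj.obj (op W)),
        (ρ p.1 p.2 ≫ π p.1).hom.app (op W) y = X.obj.map (k ≫ g).op s := by
    intro V g hg
    obtain ⟨i, x, hx⟩ := hs V g hg
    obtain ⟨T, hT, ht⟩ := h' i V x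
    refine ⟨T, hT, fun W k hk => ?_⟩
    obtain ⟨j, y, hy⟩ := ht W k hk
    refine ⟨⟨i, j⟩, y, ?_⟩
    change (π i).hom.app (op W) ((ρ i j).hom.app (op W) y) = _
    rw [hy]
    refine (ConcreteCategory.congr_hom ((π i).hom.naturality k.op) x).trans ?_
    change X.obj.map k.op ((π i).hom.app (op V) x) = _
    rw [hx]
    simp
  refine ⟨Sieve.bind S.arrows (fun V g hg => Classical.choose (hx V g hg)),
    J.bind_covering hS (fun V g hg => (Classical.choose_spec (hx V g hg)).1), ?_⟩
  rintro V _ ⟨W, k, h, hh, hk, rfl⟩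
  exact (Classical.choose_spec (hx W h hh)).2 V k hk

/-- Sections of a pullback of sheaves of sets: existence. -/
theorem exists_section_of_isPullback {P X Y Z : ToposFin.Sh J} {a : P ⟶ X} {b : P ⟶ Y}
    {f : X ⟶ Z} {g : Y ⟶ Z} (h : IsPullback a b f g) (U : C) (x : X.obj.obj (op U))
    (y : Y.obj.obj (op U)) (hxy : f.hom.app (op U) x = g.hom.app (op U) y) :
    ∃ p : P.obj.obj (op U), a.hom.app (op U) p = x ∧ b.hom.app (op U) p = y := by
  have h1 := h.map (sheafToPresheaf J (Type u) ⋙ (evaluation Cᵒᵖ (Type u)).obj (op U))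
  exact Types.exists_of_isPullback h1 x y hxy

/-- Sections of a pullback of sheaves of sets: extensionality. -/
theorem section_ext_of_isPullback {P X Y Z : ToposFin.Sh J} {a : P ⟶ X} {b : P ⟶ Y}
    {f : X ⟶ Z} {g : Y ⟶ Z} (h : IsPullback a b f g) (U : C) (p q : P.obj.obj (op U))
    (h₁ : a.hom.app (op U) p = a.hom.app (op U) q)
    (h₂ : b.hom.app (op U) p = b.hom.app (op U) q) : p = q := by
  have h1 := h.map (sheafToPresheaf J (Type u) ⋙ (evaluation Cᵒᵖ (Type u)).obj (op U))
  exact Types.ext_of_isPullback h1 h₁ h₂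

/-- Jointly surjective families are stable under base change. -/
theorem JS.of_isPullback {X Y : ToposFin.Sh J} (f : Y ⟶ X) {ι : Type u}
    {F P : ι → ToposFin.Sh J} {π : ∀ i, F i ⟶ X} (h : JS π) {a : ∀ i, P i ⟶ F i}
    {b : ∀ i, P i ⟶ Y} (hp : ∀ i, IsPullback (a i) (b i) (π i) f) : JS b := by
  intro U s
  obtain ⟨S, hS, hs⟩ := h U (f.hom.app (op U) s)
  refine ⟨S, hS, fun V g hg => ?_⟩
  obtain ⟨i, x, hx⟩ := hs V g hg
  obtain ⟨p, hp1, hp2⟩ := exists_section_of_isPullback (hp i) V x (Y.obj.map g.op s) (by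
    rw [hx]
    exact (ConcreteCategory.congr_hom (f.hom.naturality g.op) s).symm)
  exact ⟨i, p, hp2⟩

/-- The base change of a jointly surjective family. -/
theorem JS.pullback {X Y : ToposFin.Sh J} (f : Y ⟶ X) {ι : Type u}
    {F : ι → ToposFin.Sh J} {π : ∀ i, F i ⟶ X} (h : JS π) :
    JS (fun i => pullback.snd (π i) f) :=
  h.of_isPullback f (fun i => IsPullback.of_hasPullback (π i) f)

/-- Families of sections: pairs of jointly surjective families over a fibre product. -/
theorem JS.prod_over {X X' Y P : ToposFin.Sh J} {f : X ⟶ Y} {f' : X' ⟶ Y} {a : P ⟶ X}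
    {a' : P ⟶ X'} (hP : IsPullback a a' f f') {ι ι' : Type u} {F : ι → ToposFin.Sh J}
    {F' : ι' → ToposFin.Sh J} {π : ∀ i, F i ⟶ X} {π' : ∀ i, F' i ⟶ X'} (h : JS π) (h' : JS π')
    {Q : ι × ι' → ToposFin.Sh J} {q : ∀ k, Q k ⟶ F k.1} {q' : ∀ k, Q k ⟶ F' k.2}
    (hQ : ∀ k, IsPullback (q k) (q' k) (π k.1 ≫ f) (π' k.2 ≫ f')) (m : ∀ k, Q k ⟶ P)
    (hm : ∀ k, m k ≫ a = q k ≫ π k.1) (hm' : ∀ k, m k ≫ a' = q' k ≫ π' k.2) : JS m := by
  intro U s
  obtain ⟨S, hS, hs⟩ := h U (a.hom.app (op U) s)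
  obtain ⟨S', hS', hs'⟩ := h' U (a'.hom.app (op U) s)
  refine ⟨S ⊓ S', J.intersection_covering hS hS', fun V g hg => ?_⟩
  obtain ⟨i, x, hx⟩ := hs V g hg.1
  obtain ⟨i', x', hx'⟩ := hs' V g hg.2
  have hw : f.hom.app (op V) (a.hom.app (op V) (P.obj.map g.op s)) =
      f'.hom.app (op V) (a'.hom.app (op V) (P.obj.map g.op s)) :=
    ConcreteCategory.congr_hom
      (congrArg (fun (m : P ⟶ Y) => m.hom.app (op V)) hP.w) (P.obj.map g.op s)
  have e1 : a.hom.app (op V) (P.obj.map g.op s) = X.obj.map g.op (a.hom.app (op U) s) :=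
    ConcreteCategory.congr_hom (a.hom.naturality g.op) s
  have e2 : a'.hom.app (op V) (P.obj.map g.op s) = X'.obj.map g.op (a'.hom.app (op U) s) :=
    ConcreteCategory.congr_hom (a'.hom.naturality g.op) s
  rw [e1, e2, ← hx, ← hx'] at hw
  obtain ⟨p, hp1, hp2⟩ := exists_section_of_isPullback (hQ (i, i')) V x x' hw
  refine ⟨(i, i'), p, ?_⟩
  apply section_ext_of_isPullback hP V
  · have e3 : a.hom.app (op V) ((m (i, i')).hom.app (op V) p) =
      (π i).hom.app (op V) ((q (i, i')).hom.app (op V) p) :=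
      ConcreteCategory.congr_hom
        (congrArg (fun (m : Q (i, i') ⟶ X) => m.hom.app (op V)) (hm (i, i'))) p
    rw [e3, hp1, hx, e1]
  · have e3 : a'.hom.app (op V) ((m (i, i')).hom.app (op V) p) =
      (π' i').hom.app (op V) ((q' (i, i')).hom.app (op V) p) :=
      ConcreteCategory.congr_hom
        (congrArg (fun (m : Q (i, i') ⟶ X') => m.hom.app (op V)) (hm' (i, i'))) p
    rw [e3, hp2, hx', e2]

/-- Quasi-compactness in terms of jointly surjective families. -/
theorem isQC_iff {X : ToposFin.Sh J} :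
    ToposFin.IsQC X ↔ ∀ (ι : Type u) (F : ι → ToposFin.Sh J) (π : ∀ i, F i ⟶ X), JS π →
      ∃ s : Finset ι, JS (fun i : s => π i) := by
  constructor
  · intro h ι F π hπ
    obtain ⟨s, hs⟩ := h ι F π ((epi_desc_iff π).mpr hπ)
    exact ⟨s, (epi_desc_iff _).mp hs⟩
  · intro h ι F π hπ
    obtain ⟨s, hs⟩ := h ι F π ((epi_desc_iff π).mp hπ)
    exact ⟨s, (epi_desc_iff _).mpr hs⟩

/-- A finitely covered object with quasi-compact pieces is quasi-compact. -/
theorem isQC_of_finite_JS {X : ToposFin.Sh J} {κ : Type u} [Finite κ] {F : κ → ToposFin.Sh J}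
    {π : ∀ k, F k ⟶ X} (hπ : JS π) (hF : ∀ k, ToposFin.IsQC (F k)) : ToposFin.IsQC X := by
  classical
  cases nonempty_fintype κ
  rw [isQC_iff]
  intro ι G ρ hρ
  have h1 : ∀ k, ∃ s : Finset ι, JS (fun i : s => pullback.snd (ρ i) (π k)) := fun k =>
    isQC_iff.mp (hF k) ι _ _ (hρ.pullback (π k))
  choose s hs using h1
  refine ⟨Finset.univ.biUnion s, ?_⟩
  refine (hπ.comp hs).of_factor ?_
  rintro ⟨k, i⟩
  refine ⟨⟨i.1, Finset.mem_biUnion.mpr ⟨k, Finset.mem_univ _, i.2⟩⟩,
    pullback.fst (ρ i) (π k), ?_⟩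
  exact pullback.condition

/-- Quasi-compactness is invariant under isomorphism. -/
theorem isQC_of_iso {X Y : ToposFin.Sh J} (e : X ≅ Y) (h : ToposFin.IsQC X) :
    ToposFin.IsQC Y := by
  refine isQC_of_finite_JS (κ := PUnit) (F := fun _ => X) (π := fun _ => e.hom) ?_
    (fun _ => h)
  intro U s
  refine ⟨⊤, J.top_mem _, fun V g _ => ⟨PUnit.unit, e.inv.hom.app (op V) (Y.obj.map g.op s), ?_⟩⟩
  exact ConcreteCategory.congr_hom
    (congrArg (fun (m : Y ⟶ Y) => m.hom.app (op V)) e.inv_hom_id) (Y.obj.map g.op s)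

/-- A vertex of a pullback square of quasi-compact objects over a quasi-separated object is
quasi-compact. -/
theorem isQC_of_isPullback_of_isQS {P X Y Z : ToposFin.Sh J} {a : P ⟶ X} {b : P ⟶ Y}
    {f : X ⟶ Z} {g : Y ⟶ Z} (h : IsPullback a b f g) (hX : ToposFin.IsQC X)
    (hY : ToposFin.IsQC Y) (hZ : ToposFin.IsQS Z) : ToposFin.IsQC P :=
  isQC_of_iso h.isoPullback.symm (hZ X Y f g hX hY)

/-- A subobject of a quasi-separated object is quasi-separated. -/
theorem isQS_of_mono {X Y : ToposFin.Sh J} (i : X ⟶ Y) [Mono i] (hY : ToposFin.IsQS Y) :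
    ToposFin.IsQS X := by
  intro Z W a b hZ hW
  have h := hY Z W (a ≫ i) (b ≫ i) hZ hW
  exact isQC_of_iso
    ((pullbackIsPullbackOfCompMono a b i).conePointUniqueUpToIso
      (limit.isLimit _)).symm h

end Groth.Agent.Sga4A.JSFam
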