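import Groth.Agent.Sga4A.FinBase
import Groth.Agent.Sga4A.GiraudVK
import Mathlib.Data.Finset.Sum

/-!
# Quasi-compactness and quasi-separatedness of coproducts in a sheaf topos
-/

set_option autoImplicit false

open CategoryTheory CategoryTheory.Limits Opposite

universe w w' u

namespace Groth.Agent.Sga4A.FinCoprod

open ToposFin Groth.Agent.Sga4A.FinBase

variable {C : Type u} [SmallCategory C] {J : GrothendieckTopology C}

/-- An object over which the initial sheaf has a section is covered by the empty sieve. -/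
theorem bot_mem_of_isInitial {I : Sh J} (hI : IsInitial I) {U : C} (x : I.obj.obj (op U)) :
    (⊥ : Sieve U) ∈ J U := by
  have h : LocSurj (ι := PEmpty.{1}) (X := I) (F := fun e => e.elim) (fun e => e.elim) := by
    rw [← jointEpi_iff_locSurj]
    intro Z g h _
    exact hI.hom_ext g h
  refine J.superset_covering ?_ (h U x)
  rintro V f ⟨e, _⟩
  exact e.elim

theorem section_injective_of_mono {X Y : Sh J} (m : X ⟶ Y) [Mono m] {U : Cᵒᵖ}
    (a b : X.obj.obj U) (h : m.hom.app U a = m.hom.app U b) : a = b := by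
  obtain ⟨c, h1, h2⟩ := exists_of_isPullback (IsKernelPair.id_of_mono m) a b h
  exact h1.symm.trans h2

/-- Two morphisms to a common target have disjoint images (in a local sense). -/
def DisjointHoms {A B X : Sh J} (f : A ⟶ X) (g : B ⟶ X) : Prop :=
  ∀ ⦃V : C⦄ (a : A.obj.obj (op V)) (b : B.obj.obj (op V)),
    f.hom.app (op V) a = g.hom.app (op V) b → (⊥ : Sieve V) ∈ J V

theorem disjointHoms_of_isInitial {A B X : Sh J} (f : A ⟶ X) (g : B ⟶ X)
    (h : IsInitial (pullback f g)) : DisjointHoms f g := by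
  intro V a b hab
  obtain ⟨c, -, -⟩ := exists_of_isPullback (IsPullback.of_hasPullback f g) _ _ hab
  exact bot_mem_of_isInitial h c

theorem DisjointHoms.pullback_snd {A B X Y : Sh J} {f : A ⟶ X} {g : B ⟶ X}
    (h : DisjointHoms f g) (k : Y ⟶ X) :
    DisjointHoms (pullback.snd f k) (pullback.snd g k) := by
  intro V a b hab
  refine h ((pullback.fst f k).hom.app _ a) ((pullback.fst g k).hom.app _ b) ?_
  rw [← comp_app_apply, ← comp_app_apply, pullback.condition, pullback.condition,
    comp_app_apply, comp_app_apply, hab]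

theorem disjointHoms_cofan {ι : Type u} {F : ι → Sh J} {c : Cofan F} (hc : IsColimit c)
    {i j : ι} (hij : i ≠ j) : DisjointHoms (c.inj i) (c.inj j) := by
  have := GiraudVK.coproductDisjoint_sheaf F
  exact disjointHoms_of_isInitial _ _
    (IsInitial.ofCoproductDisjointOfIsColimitOfIsLimit hij hc
      (pullback.isLimit (c.inj i) (c.inj j)))

theorem disjointHoms_sigma {ι : Type u} {F : ι → Sh J} {i j : ι} (hij : i ≠ j) :
    DisjointHoms (Sigma.ι F i) (Sigma.ι F j) :=
  disjointHoms_cofan (coproductIsCoproduct F) hij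

theorem mono_sigma_ι {ι : Type u} (F : ι → Sh J) (i : ι) : Mono (Sigma.ι F i) := by
  have := GiraudVK.coproductDisjoint_sheaf F
  exact Mono.ι_of_coproductDisjoint (X := F) i

/-- A monomorphic member of a locally surjective family which is disjoint from all the others
is quasi-compact if the target is. -/
theorem isQC_member {ι : Type u} {X : Sh J} {F : ι → Sh J} (π : ∀ i, F i ⟶ X)
    (hπ : LocSurj π) (hX : IsQC X) (i₀ : ι) [Mono (π i₀)]
    (hdis : ∀ i, i ≠ i₀ → DisjointHoms (π i₀) (π i)) : IsQC (F i₀) := by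
  classical
  rw [isQC_iff]
  intro κ G ρ hρ
  let H : κ ⊕ {i // i ≠ i₀} → Sh J := fun s => Sum.rec (fun k => G k) (fun i => F i) s
  let σ : ∀ s, H s ⟶ X := fun s => Sum.rec (fun k => ρ k ≫ π i₀) (fun i => π i) s
  have hσ : LocSurj σ := by
    intro U x
    refine J.transitive (hπ U x) _ ?_
    rintro V f ⟨i, y, hy⟩
    by_cases hi : i = i₀
    · subst hi
      refine J.superset_covering ?_ (hρ V y)
      rintro W g ⟨k, z, hz⟩
      refine ⟨Sum.inl k, z, ?_⟩
      change (ρ k ≫ π i).hom.app _ z = _
      rw [comp_app_apply, hz, NatTrans.naturality_apply, hy]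
      simp
    · refine J.superset_covering ?_ (J.top_mem V)
      rintro W g -
      refine ⟨Sum.inr ⟨i, hi⟩, (F i).obj.map g.op y, ?_⟩
      change (π i).hom.app _ _ = _
      rw [NatTrans.naturality_apply, hy]
      simp
  obtain ⟨s, hs⟩ := (isQC_iff X).1 hX _ _ _ hσ
  refine ⟨s.toLeft, ?_⟩
  intro U a
  refine J.transitive (hs U ((π i₀).hom.app _ a)) _ ?_
  rintro V f ⟨⟨k | i, hk⟩, y, hy⟩
  · refine J.superset_covering ?_ (J.top_mem V)
    rintro W g -
    refine ⟨⟨k, Finset.mem_toLeft.2 hk⟩, (G k).obj.map g.op y, ?_⟩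
    have h1 : (ρ k).hom.app _ y = (F i₀).obj.map f.op a := by
      apply section_injective_of_mono (π i₀)
      rw [NatTrans.naturality_apply]
      exact hy
    dsimp only
    rw [NatTrans.naturality_apply, h1]
    simp
  · have h1 : (π i₀).hom.app _ ((F i₀).obj.map f.op a) = (π i).hom.app _ y := by
      rw [NatTrans.naturality_apply]
      exact hy.symm
    exact J.superset_covering bot_le (hdis i i.2 _ _ h1)

/-- The members of a quasi-compact coproduct are quasi-compact. -/
theorem isQC_of_isQC_sigma {ι : Type u} {F : ι → Sh J} (h : IsQC (∐ F)) (i : ι) :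
    IsQC (F i) := by
  have := mono_sigma_ι F i
  exact isQC_member _ (locSurj_sigma_ι F) h i fun j hj => disjointHoms_sigma (Ne.symm hj)

/-- For a morphism from a quasi-compact object to a coproduct, the preimages of the summands
are quasi-compact. -/
theorem isQC_pullback_sigma_ι {ι : Type u} {F : ι → Sh J} {Y : Sh J} (a : Y ⟶ ∐ F)
    (hY : IsQC Y) (i : ι) : IsQC (pullback (Sigma.ι F i) a) := by
  have := mono_sigma_ι F i
  exact isQC_member (fun i => pullback.snd (Sigma.ι F i) a)
    ((locSurj_sigma_ι F).pullback_snd a) hY i fun j hj =>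
      (disjointHoms_sigma (Ne.symm hj)).pullback_snd a

theorem isQS_sigma_iff {ι : Type u} (F : ι → Sh J) : IsQS (∐ F) ↔ ∀ i, IsQS (F i) := by
  constructor
  · intro h i
    have := mono_sigma_ι F i
    exact isQS_of_mono (Sigma.ι F i) h
  · intro h Y Z a b hY hZ
    obtain ⟨s, hs⟩ := (isQC_iff Y).1 hY _ _ _ ((locSurj_sigma_ι F).pullback_snd a)
    refine isQC_of_finite _ (hs.pullback_snd (pullback.fst a b)) ?_
    rintro ⟨i, hi⟩
    -- the fibre product `Y_i ×_Y (Y ×_{∐ F} Z)`
    have h1 : IsQC (pullback (pullback.fst (Sigma.ι F i) a) (pullback.fst (Sigma.ι F i) b)) :=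
      h i _ _ _ _ (isQC_pullback_sigma_ι a hY i) (isQC_pullback_sigma_ι b hZ i)
    have sq1 := (IsPullback.of_hasPullback (pullback.fst (Sigma.ι F i) a)
      (pullback.fst (Sigma.ι F i) b)).paste_vert (IsPullback.of_hasPullback (Sigma.ι F i) b)
    have sq2 := (IsPullback.of_hasPullback (pullback.snd (Sigma.ι F i) a)
      (pullback.fst a b)).paste_vert (IsPullback.of_hasPullback a b)
    have e : pullback.fst (Sigma.ι F i) a ≫ Sigma.ι F i = pullback.snd (Sigma.ι F i) a ≫ a :=
      pullback.condition
    rw [e] at sq1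
    exact isQC_of_iso (IsPullback.isoIsPullback _ _ sq1 sq2) h1

end Groth.Agent.Sga4A.FinCoprod
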