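import Groth.Agent.Sga4A.HensClosed
import Groth.Prelude.Def_EtCore
set_option autoImplicit false
universe u v w
open CategoryTheory CategoryTheory.Limits AlgebraicGeometry Opposite
open Groth.Agent.Etbase.CechCartan
namespace Groth.Agent.Sga4A.HensClosed
open Simplicial

section Nerve

variable {C : Type u} [Category.{v} C] {V U : C} (f : V ⟶ U)
  [∀ n : ℕ, HasWidePullback (Arrow.mk f).right (fun _ : Fin (n + 1) => (Arrow.mk f).left)
    fun _ => (Arrow.mk f).hom]

/-- Forget the last point. -/
noncomputable def dropLast (n : ℕ) :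
    (Arrow.mk f).cechNerve _⦋n + 1⦌ ⟶ (Arrow.mk f).cechNerve _⦋n⦌ :=
  mkE f n (bs f (n + 1)) (fun i => pr f (n + 1) i.castSucc) (fun _ => pr_comp f _ _)

lemma isPullback_cechNerve_succ (n : ℕ) :
    IsPullback (dropLast f n) (pr f (n + 1) (Fin.last (n + 1))) (bs f n) f := by
  refine ⟨⟨?_⟩, ⟨PullbackCone.IsLimit.mk _ (fun s => mkE f (n + 1) (s.fst ≫ bs f n)
    (Fin.lastCases s.snd (fun i => s.fst ≫ pr f n i)) ?_) ?_ ?_ ?_⟩⟩
  · rw [dropLast, mkE_bs, pr_comp]
  · intro i
    induction i using Fin.lastCases with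
    | last => simpa using s.condition.symm
    | cast i => simp [pr_comp]
  · intro s
    apply E_hom_ext
    intro i
    rw [dropLast, Category.assoc, mkE_pr, mkE_pr]
    simp
  · intro s
    rw [mkE_pr]
    simp
  · intro s m h1 h2
    apply E_hom_ext
    intro i
    rw [mkE_pr]
    induction i using Fin.lastCases with
    | last => simpa using h2
    | cast i =>
      rw [← h1, dropLast]
      simp

lemma isIso_pr_zero : IsIso (pr f 0 0) := by
  refine ⟨mkE f 0 f (fun _ => 𝟙 _) (by simp), ?_, ?_⟩
  · apply E_hom_ext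
    intro i
    obtain rfl : i = 0 := Fin.ext (by omega)
    rw [Category.assoc, mkE_pr]
    simp
  · simp

end Nerve

section EtNerve

variable {Y : Scheme.{u}}

instance hasWidePullback_etale {V U : Y.Etale} (f : V ⟶ U) (n : ℕ) :
    HasWidePullback (Arrow.mk f).right (fun _ : Fin (n + 1) => (Arrow.mk f).left)
      fun _ => (Arrow.mk f).hom := inferInstance

/-- A pullback square in the small étale site gives a pullback square of schemes. -/
lemma isPullback_left {P V W U : Y.Etale} {a : P ⟶ V} {b : P ⟶ W} {g : V ⟶ U} {k : W ⟶ U}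
    (h : IsPullback a b g k) : IsPullback a.left b.left g.left k.left :=
  (h.map (Scheme.Etale.forget Y)).map (Over.forget Y)

lemma isFinite_left {V U : Y.Etale} (hV : IsFinite V.hom) (hU : IsFinite U.hom) (f : V ⟶ U) :
    IsFinite f.left := by
  have h1 : IsFinite (f.left ≫ U.hom) := by
    have h2 : f.left ≫ U.hom = V.hom := Over.w f.hom
    rw [h2]
    exact hV
  exact IsFinite.of_comp _ U.hom

lemma isFinite_cechNerve {V U : Y.Etale} (hV : IsFinite V.hom) (hU : IsFinite U.hom) (f : V ⟶ U)
    (n : ℕ) : IsFinite ((Arrow.mk f).cechNerve _⦋n⦌).hom := by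
  induction n with
  | zero =>
    have := isIso_pr_zero f
    have h1 : IsIso (pr f 0 0).left :=
      inferInstanceAs (IsIso ((Scheme.Etale.forget Y ⋙ Over.forget Y).map (pr f 0 0)))
    have h2 : (pr f 0 0).left ≫ V.hom = ((Arrow.mk f).cechNerve _⦋0⦌).hom := Over.w (pr f 0 0).hom
    rw [← h2]
    infer_instance
  | succ n ih =>
    have h1 := isPullback_left (isPullback_cechNerve_succ f n)
    have h2 : IsFinite (dropLast f n).left :=
      MorphismProperty.of_isPullback h1.flip (isFinite_left hV hU f)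
    have h3 : (dropLast f n).left ≫ ((Arrow.mk f).cechNerve _⦋n⦌).hom =
      ((Arrow.mk f).cechNerve _⦋n + 1⦌).hom := Over.w (dropLast f n).hom
    rw [← h3]
    infer_instance

end EtNerve

/-- Surjective morphisms of finite étale schemes. -/
def Cov (Y : Scheme.{u}) ⦃V U : Y.Etale⦄ (f : V ⟶ U) : Prop :=
  IsFinite V.hom ∧ IsFinite U.hom ∧ Surjective f.left

lemma Cov.mem {Y : Scheme.{u}} ⦃V U : Y.Etale⦄ (f : V ⟶ U) (h : Cov Y f) :
    Sieve.generateSingleton f ∈ Y.smallEtaleTopology U := by
  rw [Etbase.EtSite.mem_iff]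
  intro x
  obtain ⟨v, hv⟩ := h.2.2.surj x
  exact ⟨V, f, v, ⟨𝟙 _, by simp⟩, hv⟩

/-- Sections of a quotient lift over finite étale coverings. -/
lemma exists_cov_lift (A : Type u) [CommRing A] [HenselianLocalRing A]
    {F G : EtCoh.Ab (Spec (.of A))} (q : F ⟶ G) [Epi q] (U : (Spec (CommRingCat.of A)).Etale)
    (hU : IsFinite U.hom) (s : G.obj.obj (op U)) :
    ∃ (V : (Spec (CommRingCat.of A)).Etale) (f : V ⟶ U), Cov _ f ∧
      ∃ t : F.obj.obj (op V), q.hom.app (op V) t = G.obj.map f.op s := by
  have hq := (Etbase.PushExact.epi_iff q).1 inferInstance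
  choose W g w hw t ht using hq U s
  let p := Etbase.PushExact.sigDesc W g
  have hp : Surjective p.left := by
    constructor
    intro x
    exact ⟨(Etbase.PushExact.sigι W x).left (w x),
      (congrArg (fun k : W x ⟶ _ => k.left (w x)) (Etbase.PushExact.sigι_desc W g x)).trans (hw x)⟩
  obtain ⟨V', f, σ, hσ, hV', hf⟩ := exists_finite_refinement A U (Etbase.PushExact.sig W) p hp
  obtain ⟨tt, htt, -⟩ := Etbase.PushExact.existsUnique_sig W F t
  refine ⟨V', f, ⟨hV', hU, hf⟩, F.obj.map σ.op tt, ?_⟩
  have h1 : q.hom.app _ tt = G.obj.map p.op s := by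
    refine Etbase.EtGlue.ext_of_cover G (Etbase.PushExact.sigι W) (Etbase.PushExact.sig_range W)
      (fun x => ?_)
    have h2 := ConcreteCategory.congr_hom (q.hom.naturality (Etbase.PushExact.sigι W x).op) tt
    have h3 := ConcreteCategory.congr_hom (G.obj.map_comp p.op (Etbase.PushExact.sigι W x).op) s
    rw [← op_comp, Etbase.PushExact.sigι_desc] at h3
    refine h2.symm.trans ?_
    refine Eq.trans ?_ h3
    refine Eq.trans ?_ (ht x)
    exact congrArg _ (htt x)
  have h4 := ConcreteCategory.congr_hom (q.hom.naturality σ.op) tt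
  refine h4.trans ?_
  have h5 := ConcreteCategory.congr_hom (G.obj.map_comp p.op σ.op) s
  rw [← op_comp, hσ] at h5
  refine Eq.trans ?_ h5.symm
  exact congrArg _ h1

theorem H_subsingleton (A : Type u) [CommRing A] [HenselianLocalRing A]
    (F : EtCoh.Ab (Spec (.of A))) (hF : CechAcyc (Cov _) F.obj) (n : ℕ) :
    Subsingleton (EtCoh.H (Spec (.of A)) F (n + 1)) := by
  refine Etbase.SieveCartan.H_subsingleton_of_class (EtCore.topIsTerminal (Spec (.of A)))
    (fun F => CechAcyc (Cov _) F.obj) ?_ n F hF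
  intro F hF
  let j := Injective.ι F
  let q := cokernel.π j
  have hS : (ShortComplex.mk j q (cokernel.condition j)).ShortExact :=
    { exact := ShortComplex.exact_of_g_is_cokernel _ (cokernelIsCokernel j) }
  obtain ⟨h1, h2⟩ := cartan_step.{u + 1, u, u + 1} (fun V => IsFinite V.hom) (Cov (Spec (.of A)))
    (fun V U f hf n => isFinite_cechNerve hf.1 hf.2.1 f n) (fun V U f hf => Cov.mem f hf)
    j q (cokernel.condition j) hS
    (fun U hU s => exists_cov_lift A q U hU s) hF
  refine ⟨Injective.under F, cokernel j, j, q, cokernel.condition j, hS, inferInstance, ?_, h2⟩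
  refine h1 (EtCoh.top _) ?_
  change IsFinite (𝟙 _)
  infer_instance

open CategoryTheory.Abelian

lemma cechAcyc_of_isZero {A : Type u} [CommRing A] [IsLocalRing A]
    (K : EtCoh.Ab (Spec (CommRingCat.of A)))
    (hK : IsZero ((EtCoh.pull (Spec.map (CommRingCat.ofHom (IsLocalRing.residue A)))).obj K)) :
    CechAcyc (Cov _) K.obj := by
  intro V U f hf n x _
  have h1 := isFinite_cechNerve hf.1 hf.2.1 f (n + 1)
  refine ⟨0, ?_⟩
  rw [map_zero]
  exact (sect_eq_zero K hK _ x).symm

/-- On a henselian local scheme, sheaves with zero restriction to the closed point are acyclic. -/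
theorem H_subsingleton_of_isZero {A : Type u} [CommRing A] [HenselianLocalRing A]
    (K : EtCoh.Ab (Spec (CommRingCat.of A)))
    (hK : IsZero ((EtCoh.pull (Spec.map (CommRingCat.ofHom (IsLocalRing.residue A)))).obj K))
    (n : ℕ) : Subsingleton (EtCoh.H (Spec (.of A)) K n) := by
  cases n with
  | zero =>
    have h1 : Subsingleton (K.obj.obj (op (EtCoh.top (Spec (CommRingCat.of A))))) := by
      refine ⟨fun s t => ?_⟩
      have : IsFinite (EtCoh.top (Spec (CommRingCat.of A))).hom := by
        change IsFinite (𝟙 _)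
        infer_instance
      rw [sect_eq_zero K hK _ s, sect_eq_zero K hK _ t]
    exact (Sheaf.H.equiv₀ K (EtCore.topIsTerminal (Spec (.of A)))).injective.subsingleton
  | succ n => exact H_subsingleton A K (cechAcyc_of_isZero K hK) n

/-- A surjection with acyclic kernel induces isomorphisms on cohomology. -/
lemma bijective_of_kernel {C : Type*} [Category C] [Abelian C] [HasExt.{w} C] (Z : C)
    {F G : C} (η : F ⟶ G) [Epi η] (h : ∀ n, Subsingleton (Ext Z (kernel η) n)) (n : ℕ) :
    Function.Bijective (fun e : Ext Z F n => e.comp (Ext.mk₀ η) (add_zero n)) := by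
  have hS : (ShortComplex.mk (kernel.ι η) η (kernel.condition η)).ShortExact :=
    { exact := ShortComplex.exact_of_f_is_kernel _ (kernelIsKernel η) }
  constructor
  · have hinj : ∀ x : Ext Z F n, x.comp (Ext.mk₀ η) (add_zero n) = 0 → x = 0 := by
      intro x hx
      obtain ⟨y, hy⟩ := Ext.covariant_sequence_exact₂ Z hS x hx
      rw [← hy, Subsingleton.elim y 0, Ext.zero_comp]
    exact (injective_iff_map_eq_zero (AddMonoidHom.mk' (fun e : Ext Z F n =>
      e.comp (Ext.mk₀ η) (add_zero n)) (fun _ _ => Ext.add_comp _ _ _ _))).2 hinj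
  · intro y
    obtain ⟨x, hx⟩ := Ext.covariant_sequence_exact₃ Z hS y rfl (Subsingleton.elim _ _)
    exact ⟨x, hx⟩

/-- If `f_*` is exact then the pullback map on cohomology is bijective as soon as the unit is. -/
theorem Hpull_bijective_of_unit {X Y : Scheme.{u}} (f : X ⟶ Y)
    [PreservesFiniteLimits (EtCoh.pull f)] [PreservesFiniteColimits (EtCoh.push f)]
    (F : EtCoh.Ab Y) (n : ℕ)
    (h : Function.Bijective (fun e : EtCoh.H Y F n =>
      e.comp (Ext.mk₀ ((EtCoh.pullPushAdj f).unit.app F)) (add_zero n))) :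
    Function.Bijective (EtCore.Hpull f F n) := by
  let adj := EtCoh.pullPushAdj f
  let α : EtCoh.H Y F n → Ext ((EtCoh.pull f).obj (EtCoh.const Y ℤ)) ((EtCoh.pull f).obj F) n :=
    fun e => e.mapExactFunctor (EtCoh.pull f)
  have h1 : Function.Bijective α := by
    have h2 : ∀ e, Etcore.ExtAdj.extAdj adj _ _ n (α e) =
        e.comp (Ext.mk₀ ((EtCoh.pullPushAdj f).unit.app F)) (add_zero n) := by
      intro e
      rw [Etcore.ExtAdj.extAdj_apply]
      exact (Etcore.ExtAdj.unit_nat adj e).symm
    have h3 : Function.Bijective (fun e => Etcore.ExtAdj.extAdj adj _ _ n (α e)) := by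
      simpa only [h2] using h
    exact (Function.Bijective.of_comp_iff' (Etcore.ExtAdj.extAdj adj _ _ n).bijective α).1 h3
  let β : Ext ((EtCoh.pull f).obj (EtCoh.const Y ℤ)) ((EtCoh.pull f).obj F) n →
      EtCoh.H X ((EtCoh.pull f).obj F) n :=
    fun e => (Ext.mk₀ (EtCore.pullConst f ℤ).inv).comp e (zero_add n)
  have h4 : Function.Bijective β := by
    refine Function.bijective_iff_has_inverse.2
      ⟨fun e => (Ext.mk₀ (EtCore.pullConst f ℤ).hom).comp e (zero_add n), fun e => ?_, fun e => ?_⟩
    · simp only [β]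
      rw [← Ext.comp_assoc_of_second_deg_zero, Ext.mk₀_comp_mk₀, Iso.hom_inv_id, Ext.mk₀_id_comp]
    · simp only [β]
      rw [← Ext.comp_assoc_of_second_deg_zero, Ext.mk₀_comp_mk₀, Iso.inv_hom_id, Ext.mk₀_id_comp]
  exact h4.comp h1

/-- **SGA 4 VIII 8.6** -/
theorem Hpull_bijective (A : Type u) [CommRing A] [HenselianLocalRing A]
    (F : EtCoh.Ab (Spec (CommRingCat.of A)))
    [PreservesFiniteLimits (EtCoh.pull
      (Spec.map (CommRingCat.ofHom (IsLocalRing.residue A))))] (n : ℕ) :
    Function.Bijective (EtCore.Hpull (Spec.map (CommRingCat.ofHom (IsLocalRing.residue A))) F n) := by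
  let i : Spec (.of (IsLocalRing.ResidueField A)) ⟶ Spec (.of A) :=
    Spec.map (CommRingCat.ofHom (IsLocalRing.residue A))
  have hi : IsClosedImmersion i := IsClosedImmersion.spec_of_surjective _ IsLocalRing.residue_surjective
  have h1 : PreservesFiniteColimits (EtCoh.push i) := EtSplit.preservesFiniteColimits_push i
  have h0 : PreservesFiniteLimits (EtCoh.pull i) :=
    (inferInstance : PreservesFiniteLimits (EtCoh.pull
      (Spec.map (CommRingCat.ofHom (IsLocalRing.residue A)))))
  let η := (EtCoh.pullPushAdj i).unit.app F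
  have h2 : Epi η := EtpbcA.ClosedEpi.epi_unit i F
  have h3 : IsIso ((EtCoh.pull i).map η) := EtpbcA.ClosedEpi.isIso_pull_unit i F
  have h4 : IsZero ((EtCoh.pull i).obj (kernel η)) := by
    refine IsZero.of_iso ?_ (PreservesKernel.iso (EtCoh.pull i) η)
    exact isZero_kernel_of_mono _
  exact Hpull_bijective_of_unit i F n
    (bijective_of_kernel (EtCoh.const (Spec (.of A)) ℤ) η (fun n => H_subsingleton_of_isZero _ h4 n) n)

end Groth.Agent.Sga4A.HensClosed
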