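import Groth.Agent.Sga4A.DiscAlg
import Mathlib.AlgebraicGeometry.Morphisms.Etale
import Mathlib.AlgebraicGeometry.Morphisms.UniversallyOpen
import Mathlib.AlgebraicGeometry.Morphisms.QuasiFinite
import Mathlib.AlgebraicGeometry.Artinian
import Mathlib.AlgebraicGeometry.PullbackCarrier
import Mathlib.RingTheory.Unramified.LocalStructure

/-!
# Geometry of morphisms to a discrete scheme

* `exists_etale_spec`: clopen neighbourhoods of the diagonal in `Spec K ×_{Spec R} Spec K`.
-/

set_option autoImplicit false
universe u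
open CategoryTheory Limits AlgebraicGeometry

namespace Groth.Agent.Sga4A.DiscGeom

theorem exists_etale_spec {R K : Type u} [CommRing R] [Field K] [Algebra R K]
    (hker : (RingHom.ker (algebraMap R K)).IsMaximal)
    (W : Set ↥(pullback (Spec.map (CommRingCat.ofHom (algebraMap R K))) (Spec.map (CommRingCat.ofHom (algebraMap R K)))))
    (hW : IsClopen W)
    (hdiag : Set.range (pullback.diagonal (Spec.map (CommRingCat.ofHom (algebraMap R K)))) ⊆ W) :
    ∃ (U : Scheme.{u}) (u : U ⟶ Spec (.of R)) (p : Spec (.of K) ⟶ U), Etale u ∧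
      p ≫ u = Spec.map (CommRingCat.ofHom (algebraMap R K)) ∧
      ∀ (Z : Scheme.{u}) (a b : Z ⟶ Spec (.of K)) (h : a ≫ p = b ≫ p)
        (h' : a ≫ Spec.map (CommRingCat.ofHom (algebraMap R K)) = b ≫ Spec.map (CommRingCat.ofHom (algebraMap R K)))
        (z : Z), pullback.lift a b h' z ∈ W := by
  let i := pullbackSpecIso R K K
  let W' : Set (PrimeSpectrum (TensorProduct R K K)) := i.inv ⁻¹' W
  have hW' : IsClopen W' := hW.preimage i.inv.continuous
  obtain ⟨e, he, hWe⟩ := PrimeSpectrum.isClopen_iff.1 hW'
  have h1 : Algebra.TensorProduct.lmul' R e = 1 := by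
    let pt : Spec (.of K) := (⊥ : PrimeSpectrum K)
    have h2 : (Spec.map (CommRingCat.ofHom (Algebra.TensorProduct.lmul' R : TensorProduct R K K →ₐ[R] K).toRingHom)) pt ∈ W' := by
      change i.inv _ ∈ W
      rw [← Scheme.Hom.comp_apply, ← diagonal_SpecMap]
      exact hdiag ⟨pt, rfl⟩
    rw [hWe] at h2
    have h3 : Algebra.TensorProduct.lmul' R e ∉ (⊥ : Ideal K) := h2
    have h4 : IsIdempotentElem (Algebra.TensorProduct.lmul' R e) := he.map _
    rcases (IsIdempotentElem.iff_eq_zero_or_one.1 h4) with h5 | h5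
    · exact absurd h5 h3
    · exact h5
  obtain ⟨S, _, _, _, _, hS, hSe⟩ := DiscAlg.exists_etale_of_idempotent hker e he h1
  refine ⟨Spec (.of S), Spec.map (CommRingCat.ofHom (algebraMap R S)), Spec.map (CommRingCat.ofHom (algebraMap S K)),
    ?_, ?_, ?_⟩
  · have : (CommRingCat.ofHom (algebraMap R S)).hom.Etale := RingHom.etale_algebraMap.2 hS
    exact (HasRingHomProperty.Spec_iff (P := @Etale)).2 this
  · rw [← Spec.map_comp, ← CommRingCat.ofHom_comp, ← IsScalarTower.algebraMap_eq]
  · intro Z a b h h' z
    have key : pullback.lift a b h' ≫ i.hom = pullback.lift a b h ≫ (pullbackSpecIso S K K).hom ≫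
        Spec.map (CommRingCat.ofHom (Algebra.TensorProduct.mapOfCompatibleSMul S R R K K).toRingHom) := by
      rw [← cancel_mono i.inv]
      apply pullback.hom_ext
      · have h8 : CommRingCat.ofHom (Algebra.TensorProduct.includeLeftRingHom : K →+* TensorProduct R K K) ≫
            CommRingCat.ofHom (Algebra.TensorProduct.mapOfCompatibleSMul S R R K K).toRingHom =
            CommRingCat.ofHom (Algebra.TensorProduct.includeLeftRingHom : K →+* TensorProduct S K K) := by
          ext x
          rfl
        simp only [i, Category.assoc, Iso.hom_inv_id, Category.comp_id, pullback.lift_fst, pullbackSpecIso_inv_fst,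
          ← Spec.map_comp]
        refine Eq.trans ?_ (congrArg (fun f => pullback.lift a b h ≫ (pullbackSpecIso S K K).hom ≫ Spec.map f) h8).symm
        rw [pullbackSpecIso_hom_fst, pullback.lift_fst]
      · have h8 : CommRingCat.ofHom (Algebra.TensorProduct.includeRight : K →ₐ[R] TensorProduct R K K).toRingHom ≫
            CommRingCat.ofHom (Algebra.TensorProduct.mapOfCompatibleSMul S R R K K).toRingHom =
            CommRingCat.ofHom (Algebra.TensorProduct.includeRight : K →ₐ[S] TensorProduct S K K).toRingHom := by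
          ext x
          rfl
        simp only [i, Category.assoc, Iso.hom_inv_id, Category.comp_id, pullback.lift_snd, pullbackSpecIso_inv_snd,
          ← Spec.map_comp]
        refine Eq.trans ?_ (congrArg (fun f => pullback.lift a b h ≫ (pullbackSpecIso S K K).hom ≫ Spec.map f) h8).symm
        exact ((congrArg (fun f => pullback.lift a b h ≫ f) (pullbackSpecIso_hom_snd S K K)).trans
          (pullback.lift_snd _ _ _)).symm
    have hz : (pullback.lift a b h' ≫ i.hom) z ∈ W' := by
      rw [key, hWe]
      intro h9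
      have h10 : (1 : TensorProduct S K K) ∈
          (((pullback.lift a b h ≫ (pullbackSpecIso S K K).hom) z : PrimeSpectrum (TensorProduct S K K))).asIdeal := by
        rw [← hSe]
        exact h9
      exact (Ideal.ne_top_iff_one _).1 (PrimeSpectrum.isPrime _).ne_top h10
    change i.inv _ ∈ W at hz
    rwa [← Scheme.Hom.comp_apply, Category.assoc, Iso.hom_inv_id, Category.comp_id] at hz

/-- étale morphisms are locally quasi-finite -/
theorem locallyQuasiFinite_of_etale {U X : Scheme.{u}} (u : U ⟶ X) [Etale u] :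
    LocallyQuasiFinite u := by
  rw [HasRingHomProperty.iff_appLE (P := @LocallyQuasiFinite)]
  intro V W e
  have h := HasRingHomProperty.appLE (P := @Etale) u ‹_› V W e
  algebraize [(u.appLE V W e).hom]
  have : Algebra.FormallyUnramified Γ(X, V) Γ(U, W) := inferInstance
  have : Algebra.EssFiniteType Γ(X, V) Γ(U, W) := inferInstance
  have : Algebra.QuasiFinite Γ(X, V) Γ(U, W) := inferInstance
  exact this

/-- A scheme étale over a discrete scheme is discrete. -/
theorem discreteTopology_of_etale {U X : Scheme.{u}} (u : U ⟶ X) [Etale u] [DiscreteTopology X] :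
    DiscreteTopology U := by
  have : LocallyQuasiFinite u := locallyQuasiFinite_of_etale u
  have h1 : _root_.IsDiscrete (Set.univ : Set X) := isDiscrete_univ_iff.2 inferInstance
  have h2 := u.isDiscrete_preimage h1
  rw [Set.preimage_univ] at h2
  exact isDiscrete_univ_iff.1 h2

/-- Universal openness can be checked after base change along a universally closed surjective morphism. -/
theorem universallyOpen_of_base_change {X' X X₀ : Scheme.{u}} (f : X' ⟶ X) (i : X₀ ⟶ X) [Surjective i]
    [UniversallyClosed i] (h : UniversallyOpen (pullback.snd f i)) : UniversallyOpen f := by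
  rw [universallyOpen_iff]
  intro Y' Y g' g f' sq V hV
  let j : pullback g i ⟶ Y := pullback.fst g i
  have hj : Topology.IsQuotientMap j :=
    (pullback.fst g i).isClosedMap.isQuotientMap (pullback.fst g i).continuous (pullback.fst g i).surjective
  rw [← hj.isOpen_preimage]
  have sq2 : IsPullback (pullback.fst f' j) (pullback.snd f' j) f' j := IsPullback.of_hasPullback f' j
  have h1 := Scheme.image_preimage_eq_of_isPullback sq2 V
  change IsOpen (j.base ⁻¹' f'.base '' V)
  rw [← h1]
  have sq3 : IsPullback (pullback.snd f' j) (pullback.fst f' j ≫ g') (j ≫ g) f := sq2.flip.paste_vert sq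
  have e : j ≫ g = pullback.snd g i ≫ i := pullback.condition
  rw [e] at sq3
  have sq4 : IsPullback (pullback.snd f i) (pullback.fst f i) i f := (IsPullback.of_hasPullback f i).flip
  have sq5 := IsPullback.of_bot' sq3 sq4
  have h2 : UniversallyOpen (pullback.snd f' j) :=
    MorphismProperty.of_isPullback sq5.flip h
  exact (pullback.snd f' j).isOpenMap _ (hV.preimage (pullback.fst f' j).continuous)

/-- Every morphism to a discrete scheme is universally open. -/
theorem universallyOpen_of_discrete {X' X : Scheme.{u}} (f : X' ⟶ X) [DiscreteTopology X] :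
    UniversallyOpen f := by
  wlog hX : Subsingleton X generalizing X' X
  · let U : X → X.Opens := fun x => ⟨{x}, isOpen_discrete _⟩
    have hU : ⨆ x, U x = ⊤ := by
      apply TopologicalSpace.Opens.ext
      ext x
      simp [U]
    rw [IsZariskiLocalAtTarget.iff_of_iSup_eq_top U hU (P := @UniversallyOpen)]
    intro x
    have hs : Subsingleton (U x) := by
      constructor
      rintro ⟨a, rfl⟩ ⟨b, rfl⟩
      rfl
    exact this (f ∣_ U x) hs
  have : Finite X := inferInstance
  have : IsAffine X := inferInstance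
  by_cases hne : Nonempty X
  · obtain ⟨x⟩ := hne
    let i := X.fromSpecResidueField x
    have hi : Surjective i := ⟨fun y => by
      have := Subsingleton.elim y x
      subst this
      exact ⟨(⊥ : PrimeSpectrum _), X.fromSpecResidueField_apply _ _⟩⟩
    have : IsClosedImmersion i := .of_isPreimmersion _ (isClosed_discrete _)
    refine universallyOpen_of_base_change f i ?_
    have : Subsingleton (Spec (X.residueField x)) := inferInstance
    infer_instance
  · have : IsEmpty X := not_nonempty_iff.1 hne
    have : IsIso f := isIso_of_isEmpty f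
    infer_instance

/-- Auxiliary version of `exists_etale_of_clopen`. -/
theorem exists_etale_of_clopen_aux {X : Scheme.{u}} {R K : Type u} [CommRing R] [Field K] [Algebra R K]
    (hker : (RingHom.ker (algebraMap R K)).IsMaximal) (ι : Spec (.of R) ⟶ X) [Etale ι]
    (p : Spec (.of K) ⟶ X) (hp : Spec.map (CommRingCat.ofHom (algebraMap R K)) ≫ ι = p)
    (W : Set ↥(pullback p p)) (hW : IsClopen W) (hdiag : Set.range (pullback.diagonal p) ⊆ W) :
    ∃ (U : Scheme.{u}) (u : U ⟶ X) (q : Spec (.of K) ⟶ U), Etale u ∧ q ≫ u = p ∧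
      ∀ (Z : Scheme.{u}) (a b : Z ⟶ Spec (.of K)) (_ : a ≫ q = b ≫ q) (h' : a ≫ p = b ≫ p)
        (z : Z), pullback.lift a b h' z ∈ W := by
  set p' : Spec (.of K) ⟶ Spec (.of R) := Spec.map (CommRingCat.ofHom (algebraMap R K)) with hp'
  have hcomp : ∀ {Z : Scheme.{u}} {a b : Z ⟶ Spec (.of K)}, a ≫ p' = b ≫ p' → a ≫ p = b ≫ p := by
    intro Z a b hab
    rw [← hp, reassoc_of% hab]
  let m : pullback p' p' ⟶ pullback p p :=
    pullback.lift (pullback.fst p' p') (pullback.snd p' p') (hcomp pullback.condition)
  have hm : ∀ {Z : Scheme.{u}} {a b : Z ⟶ Spec (.of K)} (hab : a ≫ p' = b ≫ p'),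
      pullback.lift a b hab ≫ m = pullback.lift a b (hcomp hab) := by
    intro Z a b hab
    apply pullback.hom_ext
    · rw [Category.assoc, pullback.lift_fst, pullback.lift_fst, pullback.lift_fst]
    · rw [Category.assoc, pullback.lift_snd, pullback.lift_snd, pullback.lift_snd]
  obtain ⟨U₀, u₀, q₀, hu₀, hq₀, H⟩ := exists_etale_spec hker (m ⁻¹' W) (hW.preimage m.continuous) (by
    rintro _ ⟨y, rfl⟩
    change m _ ∈ W
    rw [← Scheme.Hom.comp_apply]
    have : pullback.diagonal p' ≫ m = pullback.diagonal p := by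
      apply pullback.hom_ext
      · rw [Category.assoc, pullback.lift_fst, pullback.diagonal_fst, pullback.diagonal_fst]
      · rw [Category.assoc, pullback.lift_snd, pullback.diagonal_snd, pullback.diagonal_snd]
    change (pullback.diagonal p' ≫ m) y ∈ W
    rw [this]
    exact hdiag ⟨y, rfl⟩)
  refine ⟨U₀, u₀ ≫ ι, q₀, inferInstance, ?_, ?_⟩
  · rw [reassoc_of% hq₀]
    exact hp
  · intro Z a b hab h' z
    have h2 : a ≫ p' = b ≫ p' := by
      rw [hp', ← hq₀, reassoc_of% hab]
    have h3 := H Z a b hab h2 z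
    change m _ ∈ W at h3
    rw [← Scheme.Hom.comp_apply, hm h2] at h3
    exact h3

/-- Let `p : Spec K ⟶ X` be a point of a discrete scheme and `W` a clopen subset of `Spec K ×_X Spec K` containing
the diagonal. Then `p` factors through an étale `U ⟶ X` such that `Spec K ⟶ U` is surjective and
`Spec K ×_U Spec K` lands in `W`. -/
theorem exists_etale_of_clopen {X : Scheme.{u}} [DiscreteTopology X] {K : Type u} [Field K]
    (p : Spec (.of K) ⟶ X) (W : Set ↥(pullback p p)) (hW : IsClopen W)
    (hdiag : Set.range (pullback.diagonal p) ⊆ W) :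
    ∃ (U : Scheme.{u}) (u : U ⟶ X) (q : Spec (.of K) ⟶ U), Etale u ∧ q ≫ u = p ∧ Surjective q ∧
      ∀ (Z : Scheme.{u}) (a b : Z ⟶ Spec (.of K)) (_ : a ≫ q = b ≫ q) (h' : a ≫ p = b ≫ p)
        (z : Z), pullback.lift a b h' z ∈ W := by
  -- reduction to the case where `X` is affine with one point
  let pt : Spec (.of K) := (⊥ : PrimeSpectrum K)
  have hpt : ∀ y : Spec (.of K), y = pt := fun y => Subsingleton.elim _ _
  let V : X.Opens := ⟨{p pt}, isOpen_discrete _⟩
  have hVs : Subsingleton V := by
    constructor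
    rintro ⟨a, ha⟩ ⟨b, hb⟩
    apply Subtype.ext
    exact (Set.mem_singleton_iff.1 ha).trans (Set.mem_singleton_iff.1 hb).symm
  have hVd : DiscreteTopology V := inferInstance
  have hVf : Finite V := inferInstance
  have hVa : IsAffine V := inferInstance
  let p₁ : Spec (.of K) ⟶ V := IsOpenImmersion.lift V.ι p (by
    rw [Scheme.Opens.range_ι]
    rintro _ ⟨y, rfl⟩
    rw [hpt y]
    rfl)
  have hp₁ : p₁ ≫ V.ι = p := IsOpenImmersion.lift_fac _ _ _
  let R := Γ(V, ⊤)
  obtain ⟨φ, hφ⟩ := Spec.map_surjective (p₁ ≫ (V : Scheme).isoSpec.hom)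
  algebraize [φ.hom]
  let ι : Spec (.of R) ⟶ X := (V : Scheme).isoSpec.inv ≫ V.ι
  have hι : Spec.map (CommRingCat.ofHom (algebraMap R K)) ≫ ι = p := by
    have hφ' : Spec.map (CommRingCat.ofHom (algebraMap R K)) = p₁ ≫ (V : Scheme).isoSpec.hom := hφ
    rw [hφ']
    simp only [ι, Category.assoc, Iso.hom_inv_id_assoc]
    exact hp₁
  have hR : Subsingleton (PrimeSpectrum R) := (V : Scheme).isoSpec.inv.homeomorph.subsingleton
  have hker : (RingHom.ker (algebraMap R K)).IsMaximal := by
    have hprime : (RingHom.ker (algebraMap R K)).IsPrime := RingHom.ker_isPrime _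
    obtain ⟨m, hm, hle⟩ := Ideal.exists_le_maximal _ hprime.ne_top
    have := congrArg PrimeSpectrum.asIdeal (Subsingleton.elim (⟨_, hprime⟩ : PrimeSpectrum R) ⟨m, hm.isPrime⟩)
    change RingHom.ker (algebraMap R K) = m at this
    rw [this]
    exact hm
  have hι' : Etale ι := inferInstance
  obtain ⟨U₀, u₀, q₀, hu₀, hq₀, H⟩ := exists_etale_of_clopen_aux hker ι p hι W hW hdiag
  have hd₀ : DiscreteTopology U₀ := discreteTopology_of_etale u₀
  -- shrink `U₀`
  let U : U₀.Opens := ⟨{q₀ pt}, isOpen_discrete _⟩
  let q : Spec (.of K) ⟶ U := IsOpenImmersion.lift U.ι q₀ (by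
    rw [Scheme.Opens.range_ι]
    rintro _ ⟨y, rfl⟩
    rw [hpt y]
    rfl)
  have hq : q ≫ U.ι = q₀ := IsOpenImmersion.lift_fac _ _ _
  refine ⟨U, U.ι ≫ u₀, q, inferInstance, ?_, ?_, ?_⟩
  · rw [reassoc_of% hq]
    exact hq₀
  · constructor
    rintro ⟨y, hy⟩
    refine ⟨pt, ?_⟩
    apply U.ι.injective
    rw [← Scheme.Hom.comp_apply, hq]
    exact (Set.mem_singleton_iff.1 hy).symm
  · intro Z a b hab h' z
    have h1 : a ≫ q₀ = b ≫ q₀ := by
      rw [← hq, reassoc_of% hab]
    exact H Z a b h1 h' z

end Groth.Agent.Sga4A.DiscGeom
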