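import Groth.Agent.Sga4A.EtFam
import Groth.Agent.Sga4A.DiscGeom

/-!
# Transport of families of germs by a descent datum; effectivity from a family on an étale-like cover
-/

set_option autoImplicit false
universe u

open CategoryTheory CategoryTheory.Limits AlgebraicGeometry Opposite

namespace Groth.Agent.Sga4A.EtStalk

open EtDesc

section AgreeClosed

variable {X Y T : Scheme.{u}} {F : Sh X}

/-- If the structure map factors through a discrete scheme, the agreement locus of two families is clopen. -/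
theorem Fam.isClosed_Agree_of_discrete [DiscreteTopology T] (r : Y ⟶ T) (g : T ⟶ X)
    (γ δ : Fam F (r ≫ g)) : IsClosed (Fam.Agree γ δ) := by
  rw [← isOpen_compl_iff, isOpen_iff_forall_mem_open]
  intro y hy
  obtain ⟨V, j, hj, v, hv, U, k, hk, s, t, hs, ht⟩ := Fam.rep₂ γ δ y
  have hk' : k ≫ U.hom = (j ≫ r) ≫ g := by rw [hk, Category.assoc]
  let k' : V ⟶ ((EtCoh.bc g).obj U).left := pullback.lift k (j ≫ r) hk'
  have hkf : k' ≫ bcFst g U = k := pullback.lift_fst _ _ _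
  have hE : Etale ((EtCoh.bc g).obj U).hom := inferInstance
  have hdisc : DiscreteTopology ((EtCoh.bc g).obj U).left :=
    DiscGeom.discreteTopology_of_etale (X := T) ((EtCoh.bc g).obj U).hom
  have k₁ : ∀ {Ω : Type u} [Field Ω] (m : Spec (.of Ω) ⟶ V),
      (m ≫ k) ≫ U.hom = (m ≫ j) ≫ r ≫ g :=
    fun m => by rw [Category.assoc, hk, Category.assoc]
  have key : ∀ v' : V, k v' ∈ agree F s t ↔ j v' ∈ Fam.Agree γ δ := by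
    intro v'
    obtain ⟨Ω, _, _, m, rfl⟩ := exists_geomPoint V v'
    have := Fam.mem_agree_iff γ δ (m ≫ j) _ rfl
    rw [hs m _ rfl (k₁ m), ht m _ rfl (k₁ m), ← mem_agree_iff'] at this
    exact this.symm
  have hkk : ∀ v' : V, bcFst g U (k' v') = k v' := fun v' => by
    rw [← Scheme.Hom.comp_apply, hkf]
  refine ⟨j '' (k' ⁻¹' (bcFst g U ⁻¹' agree F s t)ᶜ), ?_, ?_, ?_⟩
  · rintro _ ⟨v', hv', rfl⟩ h
    exact hv' (by rw [Set.mem_preimage, hkk]; exact (key v').2 h)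
  · exact (AlgebraicGeometry.Scheme.Hom.isOpenMap j) _
      ((isOpen_discrete _).preimage k'.continuous)
  · refine ⟨v, fun h => hy ?_, hv⟩
    rw [Set.mem_preimage, hkk] at h
    rw [← hv]
    exact (key v).1 h

end AgreeClosed

section Tr

variable {X' X Y : Scheme.{u}} (f : X' ⟶ X) (F' : Sh X')
  (φ : (pullSh (pullback.fst f f)).obj F' ≅ (pullSh (pullback.snd f f)).obj F')

/-- Transport of a family of germs by the descent datum. -/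
theorem exists_trFam {g₁ : Y ⟶ X'} (γ : Fam F' g₁) (g₂ : Y ⟶ X') (e : g₁ ≫ f = g₂ ≫ f) :
    ∃ δ : Fam F' g₂, ∀ {Ω : Type u} [Field Ω] [IsSepClosed Ω] (η : Spec (.of Ω) ⟶ Y)
      (ξ₁ ξ₂ : Spec (.of Ω) ⟶ X') (h₁ : η ≫ g₁ = ξ₁) (h₂ : η ≫ g₂ = ξ₂) (h : ξ₁ ≫ f = ξ₂ ≫ f),
      δ.val η ξ₂ h₂ = tr f F' φ ξ₁ ξ₂ h (γ.val η ξ₁ h₁) := by
  obtain ⟨p, hp₁, hp₂⟩ : ∃ p : Y ⟶ pullback f f, p ≫ pullback.fst f f = g₁ ∧
    p ≫ pullback.snd f f = g₂ := ⟨pullback.lift g₁ g₂ e, pullback.lift_fst _ _ _, pullback.lift_snd _ _ _⟩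
  subst hp₁ hp₂
  refine ⟨(γ.toPull.map φ.hom).fromPull, ?_⟩
  intro Ω _ _ η ξ₁ ξ₂ h₁ h₂ h
  have e₁ : (η ≫ p) ≫ pullback.fst f f = ξ₁ := by rw [Category.assoc, h₁]
  have e₂ : (η ≫ p) ≫ pullback.snd f f = ξ₂ := by rw [Category.assoc, h₂]
  rw [Fam.fromPull_val _ η (η ≫ p) ξ₂ rfl e₂ h₂, Fam.map_val, Equiv.symm_apply_eq,
    Fam.toPull_val γ η (η ≫ p) ξ₁ rfl e₁ h₁, pullStk'_tr f F' φ (η ≫ p) ξ₁ ξ₂ h e₁ e₂]

end Tr

section D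

variable {X' X : Scheme.{u}} (f : X' ⟶ X) (F' : Sh X')
  (φ : (pullSh (pullback.fst f f)).obj F' ≅ (pullSh (pullback.snd f f)).obj F')

/-- Effectivity from a family of germs along a cover of an étale neighbourhood. -/
theorem exists_compat_of_fam (hφ : IsCocycle F' φ) {T : Scheme.{u}} (U : X.Etale) (q : T ⟶ U.left)
    [UniversallyOpen q] [Surjective q] (g : T ⟶ X') (hg : g ≫ f = q ≫ U.hom) (γ : Fam F' g)
    (hγ : ∀ (Ω : Type u) [Field Ω] [IsSepClosed Ω] (z₁ z₂ : Spec (.of Ω) ⟶ T)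
      (_ : z₁ ≫ q = z₂ ≫ q) (ξ₁ ξ₂ : Spec (.of Ω) ⟶ X') (h₁ : z₁ ≫ g = ξ₁) (h₂ : z₂ ≫ g = ξ₂)
      (e : ξ₁ ≫ f = ξ₂ ≫ f), tr f F' φ ξ₁ ξ₂ e (γ.val z₁ ξ₁ h₁) = γ.val z₂ ξ₂ h₂) :
    ∃ s : sect F' ((EtCoh.bc f).obj U), Compat f F' φ s ∧
      ∀ {Ω : Type u} [Field Ω] [IsSepClosed Ω] (z : Spec (.of Ω) ⟶ T)
        (m : Spec (.of Ω) ⟶ ((EtCoh.bc f).obj U).left) (_ : m ≫ bcFst f U = z ≫ q)
        (ξ₁ ξ₂ : Spec (.of Ω) ⟶ X') (h₁ : z ≫ g = ξ₁) (h₂ : m ≫ ((EtCoh.bc f).obj U).hom = ξ₂)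
        (e : ξ₁ ≫ f = ξ₂ ≫ f), germ F' m h₂ s = tr f F' φ ξ₁ ξ₂ e (γ.val z ξ₁ h₁) := by
  let Y := ((EtCoh.bc f).obj U).left
  let Z := pullback q (bcFst f U)
  let pT : Z ⟶ T := pullback.fst _ _
  let pY : Z ⟶ Y := pullback.snd _ _
  have hpq : pT ≫ q = pY ≫ bcFst f U := pullback.condition
  have he : (pT ≫ g) ≫ f = (pY ≫ ((EtCoh.bc f).obj U).hom) ≫ f := by
    rw [Category.assoc, hg, reassoc_of% hpq, bc_condition, Category.assoc]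
  obtain ⟨δ, hδ⟩ := exists_trFam f F' φ (γ.pull pT) (pY ≫ ((EtCoh.bc f).obj U).hom) he
  have hq : EtSubmersive pY := etSubmersive_of_universallyOpen pY
  have hgm : ∀ {Ω : Type u} [Field Ω] (z : Spec (.of Ω) ⟶ T) (m : Spec (.of Ω) ⟶ Y) (_ : m ≫ bcFst f U = z ≫ q),
      (z ≫ g) ≫ f = (m ≫ ((EtCoh.bc f).obj U).hom) ≫ f := by
    intro Ω _ z m h
    rw [Category.assoc, hg, ← reassoc_of% h, bc_condition, Category.assoc]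
  obtain ⟨ε, hε⟩ := Fam.exists_descend hq δ (by
    intro Ω _ _ z₁ z₂ hz ξ h₁ h₂
    have k₁ : (z₁ ≫ pT ≫ g) ≫ f = ξ ≫ f := by
      rw [← h₁]; simp only [Category.assoc] at he ⊢; rw [he]
    have k₂ : (z₂ ≫ pT ≫ g) ≫ f = ξ ≫ f := by
      rw [← h₂]; simp only [Category.assoc] at he ⊢; rw [he]
    rw [hδ z₁ _ ξ rfl h₁ k₁, hδ z₂ _ ξ rfl h₂ k₂]
    have e₃ : (z₁ ≫ pT) ≫ q = (z₂ ≫ pT) ≫ q := by
      rw [Category.assoc, hpq, reassoc_of% hz, Category.assoc, hpq]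
    rw [Fam.pull_val γ pT z₂ _ rfl (Category.assoc _ _ _), Fam.pull_val γ pT z₁ _ rfl (Category.assoc _ _ _),
      ← hγ Ω (z₁ ≫ pT) (z₂ ≫ pT) e₃ (z₁ ≫ pT ≫ g) (z₂ ≫ pT ≫ g) (Category.assoc _ _ _) (Category.assoc _ _ _)
        (k₁.trans k₂.symm), tr_tr f hφ])
  obtain ⟨s, hs⟩ := Fam.exists_sect ε
  have hval : ∀ {Ω : Type u} [Field Ω] [IsSepClosed Ω] (z : Spec (.of Ω) ⟶ T)
        (m : Spec (.of Ω) ⟶ ((EtCoh.bc f).obj U).left) (_ : m ≫ bcFst f U = z ≫ q)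
        (ξ₁ ξ₂ : Spec (.of Ω) ⟶ X') (h₁ : z ≫ g = ξ₁) (h₂ : m ≫ ((EtCoh.bc f).obj U).hom = ξ₂)
        (e : ξ₁ ≫ f = ξ₂ ≫ f), germ F' m h₂ s = tr f F' φ ξ₁ ξ₂ e (γ.val z ξ₁ h₁) := by
    intro Ω _ _ z m hm ξ₁ ξ₂ h₁ h₂ e
    obtain ⟨ζ, hζ₁, hζ₂⟩ : ∃ ζ : Spec (.of Ω) ⟶ Z, ζ ≫ pT = z ∧ ζ ≫ pY = m :=
      ⟨pullback.lift z m hm.symm, pullback.lift_fst _ _ _, pullback.lift_snd _ _ _⟩
    subst hζ₁ hζ₂
    rw [hs _ ξ₂ h₂, hε ζ ξ₂ h₂ (by rw [← h₂, Category.assoc]), hδ ζ ξ₁ ξ₂ (by rw [← h₁, Category.assoc]) _ e]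
    rfl
  refine ⟨s, ?_, @hval⟩
  -- compatibility
  let p₁ : pullback (bcFst f U) (bcFst f U) ⟶ Y := pullback.fst _ _
  let p₂ : pullback (bcFst f U) (bcFst f U) ⟶ Y := pullback.snd _ _
  have hpp : p₁ ≫ bcFst f U = p₂ ≫ bcFst f U := pullback.condition
  have hee : (p₁ ≫ ((EtCoh.bc f).obj U).hom) ≫ f = (p₂ ≫ ((EtCoh.bc f).obj U).hom) ≫ f := by
    rw [Category.assoc, ← bc_condition, reassoc_of% hpp, bc_condition, Category.assoc]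
  obtain ⟨δ', hδ'⟩ := exists_trFam f F' φ ((Fam.ofSect s).pull p₁) (p₂ ≫ ((EtCoh.bc f).obj U).hom) hee
  intro Ω _ _ m₁ m₂ hm ξ₁ ξ₂ e h₁ h₂
  obtain ⟨ζ, hζ₁, hζ₂⟩ : ∃ ζ : Spec (.of Ω) ⟶ pullback (bcFst f U) (bcFst f U), ζ ≫ p₁ = m₁ ∧ ζ ≫ p₂ = m₂ :=
    ⟨pullback.lift m₁ m₂ hm, pullback.lift_fst _ _ _, pullback.lift_snd _ _ _⟩
  subst hζ₁ hζ₂
  have key := Fam.val_eq_of_cover δ' ((Fam.ofSect s).pull p₂) (by
    intro y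
    obtain ⟨t, ht⟩ := (inferInstance : Surjective q).surj (bcFst f U (p₁ y))
    obtain ⟨w, hw₁, hw₂⟩ := Scheme.Pullback.exists_preimage_pullback (f := q) (g := p₁ ≫ bcFst f U) t y
      (by rw [ht, Scheme.Hom.comp_apply])
    obtain ⟨Ω', _, _, ω, rfl⟩ := exists_geomPoint _ w
    refine ⟨Ω', inferInstance, inferInstance, ω ≫ pullback.snd _ _, by rw [Scheme.Hom.comp_apply, hw₂], ?_⟩
    have c₀ : (ω ≫ pullback.fst q (p₁ ≫ bcFst f U)) ≫ q =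
        ((ω ≫ pullback.snd q (p₁ ≫ bcFst f U)) ≫ p₁) ≫ bcFst f U := by
      simp only [Category.assoc, pullback.condition]
    generalize ω ≫ pullback.snd q (p₁ ≫ bcFst f U) = η at c₀ ⊢
    generalize ω ≫ pullback.fst q (p₁ ≫ bcFst f U) = z at c₀
    have c₁ : (η ≫ p₂) ≫ bcFst f U = z ≫ q := by
      rw [c₀, Category.assoc, ← hpp, Category.assoc]
    have d₁ : ((η ≫ p₁ ≫ ((EtCoh.bc f).obj U).hom)) ≫ f = (η ≫ p₂ ≫ ((EtCoh.bc f).obj U).hom) ≫ f := by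
      simp only [Category.assoc] at hee ⊢; rw [hee]
    rw [hδ' η _ _ rfl rfl d₁]
    have g₁ : ((Fam.ofSect s).pull p₁).val η (η ≫ p₁ ≫ ((EtCoh.bc f).obj U).hom) rfl =
        germ F' (η ≫ p₁) (Category.assoc _ _ _) s := rfl
    have g₂ : ((Fam.ofSect s).pull p₂).val η (η ≫ p₂ ≫ ((EtCoh.bc f).obj U).hom) rfl =
        germ F' (η ≫ p₂) (Category.assoc _ _ _) s := rfl
    have x₁ : (z ≫ g) ≫ f = (η ≫ p₁ ≫ ((EtCoh.bc f).obj U).hom) ≫ f := by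
      rw [hgm z (η ≫ p₁) c₀.symm]; simp only [Category.assoc]
    rw [g₁, g₂, hval z (η ≫ p₁) c₀.symm (z ≫ g) _ rfl _ x₁,
      hval z (η ≫ p₂) c₁ (z ≫ g) _ rfl _ (x₁.trans d₁), tr_tr f hφ]) ζ ξ₂ (by rw [← h₂, Category.assoc])
  have l₁ : germ F' (ζ ≫ p₁) h₁ s = ((Fam.ofSect s).pull p₁).val ζ ξ₁ (by rw [← h₁, Category.assoc]) := rfl
  have l₂ : germ F' (ζ ≫ p₂) h₂ s = ((Fam.ofSect s).pull p₂).val ζ ξ₂ (by rw [← h₂, Category.assoc]) := rfl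
  rw [l₁, l₂, ← key, hδ' ζ ξ₁ ξ₂ _ _ e]

end D

end Groth.Agent.Sga4A.EtStalk
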