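import Groth.Prelude.Def_SGA4a
import Mathlib.CategoryTheory.Sites.Canonical
import Mathlib.CategoryTheory.Sites.EffectiveEpimorphic
import Mathlib.CategoryTheory.EffectiveEpi.Comp
import Mathlib.CategoryTheory.Sites.CoproductSheafCondition
import Mathlib.CategoryTheory.Sites.DenseSubsite.OneHypercoverDense
import Mathlib.CategoryTheory.Sites.DenseSubsite.InducedTopology

/-!
# Giraud's theorem

Let `E` be a category (`Type v`, homs in `Type u`) with finite limits, disjoint universal
`u`-small coproducts, effective universal equivalence relations and a small detecting family.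
We show that every sheaf of `u`-small sets on `E` for the canonical topology is representable,
and that `E` is equivalent to the category of sheaves on a small site.
-/

set_option autoImplicit false
universe w v u

open CategoryTheory CategoryTheory.Limits Opposite

namespace Groth.Agent.Sga4A.Giraud

variable {E : Type v} [Category.{u} E] [HasFiniteLimits E]

/-- `π` is a universally effective epimorphism. -/
def UnivEff {A B : E} (π : A ⟶ B) : Prop :=
  ∀ (B' : E) (g : B' ⟶ B), EffectiveEpi (pullback.snd π g)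

/-- The first two Giraud axioms, in a convenient form. -/
structure Ax (E : Type v) [Category.{u} E] [HasFiniteLimits E] : Prop where
  hasCoproducts : ∀ (ι : Type u) (X : ι → E), HasCoproduct X
  univ : ∀ {ι : Type u} {X : ι → E} {c : Cofan X} (_ : IsColimit c), IsUniversalColimit c
  disj : ∀ {ι : Type u} (X : ι → E), CoproductDisjoint X
  quot : ∀ (R A : E) (p₁ p₂ : R ⟶ A), SGA4.IsEquivRel p₁ p₂ →
    ∃ (B : E) (π : A ⟶ B), IsPullback p₁ p₂ π π ∧ IsPushout p₁ p₂ π π ∧ UnivEff π

lemma Ax.mk' (hb : SGA4.HasDisjointUniversalCoproducts.{v, u} E)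
    (hc : ∀ (R A : E) (p₁ p₂ : R ⟶ A), SGA4.IsEquivRel p₁ p₂ →
      SGA4.IsEffectiveUniversalEquivRel p₁ p₂) : Ax E where
  hasCoproducts ι X := by
    obtain ⟨c, hc, -, -⟩ := hb ι X
    exact ⟨⟨c, hc⟩⟩
  univ {ι X c} hc' := by
    obtain ⟨d, hd, -, h⟩ := hb ι X
    exact h.of_iso (hd.uniqueUpToIso hc')
  disj {ι} X := by
    obtain ⟨c, hc, h, -⟩ := hb ι X
    exact h
  quot R A p₁ p₂ h := hc R A p₁ p₂ h

lemma ofArrows_mem_canonical (ax : Ax E) {ι : Type u} {Y : ι → E} {X : E} (f : ∀ i, Y i ⟶ X)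
    {c : Cofan Y} (hc : IsColimit c) (h : UnivEff (Cofan.IsColimit.desc hc f)) :
    Sieve.ofArrows Y f ∈ Sheaf.canonicalTopology E X := by
  refine Sheaf.mem_finestTopology_of_forall_isSheafFor ?_
  rintro _ ⟨Z, rfl⟩ X' g
  rw [Sieve.ofArrows, ← Sieve.pullbackArrows_comm, ← Presieve.ofArrows_pullback,
    ← Presieve.isSheafFor_iff_generate]
  let P : ι → E := fun i => pullback (f i) g
  let d : Cofan P := Cofan.mk (pullback (Cofan.IsColimit.desc hc f) g)
    (fun i => pullback.lift (pullback.fst (f i) g ≫ c.inj i) (pullback.snd (f i) g)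
      (by simp [pullback.condition]))
  obtain ⟨hd⟩ : Nonempty (IsColimit d) :=
    (ax.univ hc).nonempty_isColimit_of_isPullback_right f (Cofan.IsColimit.desc hc f) g
      (fun i => pullback.fst _ _) (fun i => pullback.snd _ _)
      (fun i => IsPullback.of_hasPullback _ _) (IsPullback.of_hasPullback _ _) d (Iso.refl _)
      (by intro i; simp)
      (by intro i; simpa [d] using! pullback.lift_fst _ _ _)
      (by intro i; simpa [d] using! pullback.lift_snd _ _ _)
  have key := Presieve.isSheafFor_sigmaDesc_iff (fun i => (pullback.snd (f i) g : P i ⟶ X')) hd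
    (ax.univ hd) (yoneda.obj Z)
  refine key.1 ?_
  have : Cofan.IsColimit.desc hd (fun i => (pullback.snd (f i) g : P i ⟶ X')) =
      pullback.snd (Cofan.IsColimit.desc hc f) g := by
    refine Cofan.IsColimit.hom_ext hd _ _ fun i => ?_
    simpa [Cofan.inj, Cofan.IsColimit.desc] using! (pullback.lift_snd _ _ _).symm
  rw [this]
  have := h X' g
  exact Presieve.IsSheafFor.singleton_of_isRepresentable_of_effectiveEpi _ _

lemma UnivEff.epi_snd {A B : E} {π : A ⟶ B} (h : UnivEff π) {B' : E} (g : B' ⟶ B) :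
    Epi (pullback.snd π g) := by
  have := h B' g
  infer_instance

lemma UnivEff.id (X : E) : UnivEff (𝟙 X) := by
  intro B' g
  infer_instance

omit [HasFiniteLimits E] in
lemma effectiveEpi_iso_comp {X Y Z : E} (i : X ⟶ Y) [IsIso i] (f : Y ⟶ Z) [EffectiveEpi f] :
    EffectiveEpi (i ≫ f) := inferInstance

lemma UnivEff.effectiveEpi_of_isPullback {A B : E} {π : A ⟶ B} (h : UnivEff π)
    {A' B' : E} {g' : A' ⟶ A} {π' : A' ⟶ B'} {g : B' ⟶ B} (sq : IsPullback g' π' π g) :
    EffectiveEpi π' := by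
  have := h B' g
  rw [← sq.isoPullback_hom_snd]
  exact effectiveEpi_iso_comp _ _

lemma UnivEff.effectiveEpi {A B : E} {π : A ⟶ B} (h : UnivEff π) : EffectiveEpi π :=
  h.effectiveEpi_of_isPullback (IsPullback.of_horiz_isIso ⟨by simp⟩ : IsPullback (𝟙 _) π π (𝟙 _))

lemma UnivEff.of_isPullback {A B : E} {π : A ⟶ B} (h : UnivEff π)
    {A' B' : E} {g' : A' ⟶ A} {π' : A' ⟶ B'} {g : B' ⟶ B} (sq : IsPullback g' π' π g) :
    UnivEff π' := by
  intro T t
  exact h.effectiveEpi_of_isPullback ((IsPullback.of_hasPullback π' t).paste_horiz sq)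

lemma UnivEff.comp_iso {A B B' : E} {π : A ⟶ B} (h : UnivEff π) (e : B ⟶ B') [IsIso e] :
    UnivEff (π ≫ e) := by
  refine h.of_isPullback (g := inv e) (g' := 𝟙 _) (IsPullback.of_horiz_isIso ⟨by simp⟩)

/-- Lift a pair of maps to a common refinement along `π`. -/
lemma UnivEff.exists_lift₂ {A B : E} {π : A ⟶ B} (h : UnivEff π) {T : E} (s t : T ⟶ B) :
    ∃ (T' : E) (q : T' ⟶ T) (_ : Epi q) (s' t' : T' ⟶ A), s' ≫ π = q ≫ s ∧ t' ≫ π = q ≫ t := by
  have := h.epi_snd s
  have := h.epi_snd (pullback.snd π s ≫ t)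
  refine ⟨pullback π (pullback.snd π s ≫ t), pullback.snd _ _ ≫ pullback.snd π s,
    epi_comp _ _, pullback.snd _ _ ≫ pullback.fst π s, pullback.fst _ _, ?_, ?_⟩
  · simp [pullback.condition]
  · simp [pullback.condition]

omit [HasFiniteLimits E] in
/-- The kernel pair is an equivalence relation. -/
lemma isEquivRel_of_isPullback {A B R : E} {f : A ⟶ B} {p₁ p₂ : R ⟶ A}
    (h : IsPullback p₁ p₂ f f) : SGA4.IsEquivRel p₁ p₂ := by
  intro T
  refine ⟨fun a b hab => ?_, ⟨fun a => ?_, ?_, ?_⟩⟩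
  · simp only [Prod.mk.injEq] at hab
    exact h.hom_ext hab.1 hab.2
  · exact ⟨h.lift a a rfl, by simp⟩
  · rintro a b ⟨g, rfl, rfl⟩
    exact ⟨h.lift (g ≫ p₂) (g ≫ p₁) (by simp only [Category.assoc, h.w]), by simp⟩
  · rintro a b c ⟨g, rfl, rfl⟩ ⟨g', hg', rfl⟩
    have e : (g ≫ p₁) ≫ f = (g' ≫ p₂) ≫ f := by
      rw [Category.assoc, h.w, ← Category.assoc, ← hg', Category.assoc, h.w, Category.assoc]
    exact ⟨h.lift (g ≫ p₁) (g' ≫ p₂) e, by simp, by simp⟩

/-- Image factorisation. -/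
lemma exists_factor (ax : Ax E) {A B : E} (f : A ⟶ B) :
    ∃ (I : E) (π : A ⟶ I) (m : I ⟶ B) (_ : UnivEff π) (_ : Mono m), π ≫ m = f := by
  obtain ⟨I, π, hpb, hpo, hπ⟩ := ax.quot _ _ _ _
    (isEquivRel_of_isPullback (IsPullback.of_hasPullback f f))
  refine ⟨I, π, hpo.desc f f pullback.condition, hπ, ?_, by simp⟩
  constructor
  intro T t₁ t₂ ht
  obtain ⟨T', q, hq, s₁, s₂, h₁, h₂⟩ := hπ.exists_lift₂ t₁ t₂
  rw [← cancel_epi q, ← h₁, ← h₂]
  have e : s₁ ≫ f = s₂ ≫ f := by
    have := q ≫= ht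
    rw [← Category.assoc, ← Category.assoc, ← h₁, ← h₂] at this
    simpa using this
  have := (pullback.lift s₁ s₂ e) ≫= hpb.w
  simpa only [pullback.lift_fst_assoc, pullback.lift_snd_assoc] using this

/-- A small detecting family. -/
structure DetectingFamily (E : Type v) [Category.{u} E] where
  ι : Type u
  obj : ι → E
  isIso : ∀ {X Y : E} (f : X ⟶ Y),
    (∀ (i : ι) (h : obj i ⟶ Y), ∃! h' : obj i ⟶ X, h' ≫ f = h) → IsIso f

omit [HasFiniteLimits E] in
lemma exists_detectingFamily (hd : ∃ P : ObjectProperty E, ObjectProperty.Small.{u} P ∧ P.IsDetecting) :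
    Nonempty (DetectingFamily E) := by
  obtain ⟨P, hP, hd⟩ := hd
  have : Small.{u} (Subtype P) := hP
  refine ⟨⟨Shrink.{u} (Subtype P), fun i => ((equivShrink (Subtype P)).symm i).1, ?_⟩⟩
  intro X Y f hf
  refine hd f ?_
  intro G hG h
  obtain ⟨i, hi⟩ : ∃ i : Shrink.{u} (Subtype P), (equivShrink (Subtype P)).symm i = ⟨G, hG⟩ :=
    ⟨equivShrink _ ⟨G, hG⟩, by simp⟩
  have := hf i
  rw [hi] at this
  exact this h

variable (D : DetectingFamily E)

/-- The index type of the family of all morphisms from the detecting objects to `X`. -/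
abbrev DetectingFamily.Idx (X : E) : Type u := Σ i : D.ι, (D.obj i ⟶ X)

omit [HasFiniteLimits E] in
include D in
/-- If all the maps from the detecting objects factor through the monomorphism `m`,
then `m` is an isomorphism. -/
lemma DetectingFamily.isIso_of_mono {X Y : E} (m : X ⟶ Y) [Mono m]
    (h : ∀ (i : D.ι) (g : D.obj i ⟶ Y), ∃ g' : D.obj i ⟶ X, g' ≫ m = g) : IsIso m := by
  refine D.isIso m fun i g => ?_
  obtain ⟨g', hg'⟩ := h i g
  exact ⟨g', hg', fun g'' hg'' => by rw [← cancel_mono m, hg', hg'']⟩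

/-- Families containing all the maps from detecting objects are canonical coverings. -/
lemma DetectingFamily.mem_canonical (ax : Ax E) (X : E) :
    Sieve.ofArrows (fun k : D.Idx X => D.obj k.1) (fun k => k.2) ∈
      Sheaf.canonicalTopology E X := by
  have := ax.hasCoproducts _ (fun k : D.Idx X => D.obj k.1)
  refine ofArrows_mem_canonical ax _ (coproductIsCoproduct _) ?_
  obtain ⟨I, π, m, hπ, hm, fac⟩ := exists_factor ax
    (Cofan.IsColimit.desc (coproductIsCoproduct (fun k : D.Idx X => D.obj k.1)) (fun k => k.2))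
  have : IsIso m := D.isIso_of_mono m fun i g =>
    ⟨Sigma.ι (fun k : D.Idx X => D.obj k.1) ⟨i, g⟩ ≫ π, by
      rw [Category.assoc, fac]
      exact Cofan.IsColimit.fac (coproductIsCoproduct (fun k : D.Idx X => D.obj k.1)) _ _⟩
  rw [← fac]
  exact hπ.comp_iso m

/-- A sieve closed for the canonical topology is principal, generated by a monomorphism. -/
lemma exists_mono_of_isClosed (ax : Ax E) (D : DetectingFamily E) {B : E} (S : Sieve B)
    (hS : ∀ ⦃X : E⦄ (f : X ⟶ B), S.pullback f ∈ Sheaf.canonicalTopology E X → S f) :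
    ∃ (I : E) (m : I ⟶ B) (_ : Mono m), ∀ ⦃X : E⦄ (f : X ⟶ B), S f ↔ ∃ g : X ⟶ I, g ≫ m = f := by
  let κ : Type u := { k : D.Idx B // S k.2 }
  let Y : κ → E := fun k => D.obj k.1.1
  have := ax.hasCoproducts κ Y
  have hc := coproductIsCoproduct Y
  obtain ⟨I, π, m, hπ, hm, fac⟩ := exists_factor ax (Cofan.IsColimit.desc hc (fun k => k.1.2))
  have fac' (k : κ) : (Sigma.ι Y k ≫ π) ≫ m = k.1.2 := by
    rw [Category.assoc, fac]
    exact Cofan.IsColimit.fac hc _ _
  have hm' : S m := by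
    refine hS m ?_
    refine GrothendieckTopology.superset_covering _ ?_
      (ofArrows_mem_canonical ax (fun k => Sigma.ι Y k ≫ π) hc ?_)
    · rw [Sieve.ofArrows, Sieve.generate_le_iff, Presieve.ofArrows_le_iff]
      intro k
      change S _
      rw [fac' k]
      exact k.2
    · convert! hπ
      exact Cofan.IsColimit.hom_ext hc _ _ fun k => Cofan.IsColimit.fac hc _ _
  refine ⟨I, m, hm, fun X f => ⟨fun hf => ?_, ?_⟩⟩
  · have : IsIso (pullback.snd m f) := by
      refine D.isIso_of_mono _ fun i g => ?_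
      let k : κ := ⟨⟨i, g ≫ f⟩, S.downward_closed hf g⟩
      exact ⟨pullback.lift (Sigma.ι Y k ≫ π) g (fac' k), pullback.lift_snd _ _ _⟩
    exact ⟨inv (pullback.snd m f) ≫ pullback.fst m f, by
      rw [Category.assoc, pullback.condition, IsIso.inv_hom_id_assoc]⟩
  · rintro ⟨g, rfl⟩
    exact S.downward_closed hm' g

/-- If `T` maps to two different members of a coproduct diagram compatibly with the coproduct,
then the empty sieve covers `T`. -/
lemma bot_mem_canonical_of_ne (ax : Ax E) {ι : Type u} {Y : ι → E} {c : Cofan Y}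
    (hc : IsColimit c) {i j : ι} (hij : i ≠ j) {T : E} (g₁ : T ⟶ Y i) (g₂ : T ⟶ Y j)
    (h : g₁ ≫ c.inj i = g₂ ≫ c.inj j) : (⊥ : Sieve T) ∈ Sheaf.canonicalTopology E T := by
  have := ax.disj Y
  have h0 : IsInitial (pullback (c.inj i) (c.inj j)) :=
    IsInitial.ofCoproductDisjointOfIsColimitOfIsLimit hij hc (limit.isLimit _)
  let Z := pullback (c.inj i) (c.inj j)
  -- `⊥` covers `Z`
  have h1 : (⊥ : Sieve Z) ∈ Sheaf.canonicalTopology E Z := by
    have hd : IsColimit (Cofan.mk Z (fun k : PEmpty.{u+1} => k.elim) :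
        Cofan (fun k : PEmpty.{u+1} => (k.elim : E))) :=
      Cofan.IsColimit.mk _ (fun s => h0.to _) (fun s k => k.elim) (fun s m hm => h0.hom_ext _ _)
    have := ofArrows_mem_canonical ax (X := Z) (fun k : PEmpty.{u+1} => k.elim) hd (by
      convert! UnivEff.id Z
      exact h0.hom_ext _ _)
    convert! this
    rw [eq_comm, eq_bot_iff, Sieve.ofArrows, Sieve.generate_le_iff, Presieve.ofArrows_le_iff]
    intro k
    exact k.elim
  have h2 := GrothendieckTopology.pullback_stable _ (pullback.lift g₁ g₂ h : T ⟶ Z) h1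
  convert! h2

lemma UnivEff.mem_canonical (ax : Ax E) {A B : E} {π : A ⟶ B} (h : UnivEff π) :
    Sieve.ofArrows (fun _ : PUnit.{u+1} => A) (fun _ => π) ∈ Sheaf.canonicalTopology E B := by
  have hc : IsColimit (Cofan.mk A (fun _ => 𝟙 A) : Cofan (fun _ : PUnit.{u+1} => A)) :=
    Cofan.IsColimit.mk _ (fun s => s.inj ⟨⟩) (fun s k => Category.id_comp _)
      (fun s m hm => (Category.id_comp m).symm.trans (hm ⟨⟩))
  refine ofArrows_mem_canonical ax _ hc ?_
  convert! h
  exact Cofan.IsColimit.hom_ext hc _ _ fun k => by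
    rw [Cofan.IsColimit.fac]; exact (Category.id_comp _).symm

omit [HasFiniteLimits E] in
lemma existsUnique_amalg {F : Eᵒᵖ ⥤ Type u} {K : GrothendieckTopology E}
    (hF : Presieve.IsSheaf K F) {ι : Type u} {Y : ι → E} {X : E} (f : ∀ i, Y i ⟶ X)
    (hf : Sieve.ofArrows Y f ∈ K X) (x : ∀ i, F.obj (op (Y i)))
    (hx : ∀ (i j : ι) (T : E) (g₁ : T ⟶ Y i) (g₂ : T ⟶ Y j), g₁ ≫ f i = g₂ ≫ f j →
      F.map g₁.op (x i) = F.map g₂.op (x j)) :
    ∃! t : F.obj (op X), ∀ i, F.map (f i).op t = x i := by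
  have h1 := hF _ hf
  rw [Sieve.ofArrows, ← Presieve.isSheafFor_iff_generate, Presieve.isSheafFor_arrows_iff] at h1
  exact h1 x hx

/-- The tautological section over a coproduct. -/
lemma exists_section (ax : Ax E) (F : Eᵒᵖ ⥤ Type u)
    (hF : Presieve.IsSheaf (Sheaf.canonicalTopology E) F) {κ : Type u} {Y : κ → E} {c : Cofan Y}
    (hc : IsColimit c) (x : ∀ k, F.obj (op (Y k))) :
    ∃ a : F.obj (op c.pt), ∀ k : κ, F.map (c.inj k).op a = x k := by
  have hinj (k : κ) : Mono (c.inj k) := by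
    have := ax.disj Y
    exact CoproductDisjoint.mono_inj hc k
  have hcov : Sieve.ofArrows Y c.inj ∈ Sheaf.canonicalTopology E c.pt := by
    refine ofArrows_mem_canonical ax _ hc ?_
    convert! UnivEff.id c.pt
    exact Cofan.IsColimit.hom_ext hc _ _ fun k => by
      rw [Cofan.IsColimit.fac]; exact (Category.comp_id _).symm
  refine (existsUnique_amalg hF _ hcov x ?_).exists
  intro i j T g₁ g₂ h
  by_cases hij : i = j
  · subst hij
    rw [cancel_mono] at h
    rw [h]
  · have h0 := hF _ (bot_mem_canonical_of_ne ax hc hij g₁ g₂ h)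
    exact h0.isSeparatedFor.ext (fun Y f hf => hf.elim)

/-- Every sheaf for the canonical topology is representable. -/
lemma exists_iso_yoneda (ax : Ax E) (D : DetectingFamily E) (F : Eᵒᵖ ⥤ Type u)
    (hF : Presieve.IsSheaf (Sheaf.canonicalTopology E) F) :
    ∃ B : E, Nonempty (yoneda.obj B ≅ F) := by
  -- the big coproduct
  let κ : Type u := Σ i : D.ι, F.obj (op (D.obj i))
  let Y : κ → E := fun k => D.obj k.1
  have := ax.hasCoproducts κ Y
  let c : Cofan Y := Cofan.mk (∐ Y) (Sigma.ι Y)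
  have hc : IsColimit c := coproductIsCoproduct Y
  obtain ⟨A, inj, a, ha⟩ : ∃ (A : E) (inj : ∀ k, Y k ⟶ A) (a : F.obj (op A)),
      ∀ k : κ, F.map (inj k).op a = k.2 :=
    ⟨_, c.inj, exists_section ax F hF hc _⟩
  have mapc {X Y Z : E} (f : X ⟶ Y) (g : Y ⟶ Z) (x : F.obj (op Z)) :
      F.map (f ≫ g).op x = F.map f.op (F.map g.op x) := by
    rw [op_comp, Functor.map_comp_apply]
  have sep {X : E} (R : Sieve X) (hR : R ∈ Sheaf.canonicalTopology E X) (x y : F.obj (op X))
      (h : ∀ ⦃T : E⦄ (f : T ⟶ X), R f → F.map f.op x = F.map f.op y) : x = y :=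
    (hF _ hR).isSeparatedFor.ext h
  -- the relation defined by `a`
  let S : Sieve (A ⨯ A) :=
    { arrows := fun T f => F.map (f ≫ prod.fst).op a = F.map (f ≫ prod.snd).op a
      downward_closed := by
        intro T T' f hf g
        rw [Category.assoc, Category.assoc, mapc, mapc g]
        exact congrArg (F.map g.op) hf }
  obtain ⟨R, m, hm, hR⟩ := exists_mono_of_isClosed ax D S (by
    intro T f hf
    refine sep _ hf _ _ ?_
    intro T' g hg
    rw [← mapc, ← mapc, ← Category.assoc, ← Category.assoc]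
    exact hg)
  have hRiff {T : E} (s t : T ⟶ A) : (∃ f : T ⟶ R, f ≫ m ≫ prod.fst = s ∧ f ≫ m ≫ prod.snd = t) ↔
      F.map s.op a = F.map t.op a := by
    constructor
    · rintro ⟨f, rfl, rfl⟩
      have := (hR (f ≫ m)).2 ⟨f, rfl⟩
      rw [← Category.assoc, ← Category.assoc]
      exact this
    · intro h
      obtain ⟨g, hg⟩ := (hR (prod.lift s t)).1 (by
        change F.map _ a = F.map _ a
        rwa [prod.lift_fst, prod.lift_snd])
      exact ⟨g, by rw [← Category.assoc, hg, prod.lift_fst],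
        by rw [← Category.assoc, hg, prod.lift_snd]⟩
  have hER : SGA4.IsEquivRel (m ≫ prod.fst) (m ≫ prod.snd) := by
    intro T
    refine ⟨fun f g hfg => ?_, ⟨fun s => (hRiff s s).2 rfl, ?_, ?_⟩⟩
    · simp only [Prod.mk.injEq] at hfg
      rw [← cancel_mono m]
      ext
      · simpa using hfg.1
      · simpa using hfg.2
    · intro s t hst
      exact (hRiff t s).2 ((hRiff s t).1 hst).symm
    · intro s t r hst htr
      exact (hRiff s r).2 (((hRiff s t).1 hst).trans ((hRiff t r).1 htr))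
  obtain ⟨B, π, hpb, -, hπ⟩ := ax.quot _ _ _ _ hER
  have hRiff' {T : E} (s t : T ⟶ A) : s ≫ π = t ≫ π ↔ F.map s.op a = F.map t.op a := by
    rw [← hRiff]
    constructor
    · intro h
      exact ⟨hpb.lift s t h, hpb.lift_fst _ _ _, hpb.lift_snd _ _ _⟩
    · rintro ⟨f, rfl, rfl⟩
      rw [Category.assoc, Category.assoc f, hpb.w]
  -- descend `a` to `b`
  obtain ⟨b, hb⟩ : ∃ b : F.obj (op B), F.map π.op b = a := by
    obtain ⟨b, hb, -⟩ := existsUnique_amalg hF (fun _ : PUnit.{u+1} => π) (hπ.mem_canonical ax)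
      (fun _ => a) (fun _ _ T g₁ g₂ h => (hRiff' g₁ g₂).1 h)
    exact ⟨b, hb ⟨⟩⟩
  -- injectivity
  have inj_b {T : E} (s t : T ⟶ B) (h : F.map s.op b = F.map t.op b) : s = t := by
    obtain ⟨T', q, hq, s', t', hs, ht⟩ := hπ.exists_lift₂ s t
    rw [← cancel_epi q, ← hs, ← ht, hRiff', ← hb, ← mapc, ← mapc, hs, ht, mapc, mapc, h]
  -- surjectivity
  have surj_b {T : E} (x : F.obj (op T)) : ∃ s : T ⟶ B, F.map s.op b = x := by
    obtain ⟨r, hr⟩ : ∃ r : ∀ k : D.Idx T, D.obj k.1 ⟶ B, ∀ k, F.map (r k).op b = F.map k.2.op x :=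
      ⟨fun k => inj ⟨k.1, F.map k.2.op x⟩ ≫ π, fun k => by
        rw [mapc, hb]
        exact ha ⟨k.1, F.map k.2.op x⟩⟩
    obtain ⟨s, hs, -⟩ := existsUnique_amalg (Sheaf.isSheaf_yoneda_obj B) (fun k : D.Idx T => k.2)
      (D.mem_canonical ax T) r (by
        intro i j Z g₁ g₂ hg
        apply inj_b
        change F.map (g₁ ≫ r i).op b = F.map (g₂ ≫ r j).op b
        rw [mapc, mapc, hr, hr, ← mapc, ← mapc, hg])
    refine ⟨s, ?_⟩
    have h1 := existsUnique_amalg hF (fun k : D.Idx T => k.2) (D.mem_canonical ax T)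
      (fun k => F.map k.2.op x) (by
        intro i j Z g₁ g₂ hg
        rw [← mapc, ← mapc, hg])
    refine h1.unique (fun k => ?_) (fun k => rfl)
    rw [← mapc, show k.2 ≫ s = r k from hs k, hr]
  refine ⟨B, ⟨NatIso.ofComponents (fun X => (Equiv.ofBijective
    (fun s : X.unop ⟶ B => (F.map s.op b : F.obj X)) ⟨fun s t h => inj_b s t h, fun x => surj_b x⟩).toIso) ?_⟩⟩
  intro X Y f
  ext s
  exact mapc f.unop s b

/-- The Yoneda functor to canonical sheaves is an equivalence. -/
lemma isEquivalence_yoneda (ax : Ax E) (D : DetectingFamily E) :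
    (Sheaf.canonicalTopology E).yoneda.IsEquivalence where
  essSurj := ⟨fun F => by
    obtain ⟨B, ⟨e⟩⟩ := exists_iso_yoneda ax D F.obj
      ((isSheaf_iff_isSheaf_of_type _ _).1 F.property)
    exact ⟨B, ⟨(fullyFaithfulSheafToPresheaf _ _).preimageIso e⟩⟩⟩

/-- **Giraud's theorem**. -/
theorem isTopos (ax : Ax E) (D : DetectingFamily E) : SGA4.IsTopos.{v, u} E := by
  let K := Sheaf.canonicalTopology E
  let G : InducedCategory E D.obj ⥤ E := inducedFunctor D.obj
  have hcov (X : E) : ∃ (ι : Type u) (U : ι → InducedCategory E D.obj) (f : ∀ i, G.obj (U i) ⟶ X),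
      Sieve.ofArrows _ f ∈ K X :=
    ⟨D.Idx X, fun k => k.1, fun k => k.2, D.mem_canonical ax X⟩
  have : G.IsCoverDense K := ⟨fun X => by
    obtain ⟨ι, U, f, hf⟩ := hcov X
    refine K.superset_covering ?_ hf
    rw [Sieve.ofArrows, Sieve.generate_le_iff, Presieve.ofArrows_le_iff]
    intro i
    exact Presieve.in_coverByImage G (f i)⟩
  let J := G.inducedTopology K
  have : Functor.IsOneHypercoverDense.{u} G J K :=
    Functor.IsOneHypercoverDense.of_hasPullbacks hcov
  have h1 : (G.sheafPushforwardContinuous (Type u) J K).IsEquivalence :=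
    Functor.isEquivalence_of_isOneHypercoverDense.{u} G J K (Type u)
  have h2 := isEquivalence_yoneda ax D
  exact ⟨InducedCategory E D.obj, inferInstance, J,
    ⟨K.yoneda.asEquivalence.trans (G.sheafPushforwardContinuous (Type u) J K).asEquivalence⟩⟩

end Groth.Agent.Sga4A.Giraud
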