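import Groth.Prelude.Def_SGA4a
import Groth.Agent.Sga4A.GiraudVK
import Groth.Agent.Sga4A.QC
import Mathlib.CategoryTheory.Sites.RegularEpi

/-!
# Giraud's axioms hold in a topos of sheaves of sets on a small site
-/

set_option autoImplicit false
universe w v u

open CategoryTheory CategoryTheory.Limits Opposite

namespace Groth.Agent.Sga4A.GiraudAxioms

variable {C : Type u} [SmallCategory C] {J : GrothendieckTopology C}

/-- Sections of a sheaf are morphisms from the sheaf associated to a representable. -/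
noncomputable def sec (A : Sheaf J (Type u)) (U : C) :
    A.obj.obj (op U) ≃ ((presheafToSheaf J (Type u)).obj (yoneda.obj U) ⟶ A) :=
  yonedaEquiv.symm.trans ((sheafificationAdjunction J (Type u)).homEquiv _ _).symm

lemma sec_comp {A B : Sheaf J (Type u)} (f : A ⟶ B) {U : C} (s : A.obj.obj (op U)) :
    sec B U (f.hom.app (op U) s) = sec A U s ≫ f := by
  simp only [sec, Equiv.trans_apply]
  rw [← Adjunction.homEquiv_naturality_right_symm]
  congr 1
  exact (yonedaEquiv_symm_naturality_right U f.hom s).symm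

lemma hasDisjointUniversalCoproducts :
    SGA4.HasDisjointUniversalCoproducts.{u + 1, u} (Sheaf J (Type u)) := fun _ X =>
  ⟨_, coproductIsCoproduct X, GiraudVK.coproductDisjoint_sheaf X,
    GiraudVK.isUniversalColimit_sheaf (coproductIsCoproduct X)⟩

/-- Every epimorphism of sheaves of sets is effective. -/
lemma effectiveEpi_of_epi {A B : Sheaf J (Type u)} (f : A ⟶ B) [Epi f] : EffectiveEpi f := by
  rw [← isRegularEpi_iff_effectiveEpi]
  exact IsRegularEpiCategory.regularEpiOfEpi f

section Quotient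

variable {R A : Sheaf J (Type u)} (p₁ p₂ : R ⟶ A)

/-- The relation on sections. -/
def rel (U : Cᵒᵖ) (a b : A.obj.obj U) : Prop :=
  ∃ r : R.obj.obj U, p₁.hom.app U r = a ∧ p₂.hom.app U r = b

/-- The quotient presheaf. -/
def quotPresheaf : Cᵒᵖ ⥤ Type u where
  obj U := Quot (rel p₁ p₂ U)
  map {U V} f := ↾Quot.map (A.obj.map f) (by
    rintro a b ⟨r, rfl, rfl⟩
    exact ⟨R.obj.map f r, NatTrans.naturality_apply p₁.hom f r,
      NatTrans.naturality_apply p₂.hom f r⟩)
  map_id U := by
    ext x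
    obtain ⟨x, rfl⟩ := Quot.exists_rep x
    simp [Quot.map]
  map_comp f g := by
    ext x
    obtain ⟨x, rfl⟩ := Quot.exists_rep x
    simp [Quot.map]

/-- The projection to the quotient presheaf. -/
def proj : A.obj ⟶ quotPresheaf p₁ p₂ where
  app U := ↾Quot.mk _

lemma w_proj : p₁.hom ≫ proj p₁ p₂ = p₂.hom ≫ proj p₁ p₂ := by
  ext U r
  exact Quot.sound ⟨r, rfl, rfl⟩

instance : Epi (proj p₁ p₂) := by
  have (U : Cᵒᵖ) : Epi ((proj p₁ p₂).app U) := by
    rw [epi_iff_surjective]
    exact Quot.mk_surjective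
  exact NatTrans.epi_of_epi_app _

variable {p₁ p₂}

lemma rel_iff (U : C) (a b : A.obj.obj (op U)) :
    rel p₁ p₂ (op U) a b ↔
      ∃ f : (presheafToSheaf J (Type u)).obj (yoneda.obj U) ⟶ R, f ≫ p₁ = sec A U a ∧ f ≫ p₂ = sec A U b := by
  constructor
  · rintro ⟨r, rfl, rfl⟩
    exact ⟨sec R U r, (sec_comp _ _).symm, (sec_comp _ _).symm⟩
  · rintro ⟨f, h₁, h₂⟩
    obtain ⟨r, rfl⟩ := (sec R U).surjective f
    exact ⟨r, (sec A U).injective (by rw [← h₁, sec_comp]),
      (sec A U).injective (by rw [← h₂, sec_comp])⟩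

lemma equivalence_rel (h : SGA4.IsEquivRel p₁ p₂) (U : Cᵒᵖ) : Equivalence (rel p₁ p₂ U) := by
  obtain ⟨U⟩ := U
  have h' := (h ((presheafToSheaf J (Type u)).obj (yoneda.obj U))).2
  refine ⟨fun a => ?_, fun {a b} hab => ?_, fun {a b c} hab hbc => ?_⟩
  · rw [rel_iff]; exact h'.refl _
  · rw [rel_iff] at hab ⊢; exact h'.symm hab
  · rw [rel_iff] at hab hbc ⊢; exact h'.trans hab hbc

lemma injective_sections (h : SGA4.IsEquivRel p₁ p₂) {U : Cᵒᵖ} (r s : R.obj.obj U)
    (h₁ : p₁.hom.app U r = p₁.hom.app U s) (h₂ : p₂.hom.app U r = p₂.hom.app U s) : r = s := by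
  obtain ⟨U⟩ := U
  apply (sec R U).injective
  apply (h _).1
  simp only [Prod.mk.injEq]
  exact ⟨by rw [← sec_comp, ← sec_comp, h₁], by rw [← sec_comp, ← sec_comp, h₂]⟩

/-- The presheaf quotient by an equivalence relation is effective. -/
lemma isPullback_presheaf (h : SGA4.IsEquivRel p₁ p₂) :
    IsPullback p₁.hom p₂.hom (proj p₁ p₂) (proj p₁ p₂) := by
  refine IsPullback.of_forall_isPullback_app fun U => ?_
  rw [Types.isPullback_iff]
  refine ⟨NatTrans.congr_app (w_proj p₁ p₂) U, fun r s hrs => injective_sections h r s hrs.1 hrs.2,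
    fun a b hab => ?_⟩
  have : rel p₁ p₂ U a b := by
    have h1 : Relation.EqvGen (rel p₁ p₂ U) a b := Quot.eqvGen_exact hab
    exact (Equivalence.eqvGen_iff (equivalence_rel h U)).1 h1
  exact this

/-- Equivalence relations in a sheaf topos are effective and universal. -/
theorem isEffectiveUniversal (h : SGA4.IsEquivRel p₁ p₂) :
    SGA4.IsEffectiveUniversalEquivRel p₁ p₂ := by
  let L := presheafToSheaf J (Type u)
  let adj := sheafificationAdjunction J (Type u)
  let Q := L.obj (quotPresheaf p₁ p₂)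
  let π : A ⟶ Q := inv (adj.counit.app A) ≫ L.map (proj p₁ p₂)
  have hπ : Epi π := inferInstance
  have hpb : IsPullback p₁ p₂ π π := by
    refine ((isPullback_presheaf h).map L).of_iso (asIso (adj.counit.app R))
      (asIso (adj.counit.app A)) (asIso (adj.counit.app A)) (Iso.refl _) ?_ ?_ ?_ ?_
    · exact adj.counit_naturality p₁
    · exact adj.counit_naturality p₂
    · simp [π]
    · simp [π]
  obtain ⟨δ, hδ₁, hδ₂⟩ := (h A).2.refl (𝟙 A)
  have hreg : IsRegularEpi π := IsRegularEpiCategory.regularEpiOfEpi π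
  have hcoeq : IsColimit (Cofork.ofπ π hpb.w) := by
    have : IsKernelPair π p₁ p₂ := hpb
    exact this.toCoequalizer'
  refine ⟨Q, π, hpb, ?_, fun B' g => ?_⟩
  · refine IsPushout.of_isColimit' ⟨hpb.w⟩ ?_
    have key (s : PushoutCocone p₁ p₂) : s.inl = s.inr := by
      have := δ ≫= s.condition
      rwa [reassoc_of% hδ₁, reassoc_of% hδ₂] at this
    refine PushoutCocone.IsColimit.mk _
      (fun s => hcoeq.desc (Cofork.ofπ s.inl (by rw [s.condition, key s])))
      (fun s => hcoeq.fac _ WalkingParallelPair.one)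
      (fun s => (hcoeq.fac _ WalkingParallelPair.one).trans (key s))
      (fun s m hm _ => ?_)
    rw [← cancel_epi π, hm]
    exact (hcoeq.fac (Cofork.ofπ s.inl (by rw [s.condition, key s])) WalkingParallelPair.one).symm
  · have : Epi (pullback.snd π g) := QC.epi_of_isPullback (IsPullback.of_hasPullback π g)
    exact effectiveEpi_of_epi _

end Quotient

end Groth.Agent.Sga4A.GiraudAxioms
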