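import Groth.Agent.Sga4A.Giraud
import Groth.Agent.Sga4A.GiraudAxioms
import Mathlib.CategoryTheory.Sites.EqualizerSheafCondition
import Mathlib.CategoryTheory.Limits.Shapes.Opposites.Equalizers
import Mathlib.CategoryTheory.Limits.Shapes.Opposites.Products
import Mathlib.CategoryTheory.Limits.Preserves.Shapes.Equalizers
import Mathlib.CategoryTheory.Limits.Constructions.LimitsOfProductsAndEqualizers

/-!
# Sheaves for the canonical topology of a topos are the limit-preserving functors
-/

set_option autoImplicit false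
universe w v u

open CategoryTheory CategoryTheory.Limits Opposite

namespace Groth.Agent.Sga4A.CanonicalSheaf

open Giraud

variable {C : Type u} [SmallCategory C] {J : GrothendieckTopology C}

/-- The Giraud axioms for a sheaf topos. -/
lemma ax (J : GrothendieckTopology C) : Ax (Sheaf J (Type u)) :=
  Ax.mk' GiraudAxioms.hasDisjointUniversalCoproducts
    (fun _ _ _ _ h => GiraudAxioms.isEffectiveUniversal h)

/-- The sheaves associated to representables are a detecting family. -/
noncomputable def detecting (J : GrothendieckTopology C) : DetectingFamily (Sheaf J (Type u)) where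
  ι := C
  obj U := (presheafToSheaf J (Type u)).obj (yoneda.obj U)
  isIso {X Y} f hf := by
    have (U : Cᵒᵖ) : IsIso (f.hom.app U) := by
      obtain ⟨U⟩ := U
      rw [isIso_iff_bijective, Function.bijective_iff_existsUnique]
      intro y
      obtain ⟨h, hh, hu⟩ := hf U (GiraudAxioms.sec Y U y)
      obtain ⟨x, rfl⟩ := (GiraudAxioms.sec X U).surjective h
      refine ⟨x, ?_, ?_⟩
      · apply (GiraudAxioms.sec Y U).injective
        exact (GiraudAxioms.sec_comp f x).trans hh
      · intro x' hx'
        apply (GiraudAxioms.sec X U).injective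
        apply hu
        rw [← GiraudAxioms.sec_comp]
        exact congrArg _ hx'
    have : IsIso f.hom := NatIso.isIso_of_isIso_app _
    exact (isIso_iff_of_reflects_iso f (sheafToPresheaf J (Type u))).1 this

/-- A small jointly surjective family is a canonical covering. -/
lemma ofArrows_mem_canonical_of_js {ι : Type u} {X : Sheaf J (Type u)} {F : ι → Sheaf J (Type u)}
    (π : ∀ i, F i ⟶ X) (h : QC.JS π) :
    Sieve.ofArrows F π ∈ Sheaf.canonicalTopology (Sheaf J (Type u)) X := by
  have hc := coproductIsCoproduct F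
  refine ofArrows_mem_canonical (ax J) π hc ?_
  intro B' g
  have : Epi (Cofan.IsColimit.desc hc π) := by
    have h1 := (QC.js_iff_epi π).1 h
    have : Cofan.IsColimit.desc hc π = Sigma.desc π :=
      Cofan.IsColimit.hom_ext hc _ _ fun i => by
        rw [Cofan.IsColimit.fac]
        exact (Sigma.ι_desc (f := F) π i).symm
    rwa [this]
  have : Epi (pullback.snd (Cofan.IsColimit.desc hc π) g) :=
    QC.epi_of_isPullback (IsPullback.of_hasPullback _ g)
  exact GiraudAxioms.effectiveEpi_of_epi _

/-- A canonical covering contains a small jointly surjective family. -/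
lemma exists_js_of_mem_canonical {X : Sheaf J (Type u)} (S : Sieve X)
    (hS : S ∈ Sheaf.canonicalTopology (Sheaf J (Type u)) X) :
    ∃ (ι : Type u) (F : ι → Sheaf J (Type u)) (π : ∀ i, F i ⟶ X), QC.JS π ∧ ∀ i, S (π i) := by
  let T := Σ Z : Sheaf J (Type u), {f : Z ⟶ X // S f}
  have h : QC.JS (fun t : T => t.2.1) := by
    rw [QC.js_iff_epiFamily]
    intro Z a b hab
    exact (Sheaf.isSheaf_yoneda_obj Z _ hS).isSeparatedFor.ext (fun Y f hf => hab ⟨Y, f, hf⟩)
  obtain ⟨κ, e, he⟩ := h.exists_small
  exact ⟨κ, _, _, he, fun i => (e i).2.2⟩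

/-- Characterisation of canonical coverings. -/
lemma mem_canonical_iff {X : Sheaf J (Type u)} (S : Sieve X) :
    S ∈ Sheaf.canonicalTopology (Sheaf J (Type u)) X ↔
    ∃ (ι : Type u) (F : ι → Sheaf J (Type u)) (π : ∀ i, F i ⟶ X), QC.JS π ∧ ∀ i, S (π i) := by
  refine ⟨exists_js_of_mem_canonical S, ?_⟩
  rintro ⟨ι, F, π, h, h'⟩
  refine GrothendieckTopology.superset_covering _ ?_ (ofArrows_mem_canonical_of_js π h)
  rw [Sieve.ofArrows, Sieve.generate_le_iff, Presieve.ofArrows_le_iff]
  exact h'

section ToSheaf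

variable (P : (Sheaf J (Type u))ᵒᵖ ⥤ Type w) [PreservesLimitsOfSize.{u, u} P]

lemma isSheafFor_singleton_of_epi {A B : Sheaf J (Type u)} (π : A ⟶ B) [Epi π] :
    Presieve.IsSheafFor P (.singleton π) := by
  have : IsRegularEpi π := IsRegularEpiCategory.regularEpiOfEpi π
  have hk : IsKernelPair π (pullback.fst π π) (pullback.snd π π) := IsKernelPair.of_hasPullback _
  have : PreservesFiniteLimits P := PreservesLimitsOfSize.preservesFiniteLimits P
  rw [Equalizer.Presieve.isSheafFor_singleton_iff_of_hasPullback]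
  exact ⟨isLimitForkMapOfIsLimit P _
    (Cofork.isColimitOfπEquivIsLimitOp π π hk.w (by rw [← op_comp, hk.w]; rfl) rfl hk.toCoequalizer')⟩

lemma isSheafFor_ofArrows_of_js {ι : Type u} {X : Sheaf J (Type u)} {F : ι → Sheaf J (Type u)}
    (π : ∀ i, F i ⟶ X) (h : QC.JS π) : Presieve.IsSheafFor P (.ofArrows F π) := by
  have hc := coproductIsCoproduct F
  rw [← Presieve.isSheafFor_sigmaDesc_iff π hc ((ax J).univ hc) P]
  have : Epi (Cofan.IsColimit.desc hc π) := by
    have h1 := (QC.js_iff_epi π).1 h
    have : Cofan.IsColimit.desc hc π = Sigma.desc π :=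
      Cofan.IsColimit.hom_ext hc _ _ fun i => by
        rw [Cofan.IsColimit.fac]
        exact (Sigma.ι_desc (f := F) π i).symm
    rwa [this]
  exact isSheafFor_singleton_of_epi P _

lemma isSheaf_of_preserves : Presieve.IsSheaf (Sheaf.canonicalTopology (Sheaf J (Type u))) P := by
  intro X S hS
  obtain ⟨ι, F, π, hπ, hS'⟩ := exists_js_of_mem_canonical S hS
  refine Presieve.isSheafFor_subsieve (S := Sieve.ofArrows F π) P ?_ ?_
  · have : Sieve.ofArrows F π ≤ S := by
      rw [Sieve.ofArrows, Sieve.generate_le_iff, Presieve.ofArrows_le_iff]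
      exact hS'
    exact this
  · intro Y f
    rw [Sieve.ofArrows, ← Sieve.pullbackArrows_comm, ← Presieve.ofArrows_pullback,
      ← Presieve.isSheafFor_iff_generate]
    exact isSheafFor_ofArrows_of_js P _ (hπ.pullback_snd f)

end ToSheaf

section OfSheaf

variable {P : (Sheaf J (Type u))ᵒᵖ ⥤ Type w}
  (hP : Presieve.IsSheaf (Sheaf.canonicalTopology (Sheaf J (Type u))) P)

include hP

lemma existsUnique_amalg {ι : Type u} {Y : ι → Sheaf J (Type u)} {X : Sheaf J (Type u)}
    (f : ∀ i, Y i ⟶ X)
    (hf : QC.JS f) (x : ∀ i, P.obj (op (Y i)))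
    (hx : ∀ (i j : ι) (T : Sheaf J (Type u)) (g₁ : T ⟶ Y i) (g₂ : T ⟶ Y j), g₁ ≫ f i = g₂ ≫ f j →
      P.map g₁.op (x i) = P.map g₂.op (x j)) :
    ∃! t : P.obj (op X), ∀ i, P.map (f i).op t = x i := by
  have h1 := hP _ (ofArrows_mem_canonical_of_js f hf)
  rw [Sieve.ofArrows, ← Presieve.isSheafFor_iff_generate, Presieve.isSheafFor_arrows_iff] at h1
  exact h1 x hx

lemma existsUnique_cofan {κ : Type u} {Y : κ → Sheaf J (Type u)} {c : Cofan Y}
    (hc : IsColimit c) (x : ∀ k, P.obj (op (Y k))) :
    ∃! a : P.obj (op c.pt), ∀ k : κ, P.map (c.inj k).op a = x k := by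
  have hinj (k : κ) : Mono (c.inj k) := by
    have := (ax J).disj Y
    exact CoproductDisjoint.mono_inj hc k
  have hcov : QC.JS c.inj := by
    rw [QC.js_iff_epiFamily]
    intro Z a b hab
    exact Cofan.IsColimit.hom_ext hc _ _ hab
  refine existsUnique_amalg hP _ hcov x ?_
  intro i j T g₁ g₂ h
  by_cases hij : i = j
  · subst hij
    rw [cancel_mono] at h
    rw [h]
  · have h0 := hP _ (bot_mem_canonical_of_ne (ax J) hc hij g₁ g₂ h)
    exact h0.isSeparatedFor.ext (fun Y f hf => hf.elim)

/-- A canonical sheaf turns coequalizers into equalizers. -/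
lemma existsUnique_coequalizer {A B Q : Sheaf J (Type u)} (f g : B ⟶ A) (q : A ⟶ Q)
    (w : f ≫ q = g ≫ q) (hq : IsColimit (Cofork.ofπ q w)) (y : P.obj (op A))
    (hy : P.map f.op y = P.map g.op y) : ∃! x : P.obj (op Q), P.map q.op x = y := by
  have mapc {X Y Z : Sheaf J (Type u)} (f : X ⟶ Y) (g : Y ⟶ Z) (x : P.obj (op Z)) :
      P.map (f ≫ g).op x = P.map f.op (P.map g.op x) := by
    rw [op_comp, Functor.map_comp_apply]
  have hepi : Epi q := Cofork.IsColimit.epi hq
  -- the relation defined by `y`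
  let S : Sieve (A ⨯ A) :=
    { arrows := fun T h => P.map (h ≫ prod.fst).op y = P.map (h ≫ prod.snd).op y
      downward_closed := by
        intro T T' h hh t
        rw [Category.assoc, Category.assoc, mapc, mapc t]
        exact congrArg (P.map t.op) hh }
  obtain ⟨R, m, hm, hR⟩ := exists_mono_of_isClosed (ax J) (detecting J) S (by
    intro T h hh
    refine (hP _ hh).isSeparatedFor.ext ?_
    intro T' t ht
    rw [← mapc, ← mapc, ← Category.assoc, ← Category.assoc]
    exact ht)
  have hRiff {T : Sheaf J (Type u)} (s t : T ⟶ A) :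
      (∃ h : T ⟶ R, h ≫ m ≫ prod.fst = s ∧ h ≫ m ≫ prod.snd = t) ↔
      P.map s.op y = P.map t.op y := by
    constructor
    · rintro ⟨h, rfl, rfl⟩
      have := (hR (h ≫ m)).2 ⟨h, rfl⟩
      rw [← Category.assoc, ← Category.assoc]
      exact this
    · intro h
      obtain ⟨t', ht'⟩ := (hR (prod.lift s t)).1 (by
        change P.map _ y = P.map _ y
        rwa [prod.lift_fst, prod.lift_snd])
      exact ⟨t', by rw [← Category.assoc, ht', prod.lift_fst],
        by rw [← Category.assoc, ht', prod.lift_snd]⟩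
  have hER : SGA4.IsEquivRel (m ≫ prod.fst) (m ≫ prod.snd) := by
    intro T
    refine ⟨fun f g hfg => ?_, ⟨fun s => (hRiff s s).2 rfl, ?_, ?_⟩⟩
    · simp only [Prod.mk.injEq] at hfg
      rw [← cancel_mono m]
      apply Limits.prod.hom_ext
      · simpa only [Category.assoc] using hfg.1
      · simpa only [Category.assoc] using hfg.2
    · intro s t hst
      exact (hRiff t s).2 ((hRiff s t).1 hst).symm
    · intro s t r hst htr
      exact (hRiff s r).2 (((hRiff s t).1 hst).trans ((hRiff t r).1 htr))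
  obtain ⟨B', π, hpb, -, -⟩ := (ax J).quot _ _ _ _ hER
  have hRiff' {T : Sheaf J (Type u)} (s t : T ⟶ A) :
      s ≫ π = t ≫ π ↔ P.map s.op y = P.map t.op y := by
    rw [← hRiff]
    constructor
    · intro h
      exact ⟨hpb.lift s t h, hpb.lift_fst _ _ _, hpb.lift_snd _ _ _⟩
    · rintro ⟨h, rfl, rfl⟩
      rw [Category.assoc, Category.assoc h, hpb.w]
  -- `π` factors through `q`
  obtain ⟨t, ht⟩ : ∃ t : Q ⟶ B', q ≫ t = π :=
    ⟨hq.desc (Cofork.ofπ π ((hRiff' f g).2 hy)), hq.fac _ WalkingParallelPair.one⟩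
  obtain ⟨x, hx, hu⟩ := existsUnique_amalg hP (fun _ : PUnit.{u+1} => q) ((QC.js_punit q).2 hepi)
    (fun _ => y) (by
      intro _ _ T g₁ g₂ h
      rw [← hRiff', ← ht, reassoc_of% h])
  exact ⟨x, hx ⟨⟩, fun x' hx' => hu x' (fun _ => hx')⟩

lemma preservesLimitsOfShape_discrete (κ : Type u) : PreservesLimitsOfShape (Discrete κ) P where
  preservesLimit {K} := by
    obtain ⟨Y, rfl⟩ : ∃ Y : κ → Sheaf J (Type u), K = Discrete.functor (fun k => op (Y k)) := by
      obtain ⟨Y, hY⟩ := GiraudVK.exists_eq_discreteFunctor K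
      exact ⟨fun k => (Y k).unop, hY⟩
    have hc := coproductIsCoproduct Y
    refine preservesLimit_of_preserves_limit_cone (Cofan.IsColimit.op hc) (Nonempty.some ?_)
    rw [Types.isLimit_iff]
    intro s hs
    obtain ⟨x, hx, hu⟩ := existsUnique_cofan hP hc (fun k => s ⟨k⟩)
    refine ⟨x, fun j => hx j.as, fun x' hx' => hu x' fun k => hx' ⟨k⟩⟩

lemma preservesLimitsOfShape_parallelPair : PreservesLimitsOfShape WalkingParallelPair P where
  preservesLimit {K} := by
    suffices h : ∀ {X Y : (Sheaf J (Type u))ᵒᵖ} (a b : X ⟶ Y), PreservesLimit (parallelPair a b) P from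
      have := h (K.map .left) (K.map .right)
      preservesLimit_of_iso_diagram P (diagramIsoParallelPair K).symm
    intro X Y a b
    have hc := coequalizerIsCoequalizer a.unop b.unop
    have hl := Cofork.isColimitOfπEquivIsLimitOp (coequalizer.π a.unop b.unop)
      (coequalizer.π a.unop b.unop) (coequalizer.condition _ _)
      (by rw [← op_comp, coequalizer.condition]; rfl) rfl hc
    refine preservesLimit_of_preserves_limit_cone hl
      ((isLimitMapConeForkEquiv P _).symm (Nonempty.some ?_))
    rw [Types.type_equalizer_iff_unique]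
    intro y hy
    exact existsUnique_coequalizer hP _ _ _ _ hc y hy

lemma preserves_of_isSheaf : PreservesLimitsOfSize.{u, u} P := by
  have h1 := preservesLimitsOfShape_parallelPair hP
  have h2 := preservesLimitsOfShape_discrete hP
  exact preservesLimits_of_preservesEqualizers_and_products P

end OfSheaf

theorem isSheaf_iff (P : (Sheaf J (Type u))ᵒᵖ ⥤ Type w) :
    Presieve.IsSheaf (Sheaf.canonicalTopology (Sheaf J (Type u))) P ↔
      PreservesLimitsOfSize.{u, u} P :=
  ⟨preserves_of_isSheaf, fun _ => isSheaf_of_preserves P⟩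

theorem presheafIsSheaf_iff {E' : Type v} [Category.{w} E'] (F : (Sheaf J (Type u))ᵒᵖ ⥤ E') :
    Presheaf.IsSheaf (Sheaf.canonicalTopology (Sheaf J (Type u))) F ↔
      PreservesLimitsOfSize.{u, u} F := by
  constructor
  · intro h
    refine ⟨fun {I} _ => ⟨fun {K} => ⟨fun {c} hc => ⟨?_⟩⟩⟩⟩
    refine coyonedaJointlyReflectsLimits _ _ fun X => ?_
    have := (isSheaf_iff (F ⋙ coyoneda.obj X)).1 (h X.unop)
    exact isLimitOfPreserves (F ⋙ coyoneda.obj X) hc
  · intro h X
    exact (isSheaf_iff _).2 inferInstance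

end Groth.Agent.Sga4A.CanonicalSheaf
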