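import Groth.Agent.Sga4A.JSDesc
import Mathlib.CategoryTheory.Sites.LocallyBijective
import Mathlib.CategoryTheory.Sites.Limits

/-!
# Sections of a colimit of sheaves of sets: local zigzags, sheafified representables

* `locally_zigzag`: two sections of the `D i`, `D j` with the same image in a colimit of a diagram of sheaves
  are locally connected by a zigzag.
* `eps J U`-style objects: `ysh J U` is the sheaf associated to `yoneda.obj U` and `yshEquiv : (ysh J U ⟶ F) ≃ F(U)`.
* `js_ysh`: a family of maps `ysh J U ⟶ X` given by sections which locally contains every section is jointly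
  surjective.
-/

set_option autoImplicit false

universe w w' u

open CategoryTheory CategoryTheory.Limits Opposite ToposFin

namespace Groth.Agent.Sga4A.ColimZigzag

open Groth.Agent.Sga4A.QC

variable {C : Type u} [SmallCategory C] {J : GrothendieckTopology C}

/-- two elements with the same image in a colimit of presheaves of types are connected by a zigzag -/
lemma zigzag_of_presheaf {I : Type u} [SmallCategory I] (D : I ⥤ (Cᵒᵖ ⥤ Type u)) {c : Cocone D}
    (hc : IsColimit c) {i j : I} {U : Cᵒᵖ} (x : (D.obj i).obj U) (y : (D.obj j).obj U)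
    (hxy : (c.ι.app i).app U x = (c.ι.app j).app U y) :
    Relation.EqvGen (D ⋙ (evaluation _ _).obj U).ColimitTypeRel ⟨i, x⟩ ⟨j, y⟩ := by
  let G : (Cᵒᵖ ⥤ Type u) ⥤ Type u := (evaluation _ _).obj U
  have hc' : IsColimit (G.mapCocone c) := isColimitOfPreserves G hc
  let e := hc'.coconePointUniqueUpToIso (colimit.isColimit (D ⋙ G))
  apply Types.colimit_eq
  have h₁ : (G.mapCocone c).ι.app i ≫ e.hom = colimit.ι (D ⋙ G) i :=
    hc'.comp_coconePointUniqueUpToIso_hom _ i
  have h₂ : (G.mapCocone c).ι.app j ≫ e.hom = colimit.ι (D ⋙ G) j :=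
    hc'.comp_coconePointUniqueUpToIso_hom _ j
  rw [← h₁, ← h₂]
  exact congrArg e.hom hxy

/-- two sections with the same image in a colimit of sheaves of sets are locally connected by a zigzag -/
lemma locally_zigzag {I : Type u} [SmallCategory I] (D : I ⥤ Sh J) {c : Cocone D} (hc : IsColimit c)
    {i j : I} {U : C} (x : (D.obj i).obj.obj (op U)) (y : (D.obj j).obj.obj (op U))
    (hxy : (c.ι.app i).hom.app (op U) x = (c.ι.app j).hom.app (op U) y) :
    ∃ S ∈ J U, ∀ (V : C) (g : V ⟶ U), S g →
      Relation.EqvGen ((D ⋙ sheafToPresheaf J _) ⋙ (evaluation _ _).obj (op V)).ColimitTypeRel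
        ⟨i, (D.obj i).obj.map g.op x⟩ ⟨j, (D.obj j).obj.map g.op y⟩ := by
  let E : Cocone (D ⋙ sheafToPresheaf J (Type u)) := colimit.cocone _
  let hE : IsColimit E := colimit.isColimit _
  let e := hc.coconePointUniqueUpToIso (Sheaf.isColimitSheafifyCocone E hE)
  have h₁ : c.ι.app i ≫ e.hom = (Sheaf.sheafifyCocone E).ι.app i :=
    hc.comp_coconePointUniqueUpToIso_hom _ i
  have h₂ : c.ι.app j ≫ e.hom = (Sheaf.sheafifyCocone E).ι.app j :=
    hc.comp_coconePointUniqueUpToIso_hom _ j
  have h₃ := Sheaf.sheafifyCocone_ι_app_val E i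
  have h₄ := Sheaf.sheafifyCocone_ι_app_val E j
  have key : (toSheafify J E.pt).app (op U) ((E.ι.app i).app (op U) x) =
      (toSheafify J E.pt).app (op U) ((E.ι.app j).app (op U) y) := by
    have a₁ : (toSheafify J E.pt).app (op U) ((E.ι.app i).app (op U) x) =
        ((Sheaf.sheafifyCocone E).ι.app i).hom.app (op U) x := by rw [h₃]; rfl
    have a₂ : (toSheafify J E.pt).app (op U) ((E.ι.app j).app (op U) y) =
        ((Sheaf.sheafifyCocone E).ι.app j).hom.app (op U) y := by rw [h₄]; rfl
    rw [a₁, a₂, ← h₁, ← h₂]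
    exact congrArg (e.hom.hom.app (op U)) hxy
  refine ⟨_, Presheaf.equalizerSieve_mem J (toSheafify J E.pt) _ _ key, ?_⟩
  intro V g hg
  apply zigzag_of_presheaf (D ⋙ sheafToPresheaf J (Type u)) hE
  have b₁ := NatTrans.naturality_apply (E.ι.app i) g.op x
  have b₂ := NatTrans.naturality_apply (E.ι.app j) g.op y
  exact b₁.trans (hg.trans b₂.symm)

variable (J) in
/-- The sheaf associated to a representable presheaf. -/
noncomputable abbrev ysh (U : C) : Sh J := (presheafToSheaf J (Type u)).obj (yoneda.obj U)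

/-- Sections are maps out of the sheaf associated to a representable. -/
noncomputable def yshEquiv (U : C) (F : Sh J) : (ysh J U ⟶ F) ≃ F.obj.obj (op U) :=
  ((sheafificationAdjunction J (Type u)).homEquiv (yoneda.obj U) F).trans yonedaEquiv

/-- The universal section of `ysh J U` over `U`. -/
noncomputable def univ (U : C) : (ysh J U).obj.obj (op U) := yshEquiv U _ (𝟙 _)

lemma yshEquiv_comp {U : C} {F G : Sh J} (a : ysh J U ⟶ F) (f : F ⟶ G) :
    yshEquiv U G (a ≫ f) = f.hom.app (op U) (yshEquiv U F a) := by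
  simp only [yshEquiv, Equiv.trans_apply]
  rw [Adjunction.homEquiv_naturality_right]
  rfl

lemma yshEquiv_eq {U : C} {F : Sh J} (a : ysh J U ⟶ F) :
    yshEquiv U F a = a.hom.app (op U) (univ U) := by
  rw [univ, ← yshEquiv_comp, Category.id_comp]

/-- The map out of `ysh J U` attached to a section. -/
noncomputable def mk {U : C} {F : Sh J} (x : F.obj.obj (op U)) : ysh J U ⟶ F := (yshEquiv U F).symm x

@[simp]
lemma mk_univ {U : C} {F : Sh J} (x : F.obj.obj (op U)) : (mk x).hom.app (op U) (univ U) = x := by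
  rw [← yshEquiv_eq, mk, Equiv.apply_symm_apply]

lemma mk_comp {U : C} {F G : Sh J} (x : F.obj.obj (op U)) (f : F ⟶ G) :
    mk x ≫ f = mk (f.hom.app (op U) x) := by
  apply (yshEquiv U G).injective
  rw [yshEquiv_comp, mk, mk, Equiv.apply_symm_apply, Equiv.apply_symm_apply]

lemma ysh_hom_ext {U : C} {F : Sh J} {a b : ysh J U ⟶ F}
    (h : a.hom.app (op U) (univ U) = b.hom.app (op U) (univ U)) : a = b := by
  apply (yshEquiv U F).injective
  rw [yshEquiv_eq, yshEquiv_eq, h]

/-- A family of sections (as maps from sheafified representables) which locally contains every section is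
jointly surjective. -/
lemma js_ysh {ι : Type w} {X : Sh J} (U : ι → C) (x : ∀ i, X.obj.obj (op (U i)))
    (h : ∀ (V : C) (s : X.obj.obj (op V)), ∃ S ∈ J V, ∀ (W : C) (g : W ⟶ V), S g →
      ∃ (i : ι) (e : W = U i), X.obj.map (eqToHom e).op (x i) = X.obj.map g.op s) :
    JS (fun i => mk (x i)) := by
  intro V s
  obtain ⟨S, hS, h⟩ := h V s
  refine ⟨S, hS, fun W g hg => ?_⟩
  obtain ⟨i, rfl, hi⟩ := h W g hg
  refine ⟨i, univ (U i), ?_⟩
  rw [← hi, mk_univ]
  simp

/-- The family of all sections is jointly surjective. -/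
lemma js_all (X : Sh J) : JS (fun p : Σ U : C, X.obj.obj (op U) => mk p.2) := by
  apply js_ysh (fun p : Σ U : C, X.obj.obj (op U) => p.1) (fun p => p.2)
  intro V s
  exact ⟨⊤, J.top_mem V, fun W g _ => ⟨⟨W, X.obj.map g.op s⟩, rfl, by simp⟩⟩

end Groth.Agent.Sga4A.ColimZigzag
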