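import Groth.Prelude.Def_SGA4a
import Mathlib.CategoryTheory.ObjectProperty.FullSubcategory
import Mathlib.CategoryTheory.Sites.LocallyBijective
import Mathlib.CategoryTheory.Limits.Preserves.Shapes.BinaryProducts
import Mathlib.CategoryTheory.Limits.Preserves.FunctorCategory
import Mathlib.CategoryTheory.Limits.FunctorCategory.Basic
import Mathlib.CategoryTheory.Comma.Over.Pullback

/-!
The closed complement of an open (subterminal) sheaf in the topos of sheaves of sets
on a small site: explicit reflector `X ↦ (c ↦ (IsEmpty (U c) → X c))^#`.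
-/

set_option autoImplicit false
universe w v u
open CategoryTheory CategoryTheory.Limits Opposite

namespace Groth.Agent.Sga4A.OpenClosed

section elem

variable {E : Type v} [Category.{w} E]

/-- Elements of the image of a binary product under a product preserving functor to types. -/
lemma bijective_prod (G : E ⥤ Type u) (A B : E) [HasBinaryProduct A B]
    [PreservesLimit (pair A B) G] :
    Function.Bijective (fun x : G.obj (A ⨯ B) =>
      ((G.map prod.fst x : G.obj A), (G.map prod.snd x : G.obj B))) := by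
  have h := mapIsLimitOfPreservesOfIsLimit G _ _ (prodIsProd A B)
  let e := h.conePointUniqueUpToIso (Types.binaryProductLimit (G.obj A) (G.obj B))
  have h1 : e.hom ≫ (Types.binaryProductCone (G.obj A) (G.obj B)).fst = G.map prod.fst :=
    h.conePointUniqueUpToIso_hom_comp (Types.binaryProductLimit (G.obj A) (G.obj B)) ⟨WalkingPair.left⟩
  have h2 : e.hom ≫ (Types.binaryProductCone (G.obj A) (G.obj B)).snd = G.map prod.snd :=
    h.conePointUniqueUpToIso_hom_comp (Types.binaryProductLimit (G.obj A) (G.obj B)) ⟨WalkingPair.right⟩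
  have h3 : (fun x : G.obj (A ⨯ B) =>
      ((G.map prod.fst x : G.obj A), (G.map prod.snd x : G.obj B))) = (e.hom : _ → _) := by
    funext x
    refine Prod.ext ?_ ?_
    · exact (ConcreteCategory.congr_hom h1 x).symm
    · exact (ConcreteCategory.congr_hom h2 x).symm
  rw [h3]
  exact (isIso_iff_bijective e.hom).1 inferInstance

end elem

variable {C : Type u} [SmallCategory C] {J : GrothendieckTopology C}

/-- The functor of sections over `c`. -/
abbrev sec (J : GrothendieckTopology C) (c : Cᵒᵖ) : Sheaf J (Type u) ⥤ Type u :=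
  sheafToPresheaf J (Type u) ⋙ (evaluation Cᵒᵖ (Type u)).obj c

lemma subsingleton_of_isOpen {U : Sheaf J (Type u)} (hU : SGA4.IsOpen U) (c : Cᵒᵖ) :
    Subsingleton (U.obj.obj c) := by
  have h : Mono ((sec J c).map (terminal.from U)) := inferInstance
  rw [mono_iff_injective] at h
  have h' : IsTerminal ((sec J c).obj (⊤_ (Sheaf J (Type u)))) :=
    IsTerminal.isTerminalObj (sec J c) _ terminalIsTerminal
  have := (Types.isTerminalEquivUnique _ h')
  exact ⟨fun a b => h (Subsingleton.elim _ _)⟩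

lemma isIso_iff_sections {X Y : Sheaf J (Type u)} (m : X ⟶ Y) :
    IsIso m ↔ ∀ c : Cᵒᵖ, Function.Bijective (m.hom.app c) := by
  rw [← isIso_iff_of_reflects_iso _ (sheafToPresheaf _ _), NatTrans.isIso_iff_isIso_app]
  exact forall_congr' fun c => isIso_iff_bijective _

/-- `Z` is in the closed complement of `U` iff `Z(c)` is a singleton as soon as `U(c)` is nonempty. -/
lemma closedCompl_iff {U : Sheaf J (Type u)} (Z : Sheaf J (Type u)) :
    SGA4.closedCompl U Z ↔ ∀ c : Cᵒᵖ, Nonempty (U.obj.obj c) → Nonempty (Unique (Z.obj.obj c)) := by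
  unfold SGA4.closedCompl
  rw [isIso_iff_sections]
  refine forall_congr' fun c => ?_
  have hb := bijective_prod (sec J c) U Z
  constructor
  · rintro h ⟨u⟩
    obtain ⟨x, hx⟩ := h.2 u
    refine ⟨⟨⟨((sec J c).map prod.snd x : Z.obj.obj c)⟩, fun z => ?_⟩⟩
    obtain ⟨y, hy⟩ := hb.2 (u, z)
    have hy1 := congrArg Prod.fst hy
    have hy2 := congrArg Prod.snd hy
    dsimp at hy1 hy2
    have : x = y := h.1 (by rw [hx]; exact hy1.symm)
    subst this
    exact hy2.symm
  · intro h
    constructor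
    · intro x y hxy
      apply hb.1
      obtain ⟨hu⟩ := h ⟨((prod.fst : U ⨯ Z ⟶ U).hom.app c x)⟩
      exact Prod.ext hxy (hu.instSubsingleton.elim _ _)
    · intro u
      obtain ⟨hu⟩ := h ⟨u⟩
      obtain ⟨y, hy⟩ := hb.2 (u, hu.default)
      exact ⟨y, congrArg Prod.fst hy⟩

section Q

variable {D : Type u} [SmallCategory D]

/-- The presheaf `c ↦ (IsEmpty (U c) → X c)`, functorially in the presheaf `X`. -/
@[simps]
def Q (U : Dᵒᵖ ⥤ Type u) : (Dᵒᵖ ⥤ Type u) ⥤ (Dᵒᵖ ⥤ Type u) where
  obj X :=
    { obj := fun c => (IsEmpty (U.obj c) → X.obj c)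
      map := fun f => ↾fun s h => X.map f (s ⟨fun u => h.false (U.map f u)⟩)
      map_id := fun c => by
        ext s h
        simp
      map_comp := fun f g => by
        ext s h
        simp }
  map m :=
    { app := fun c => ↾fun s h => m.app c (s h)
      naturality := fun c d f => by
        ext s h
        simp [NatTrans.naturality_apply] }
  map_id X := by
    ext c s h
    simp
  map_comp m n := by
    ext c s h
    simp

/-- The functor `A ↦ (p → A)` for a proposition `p`. -/
@[simps]
def powProp (p : Prop) : Type u ⥤ Type u where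
  obj A := (p → A)
  map f := ↾fun s h => f (s h)

/-- It is corepresentable. -/
def powPropIso (p : Prop) : powProp.{u} p ≅ coyoneda.obj (op (ULift.{u} (PLift p))) :=
  NatIso.ofComponents (fun A =>
    { hom := ↾fun s => ↾fun h => s h.down.down
      inv := ↾fun (s : ULift.{u} (PLift p) ⟶ A) h => s ⟨⟨h⟩⟩
      hom_inv_id := by
        ext s
        rfl
      inv_hom_id := by
        ext s
        rfl })
    (fun f => by
      ext s
      rfl)

instance (p : Prop) : PreservesLimitsOfSize.{u, u} (powProp.{u} p) :=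
  preservesLimits_of_natIso (powPropIso p).symm

instance preservesLimits_Q (U : Dᵒᵖ ⥤ Type u) : PreservesLimitsOfSize.{u, u} (Q U) := by
  constructor
  intro K _
  refine preservesLimitsOfShape_of_evaluation _ _ fun c => ?_
  have e : Q U ⋙ (evaluation Dᵒᵖ (Type u)).obj c ≅
      (evaluation Dᵒᵖ (Type u)).obj c ⋙ powProp (IsEmpty (U.obj c)) :=
    NatIso.ofComponents (fun X => Iso.refl _) (fun f => by rfl)
  exact preservesLimitsOfShape_of_natIso e.symm

/-- The canonical map `X ⟶ Q U X`. -/
@[simps]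
def toQ (U X : Dᵒᵖ ⥤ Type u) : X ⟶ (Q U).obj X where
  app c := ↾fun x _ => x
  naturality c d f := by
    ext s
    rfl

/-- `toQ` is natural in `X`. -/
lemma toQ_naturality (U : Dᵒᵖ ⥤ Type u) {X Y : Dᵒᵖ ⥤ Type u} (m : X ⟶ Y) :
    m ≫ toQ U Y = toQ U X ≫ (Q U).map m := by
  ext c s
  rfl

/-- The canonical map `U ⟶ Q U X`. -/
@[simps]
def fromU (U X : Dᵒᵖ ⥤ Type u) : U ⟶ (Q U).obj X where
  app c := ↾fun x h => (h.false x).elim
  naturality c d f := by
    ext s
    funext h
    exact (h.false (U.map f s)).elim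

open Classical in
/-- Descent of a compatible pair of maps `U ⟶ Z`, `X ⟶ Z` to `Q U X ⟶ Z`. -/
noncomputable def descQ {U X Z : Dᵒᵖ ⥤ Type u} (hU : ∀ c, Subsingleton (U.obj c))
    (a : U ⟶ Z) (b : X ⟶ Z)
    (hab : ∀ (c : Dᵒᵖ) (u : U.obj c) (x : X.obj c), a.app c u = b.app c x) : (Q U).obj X ⟶ Z where
  app c := ↾fun s => if h : Nonempty (U.obj c) then a.app c h.some else
    b.app c (s (not_nonempty_iff.1 h))
  naturality c d f := by
    ext s
    dsimp
    by_cases hc : Nonempty (U.obj c)
    · have hd : Nonempty (U.obj d) := ⟨U.map f hc.some⟩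
      rw [dif_pos hc, dif_pos hd, ← NatTrans.naturality_apply]
      congr 1
      exact (hU d).elim _ _
    · rw [dif_neg hc]
      by_cases hd : Nonempty (U.obj d)
      · rw [dif_pos hd, ← NatTrans.naturality_apply]
        exact hab _ _ _
      · rw [dif_neg hd, ← NatTrans.naturality_apply]
        rfl

lemma toQ_descQ {U X Z : Dᵒᵖ ⥤ Type u} (hU : ∀ c, Subsingleton (U.obj c))
    (a : U ⟶ Z) (b : X ⟶ Z)
    (hab : ∀ (c : Dᵒᵖ) (u : U.obj c) (x : X.obj c), a.app c u = b.app c x) :
    toQ U X ≫ descQ hU a b hab = b := by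
  ext c x
  dsimp [descQ]
  split_ifs with h
  · exact hab _ _ _
  · rfl

lemma fromU_descQ {U X Z : Dᵒᵖ ⥤ Type u} (hU : ∀ c, Subsingleton (U.obj c))
    (a : U ⟶ Z) (b : X ⟶ Z)
    (hab : ∀ (c : Dᵒᵖ) (u : U.obj c) (x : X.obj c), a.app c u = b.app c x) :
    fromU U X ≫ descQ hU a b hab = a := by
  ext c x
  dsimp [descQ]
  rw [dif_pos ⟨x⟩]
  congr 1
  exact (hU c).elim _ _

lemma Q_hom_ext {U X Z : Dᵒᵖ ⥤ Type u} {f g : (Q U).obj X ⟶ Z}
    (h₁ : fromU U X ≫ f = fromU U X ≫ g) (h₂ : toQ U X ≫ f = toQ U X ≫ g) : f = g := by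
  ext c s
  by_cases h : Nonempty (U.obj c)
  · obtain ⟨u⟩ := h
    have : s = (fromU U X).app c u := by
      funext h
      exact (h.false u).elim
    rw [this]
    exact ConcreteCategory.congr_hom (NatTrans.congr_app h₁ c) u
  · have h' := not_nonempty_iff.1 h
    have : s = (toQ U X).app c (s h') := by
      funext h
      rfl
    rw [this]
    exact ConcreteCategory.congr_hom (NatTrans.congr_app h₂ c) (s h')

end Q

section sheaf

variable (U : Sheaf J (Type u))

/-- The reflector onto the closed complement of `U`, as an endofunctor. -/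
noncomputable abbrev F : Sheaf J (Type u) ⥤ Sheaf J (Type u) :=
  sheafToPresheaf J (Type u) ⋙ Q U.obj ⋙ presheafToSheaf J (Type u)

instance preservesFiniteLimits_F : PreservesFiniteLimits (F U) := by
  have : PreservesFiniteLimits (Q U.obj) :=
    PreservesLimitsOfSize.preservesFiniteLimits _
  have h1 : PreservesFiniteLimits (sheafToPresheaf J (Type u)) := inferInstance
  have h2 : PreservesFiniteLimits (presheafToSheaf J (Type u)) := inferInstance
  have h3 : PreservesFiniteLimits (Q U.obj ⋙ presheafToSheaf J (Type u)) :=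
    comp_preservesFiniteLimits _ _
  exact comp_preservesFiniteLimits _ _

/-- `X ⟶ F U X`. -/
noncomputable def inX (X : Sheaf J (Type u)) : X ⟶ (F U).obj X :=
  ⟨toQ U.obj X.obj ≫ toSheafify J ((Q U.obj).obj X.obj)⟩

/-- `U ⟶ F U X`. -/
noncomputable def inU (X : Sheaf J (Type u)) : U ⟶ (F U).obj X :=
  ⟨fromU U.obj X.obj ≫ toSheafify J ((Q U.obj).obj X.obj)⟩

lemma inX_naturality {X Y : Sheaf J (Type u)} (m : X ⟶ Y) :
    m ≫ inX U Y = inX U X ≫ (F U).map m := by
  ext : 1
  dsimp [inX, F]
  rw [← Category.assoc, toQ_naturality, Category.assoc, Category.assoc]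
  congr 1
  exact toSheafify_naturality J _

variable {U}

lemma F_hom_ext {X Z : Sheaf J (Type u)} {f g : (F U).obj X ⟶ Z} (h₁ : inU U X ≫ f = inU U X ≫ g)
    (h₂ : inX U X ≫ f = inX U X ≫ g) : f = g := by
  ext : 1
  refine sheafify_hom_ext J _ _ Z.property ?_
  refine Q_hom_ext ?_ ?_
  · exact congrArg (·.hom) h₁
  · exact congrArg (·.hom) h₂

/-- The universal property of `F U X` as the pushout of `U ← U × X → X`. -/
noncomputable def descF (hU : ∀ c, Subsingleton (U.obj.obj c)) {X Z : Sheaf J (Type u)}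
    (a : U ⟶ Z) (b : X ⟶ Z)
    (hab : ∀ (c : Cᵒᵖ) (u : U.obj.obj c) (x : X.obj.obj c), a.hom.app c u = b.hom.app c x) :
    (F U).obj X ⟶ Z :=
  ⟨sheafifyLift J (descQ hU a.hom b.hom hab) Z.property⟩

lemma inX_descF (hU : ∀ c, Subsingleton (U.obj.obj c)) {X Z : Sheaf J (Type u)}
    (a : U ⟶ Z) (b : X ⟶ Z)
    (hab : ∀ (c : Cᵒᵖ) (u : U.obj.obj c) (x : X.obj.obj c), a.hom.app c u = b.hom.app c x) :
    inX U X ≫ descF hU a b hab = b := by
  ext : 1
  dsimp [inX, descF]
  rw [Category.assoc, toSheafify_sheafifyLift, toQ_descQ]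

lemma inU_descF (hU : ∀ c, Subsingleton (U.obj.obj c)) {X Z : Sheaf J (Type u)}
    (a : U ⟶ Z) (b : X ⟶ Z)
    (hab : ∀ (c : Cᵒᵖ) (u : U.obj.obj c) (x : X.obj.obj c), a.hom.app c u = b.hom.app c x) :
    inU U X ≫ descF hU a b hab = a := by
  ext : 1
  dsimp [inU, descF]
  rw [Category.assoc, toSheafify_sheafifyLift, fromU_descQ]

lemma prod_condition_iff {X Z : Sheaf J (Type u)} (a : U ⟶ Z) (b : X ⟶ Z) :
    ((prod.fst : U ⨯ X ⟶ U) ≫ a = prod.snd ≫ b) ↔
    (∀ (c : Cᵒᵖ) (u : U.obj.obj c) (x : X.obj.obj c), a.hom.app c u = b.hom.app c x) := by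
  constructor
  · intro h c u x
    obtain ⟨y, hy⟩ := (bijective_prod (sec J c) U X).2 (u, x)
    have hy1 : (prod.fst : U ⨯ X ⟶ U).hom.app c y = u := congrArg Prod.fst hy
    have hy2 : (prod.snd : U ⨯ X ⟶ X).hom.app c y = x := congrArg Prod.snd hy
    rw [← hy1, ← hy2]
    exact ConcreteCategory.congr_hom (NatTrans.congr_app (congrArg (·.hom) h) c) y
  · intro h
    ext c y
    exact h c _ _

lemma isPushout_F (hU : ∀ c, Subsingleton (U.obj.obj c)) (X : Sheaf J (Type u)) :
    IsPushout (prod.fst : U ⨯ X ⟶ U) prod.snd (inU U X) (inX U X) := by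
  refine ⟨⟨?_⟩, ⟨PushoutCocone.IsColimit.mk _ (fun s => descF hU s.inl s.inr ?_)
    (fun s => inU_descF _ _ _ _) (fun s => inX_descF _ _ _ _) ?_⟩⟩
  · rw [prod_condition_iff]
    intro c u x
    dsimp [inU, inX]
    congr 1
    funext h
    exact (h.false u).elim
  · rw [← prod_condition_iff]
    exact s.condition
  · intro s m h₁ h₂
    exact F_hom_ext (by rw [h₁, inU_descF]) (by rw [h₂, inX_descF])

lemma closedCompl_F (X : Sheaf J (Type u)) : SGA4.closedCompl U ((F U).obj X) := by
  rw [closedCompl_iff]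
  rintro c ⟨u⟩
  have key : ∀ z z' : ((F U).obj X).obj.obj c, z = z' := by
    intro z z'
    have hsurj : Presheaf.IsLocallySurjective J (toSheafify J ((Q U.obj).obj X.obj)) :=
      inferInstance
    have h1 := Presheaf.imageSieve_mem J (toSheafify J ((Q U.obj).obj X.obj)) z
    have h2 := Presheaf.imageSieve_mem J (toSheafify J ((Q U.obj).obj X.obj)) z'
    have hsep := ((isSheaf_iff_isSheaf_of_type _ _).1 ((F U).obj X).property).isSeparated
    refine (hsep _ (J.intersection_covering h1 h2)).ext ?_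
    rintro d f ⟨⟨s, hs⟩, ⟨s', hs'⟩⟩
    refine hs.symm.trans (Eq.trans ?_ hs')
    congr 1
    funext h
    exact (h.false (U.obj.map f.op u)).elim
  exact ⟨⟨⟨(inU U X).hom.app c u⟩, fun z => key _ _⟩⟩

lemma inU_eq_of_closedCompl {X Z : Sheaf J (Type u)} (hZ : SGA4.closedCompl U Z) (a : U ⟶ Z)
    (b : X ⟶ Z) (c : Cᵒᵖ) (u : U.obj.obj c) (x : X.obj.obj c) : a.hom.app c u = b.hom.app c x := by
  rw [closedCompl_iff] at hZ
  obtain ⟨h⟩ := hZ c ⟨u⟩
  exact h.instSubsingleton.elim _ _

open Classical in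
/-- The unique map from `U` to an object of the closed complement. -/
noncomputable def uniqueU {Z : Sheaf J (Type u)} (hZ : SGA4.closedCompl U Z) : U ⟶ Z :=
  ⟨{ app := fun c => ↾fun u => (((closedCompl_iff Z).1 hZ c ⟨u⟩).some).default
     naturality := fun c d f => by
      ext u
      exact (((closedCompl_iff Z).1 hZ d ⟨U.obj.map f u⟩).some).instSubsingleton.elim _ _ }⟩

lemma uniqueU_eq {Z : Sheaf J (Type u)} (hZ : SGA4.closedCompl U Z) (a b : U ⟶ Z) : a = b := by
  ext c u
  exact (((closedCompl_iff Z).1 hZ c ⟨u⟩).some).instSubsingleton.elim _ _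

/-- Precomposition with `inX` is a bijection for targets in the closed complement. -/
lemma bijective_comp_inX (hU : ∀ c, Subsingleton (U.obj.obj c)) (X : Sheaf J (Type u))
    {Z : Sheaf J (Type u)} (hZ : SGA4.closedCompl U Z) :
    Function.Bijective (fun f : (F U).obj X ⟶ Z => inX U X ≫ f) := by
  constructor
  · intro f g h
    exact F_hom_ext (uniqueU_eq hZ _ _) h
  · intro g
    exact ⟨descF hU (uniqueU hZ) g (inU_eq_of_closedCompl hZ _ _), inX_descF _ _ _ _⟩

/-- The reflector. -/
noncomputable def L (U : Sheaf J (Type u)) :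
    Sheaf J (Type u) ⥤ (SGA4.closedCompl U).FullSubcategory :=
  (SGA4.closedCompl U).lift (F U) closedCompl_F

/-- The adjunction. -/
noncomputable def adj (hU : ∀ c, Subsingleton (U.obj.obj c)) : L U ⊣ (SGA4.closedCompl U).ι :=
  Adjunction.mkOfHomEquiv
    { homEquiv := fun X Z =>
        ((SGA4.closedCompl U).fullyFaithfulι.homEquiv (X := (L U).obj X) (Y := Z)).trans
          (Equiv.ofBijective _ (bijective_comp_inX hU X Z.property))
      homEquiv_naturality_left_symm := by
        intro X' X Z f g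
        rw [Equiv.symm_apply_eq]
        have h : inX U X ≫ (((((SGA4.closedCompl U).fullyFaithfulι.homEquiv (X := (L U).obj X)
          (Y := Z)).trans (Equiv.ofBijective _ (bijective_comp_inX hU X Z.property))).symm g).hom) = g :=
          (((SGA4.closedCompl U).fullyFaithfulι.homEquiv (X := (L U).obj X)
          (Y := Z)).trans (Equiv.ofBijective _ (bijective_comp_inX hU X Z.property))).apply_symm_apply g
        change f ≫ g = inX U X' ≫ (F U).map f ≫ _
        rw [← Category.assoc, ← inX_naturality, Category.assoc]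
        exact (congrArg (f ≫ ·) h).symm
      homEquiv_naturality_right := by
        intro X Z Z' f g
        change inX U X ≫ f.hom ≫ g.hom = (inX U X ≫ f.hom) ≫ g.hom
        rw [Category.assoc] }

instance preservesFiniteLimits_L : PreservesFiniteLimits (L U) := by
  have h : PreservesFiniteLimits (L U ⋙ (SGA4.closedCompl U).ι) :=
    preservesFiniteLimits_F U
  exact preservesFiniteLimits_of_reflects_of_preserves (L U) (SGA4.closedCompl U).ι

/-- S3083. -/
theorem closedCompl_lex_reflective (hU : SGA4.IsOpen U) :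
    ∃ (L : Sheaf J (Type u) ⥤ (SGA4.closedCompl U).FullSubcategory)
      (_ : L ⊣ (SGA4.closedCompl U).ι), PreservesFiniteLimits L ∧
      ∀ X : Sheaf J (Type u), Nonempty (((SGA4.closedCompl U).ι).obj (L.obj X) ≅
        pushout (prod.fst : U ⨯ X ⟶ U) (prod.snd : U ⨯ X ⟶ X)) :=
  ⟨L U, adj (subsingleton_of_isOpen hU), inferInstance, fun X =>
    ⟨(isPushout_F (subsingleton_of_isOpen hU) X).isoPushout⟩⟩

end sheaf

end Groth.Agent.Sga4A.OpenClosed
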