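import Groth.Agent.Sga4A.OpenClosed
import Mathlib.CategoryTheory.Adjunction.Triple
import Mathlib.CategoryTheory.Comma.Over.Pullback
import Mathlib.CategoryTheory.Limits.ConcreteCategory.Basic
import Mathlib.CategoryTheory.Sites.Whiskering

/-!
Joint conservativity of restriction to an open subtopos and reflection to its closed complement.
-/

set_option autoImplicit false
universe w v u
open CategoryTheory CategoryTheory.Limits Opposite

namespace Groth.Agent.Sga4A.OpenClosed2

open Groth.Agent.Sga4A.OpenClosed

variable {C : Type u} [SmallCategory C] {J : GrothendieckTopology C} {U : Sheaf J (Type u)}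

lemma isIso_of_isIso_F {X Y : Sheaf J (Type u)} (m : X ⟶ Y)
    (h1 : ∀ c, Nonempty (U.obj.obj c) → Function.Bijective (m.hom.app c))
    (h2 : IsIso ((F U).map m)) : IsIso m := by
  have hW : J.W ((Q U.obj).map m.hom) := (J.W_iff _).2 h2
  have hinj := hW.isLocallyInjective
  have hsurj := hW.isLocallySurjective
  have hC : J.HasSheafCompose (forget (Type u)) := inferInstance
  refine (Sheaf.isLocallyBijective_iff_isIso (CA := fun X : Type u => X) m).1 ?_
  constructor
  · constructor
    intro c x y hxy
    have := Presheaf.equalizerSieve_mem J ((Q U.obj).map m.hom)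
      ((toQ U.obj X.obj).app c x) ((toQ U.obj X.obj).app c y) (by
        funext h
        exact hxy)
    refine J.superset_covering ?_ this
    intro d f hf
    dsimp at hf ⊢
    by_cases hd : Nonempty (U.obj.obj (op d))
    · apply (h1 _ hd).1
      have e1 := NatTrans.naturality_apply m.hom f.op x
      have e2 := NatTrans.naturality_apply m.hom f.op y
      exact e1.trans ((congrArg _ hxy).trans e2.symm)
    · exact congrFun hf (not_nonempty_iff.1 hd)
  · constructor
    intro c y
    have := Presheaf.imageSieve_mem J ((Q U.obj).map m.hom) ((toQ U.obj Y.obj).app (op c) y)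
    refine J.superset_covering ?_ this
    rintro d f ⟨s, hs⟩
    by_cases hd : Nonempty (U.obj.obj (op d))
    · exact (h1 _ hd).2 _
    · exact ⟨s (not_nonempty_iff.1 hd), congrFun hs (not_nonempty_iff.1 hd)⟩

lemma bijective_of_isIso_star {X Y : Sheaf J (Type u)} (m : X ⟶ Y)
    (h : IsIso ((Over.star U).map m)) (c : Cᵒᵖ) (hc : Nonempty (U.obj.obj c)) :
    Function.Bijective (m.hom.app c) := by
  have h' : IsIso (prod.map (𝟙 U) m) := by
    have : IsIso ((Over.forget U).map ((Over.star U).map m)) := inferInstance
    have e : (Over.forget U).map ((Over.star U).map m) = prod.map (𝟙 U) m := by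
      simp
    rwa [e] at this
  rw [isIso_iff_sections] at h'
  have hb := h' c
  have hX := bijective_prod (sec J c) U X
  have hY := bijective_prod (sec J c) U Y
  have key : ∀ z : (sec J c).obj (U ⨯ X),
      ((sec J c).map prod.fst ((sec J c).map (prod.map (𝟙 U) m) z) = (sec J c).map prod.fst z) ∧
      ((sec J c).map prod.snd ((sec J c).map (prod.map (𝟙 U) m) z) =
        (sec J c).map m ((sec J c).map prod.snd z)) := by
    intro z
    constructor
    · rw [← Functor.map_comp_apply, prod.map_fst, Category.comp_id]
    · rw [← Functor.map_comp_apply, prod.map_snd, Functor.map_comp_apply]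
  obtain ⟨u⟩ := hc
  constructor
  · intro x x' hxx'
    obtain ⟨z, hz⟩ := hX.2 (u, x)
    obtain ⟨z', hz'⟩ := hX.2 (u, x')
    have e1 := congrArg Prod.fst hz
    have e2 := congrArg Prod.snd hz
    have e1' := congrArg Prod.fst hz'
    have e2' := congrArg Prod.snd hz'
    dsimp only at e1 e2 e1' e2'
    have : z = z' := by
      apply hb.1
      apply hY.1
      refine Prod.ext ?_ ?_
      · refine ((key z).1.trans ?_).trans (key z').1.symm
        rw [e1, e1']
      · refine ((key z).2.trans ?_).trans (key z').2.symm
        rw [e2, e2']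
        exact hxx'
    rw [← e2, ← e2', this]
  · intro y
    obtain ⟨w, hw⟩ := hY.2 (u, y)
    obtain ⟨z, hz⟩ := hb.2 w
    refine ⟨(sec J c).map prod.snd z, ?_⟩
    have e2 := congrArg Prod.snd hw
    dsimp only at e2
    rw [← e2]
    refine ((key z).2.symm).trans ?_
    exact congrArg _ hz

/-- S3084. -/
theorem isIso_iff_of_adj (hU : SGA4.IsOpen U)
    (L' : Sheaf J (Type u) ⥤ (SGA4.closedCompl U).FullSubcategory)
    (adj' : L' ⊣ (SGA4.closedCompl U).ι) {X Y : Sheaf J (Type u)} (m : X ⟶ Y) :
    IsIso m ↔ IsIso ((Over.star U).map m) ∧ IsIso (L'.map m) := by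
  constructor
  · intro _
    exact ⟨inferInstance, inferInstance⟩
  · rintro ⟨h1, h2⟩
    have h3 : IsIso ((L U).map m) :=
      ((NatIso.isIso_map_iff (adj'.leftAdjointUniq (adj (subsingleton_of_isOpen hU))) m).1 h2)
    have h4 : IsIso ((SGA4.closedCompl U).ι.map ((L U).map m)) := inferInstance
    exact isIso_of_isIso_F m (bijective_of_isIso_star m h1) h4

end Groth.Agent.Sga4A.OpenClosed2
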