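import Mathlib.CategoryTheory.Comma.Basic
import Mathlib.CategoryTheory.Adjunction.Basic
import Mathlib.CategoryTheory.Adjunction.FullyFaithful
import Mathlib.CategoryTheory.Adjunction.Reflective
import Mathlib.CategoryTheory.Limits.Shapes.Pullback.IsPullback.Basic
import Mathlib.CategoryTheory.Limits.Preserves.Finite
import Mathlib.CategoryTheory.Limits.Preserves.Shapes.Pullbacks

/-!
Abstract Artin glueing: a category `E` with two reflective-type adjunctions
`L ⊣ i` (closed part), `R ⊣ j` (open part), `L, R` left exact, `R i` terminal and `(L, R)` jointly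
conservative is equivalent to the comma category `Comma (𝟭 F) (j ⋙ L)`.
-/

set_option autoImplicit false
set_option linter.unusedSectionVars false
open CategoryTheory CategoryTheory.Limits

namespace Groth.Agent.Sga4A.ArtinGlue

universe v₁ v₂ v₃ u₁ u₂ u₃

variable {E : Type u₁} [Category.{v₁} E] {F : Type u₂} [Category.{v₂} F] {G : Type u₃}
  [Category.{v₃} G] {L : E ⥤ F} {i : F ⥤ E} (adjL : L ⊣ i) {R : E ⥤ G} {j : G ⥤ E}
  (adjR : R ⊣ j)

/-- The comparison functor `X ↦ (L X, R X, L X ⟶ L j R X)`. -/
@[simps]
def glue : E ⥤ Comma (𝟭 F) (j ⋙ L) where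
  obj X := { left := L.obj X, right := R.obj X, hom := L.map (adjR.unit.app X) }
  map f :=
    { left := L.map f
      right := R.map f
      w := by
        dsimp
        rw [← L.map_comp, ← L.map_comp]
        congr 1
        exact adjR.unit.naturality f }

section

variable [i.Full] [i.Faithful] [j.Full] [j.Faithful] [HasPullbacks E] [PreservesFiniteLimits L]
  [PreservesFiniteLimits R]
  (hterm : ∀ Y : F, Nonempty (IsTerminal (R.obj (i.obj Y))))

include hterm in
lemma isIso_R_map_i {Y Z : F} (f : i.obj Y ⟶ i.obj Z) : IsIso (R.map f) := by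
  obtain ⟨hY⟩ := hterm Y
  obtain ⟨hZ⟩ := hterm Z
  exact ⟨hY.from _, hY.hom_ext _ _, hZ.hom_ext _ _⟩

include hterm in
lemma isIso_R_snd {Y : F} {Z : G} (h : Y ⟶ L.obj (j.obj Z)) :
    IsIso (R.map (pullback.snd (i.map h) (adjL.unit.app (j.obj Z)))) := by
  have h1 := (IsPullback.of_hasPullback (i.map h) (adjL.unit.app (j.obj Z))).map R
  have := isIso_R_map_i (i := i) (R := R) hterm (i.map h)
  exact h1.isIso_snd_of_isIso

lemma isIso_L_fst {Y : F} {Z : G} (h : Y ⟶ L.obj (j.obj Z)) :
    IsIso (L.map (pullback.fst (i.map h) (adjL.unit.app (j.obj Z)))) := by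
  have h1 := (IsPullback.of_hasPullback (i.map h) (adjL.unit.app (j.obj Z))).map L
  have : IsIso (L.map (adjL.unit.app (j.obj Z))) := inferInstance
  exact h1.isIso_fst_of_isIso

variable (hcons : ∀ {X Y : E} (m : X ⟶ Y), IsIso (R.map m) → IsIso (L.map m) → IsIso m)

include hterm hcons in
lemma isPullback_unit (X : E) :
    IsPullback (adjL.unit.app X) (adjR.unit.app X) (i.map (L.map (adjR.unit.app X)))
      (adjL.unit.app (j.obj (R.obj X))) := by
  have sq : CommSq (adjL.unit.app X) (adjR.unit.app X) (i.map (L.map (adjR.unit.app X)))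
      (adjL.unit.app (j.obj (R.obj X))) := ⟨(adjL.unit.naturality (adjR.unit.app X)).symm⟩
  let m : X ⟶ pullback (i.map (L.map (adjR.unit.app X))) (adjL.unit.app (j.obj (R.obj X))) :=
    pullback.lift _ _ sq.w
  have m1 : m ≫ pullback.fst _ _ = adjL.unit.app X := pullback.lift_fst _ _ _
  have m2 : m ≫ pullback.snd _ _ = adjR.unit.app X := pullback.lift_snd _ _ _
  have hR : IsIso (R.map m) := by
    have h1 := isIso_R_snd (j := j) adjL hterm (L.map (adjR.unit.app X))
    have h3 : IsIso (R.map (adjR.unit.app X)) := inferInstance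
    have h2 : IsIso (R.map m ≫ R.map (pullback.snd (i.map (L.map (adjR.unit.app X)))
        (adjL.unit.app (j.obj (R.obj X))))) := by
      rw [← R.map_comp, m2]
      exact h3
    exact IsIso.of_isIso_comp_right _ (R.map (pullback.snd (i.map (L.map (adjR.unit.app X)))
        (adjL.unit.app (j.obj (R.obj X)))))
  have hL : IsIso (L.map m) := by
    have h1 := isIso_L_fst (j := j) adjL (L.map (adjR.unit.app X))
    have h3 : IsIso (L.map (adjL.unit.app X)) := inferInstance
    have h2 : IsIso (L.map m ≫ L.map (pullback.fst (i.map (L.map (adjR.unit.app X)))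
        (adjL.unit.app (j.obj (R.obj X))))) := by
      rw [← L.map_comp, m1]
      exact h3
    exact IsIso.of_isIso_comp_right _ (L.map (pullback.fst (i.map (L.map (adjR.unit.app X)))
        (adjL.unit.app (j.obj (R.obj X)))))
  have := hcons m hR hL
  exact IsPullback.of_iso_pullback sq (asIso m) m1 m2

include adjL hterm hcons in
lemma faithful_glue : (glue (L := L) adjR).Faithful where
  map_injective {X Y f g} h := by
    have hl : L.map f = L.map g := congrArg (·.left) h
    have hr : R.map f = R.map g := congrArg (·.right) h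
    apply (isPullback_unit adjL adjR hterm hcons Y).hom_ext
    · have e1 := adjL.unit.naturality f
      have e2 := adjL.unit.naturality g
      dsimp at e1 e2
      rw [e1, e2, hl]
    · have e1 := adjR.unit.naturality f
      have e2 := adjR.unit.naturality g
      dsimp at e1 e2
      rw [e1, e2, hr]

include adjL hterm hcons in
lemma exists_lift {X Y : E} (a : L.obj X ⟶ L.obj Y) (b : R.obj X ⟶ R.obj Y)
    (hw : a ≫ L.map (adjR.unit.app Y) = L.map (adjR.unit.app X) ≫ L.map (j.map b)) :
    ∃ f : X ⟶ Y, L.map f = a ∧ R.map f = b := by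
  have hP := isPullback_unit adjL adjR hterm hcons Y
  have hc : (adjL.unit.app X ≫ i.map a) ≫ i.map (L.map (adjR.unit.app Y)) =
      (adjR.unit.app X ≫ j.map b) ≫ adjL.unit.app (j.obj (R.obj Y)) := by
    have e := adjL.unit.naturality (adjR.unit.app X ≫ j.map b)
    dsimp at e
    rw [Category.assoc, ← i.map_comp, hw, e, L.map_comp]
  refine ⟨hP.lift _ _ hc, ?_, ?_⟩
  · apply (adjL.homEquiv _ _).injective
    rw [Adjunction.homEquiv_unit, Adjunction.homEquiv_unit]
    have e := adjL.unit.naturality (hP.lift _ _ hc)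
    exact e.symm.trans (hP.lift_fst _ _ _)
  · apply (adjR.homEquiv _ _).injective
    rw [Adjunction.homEquiv_unit, Adjunction.homEquiv_unit]
    have e := adjR.unit.naturality (hP.lift _ _ hc)
    exact e.symm.trans (hP.lift_snd _ _ _)

include adjL hterm hcons in
lemma full_glue : (glue (L := L) adjR).Full where
  map_surjective {X Y} φ := by
    obtain ⟨f, h1, h2⟩ := exists_lift adjL adjR hterm hcons (X := X) (Y := Y) φ.left φ.right φ.w
    exact ⟨f, Comma.hom_ext _ _ h1 h2⟩

include adjL hterm in
lemma essSurj_glue : (glue (L := L) adjR).EssSurj where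
  mem_essImage := by
    rintro ⟨Y, Z, h⟩
    change Y ⟶ L.obj (j.obj Z) at h
    have i1 := isIso_R_snd (j := j) adjL hterm h
    have i2 := isIso_L_fst (j := j) adjL h
    let W := pullback (i.map h) (adjL.unit.app (j.obj Z))
    let α : L.obj W ⟶ Y := L.map (pullback.fst (i.map h) (adjL.unit.app (j.obj Z))) ≫ adjL.counit.app Y
    let β : R.obj W ⟶ Z := R.map (pullback.snd (i.map h) (adjL.unit.app (j.obj Z))) ≫ adjR.counit.app Z
    have hα : IsIso α := IsIso.comp_isIso
    have hβ : IsIso β := IsIso.comp_isIso
    refine ⟨W, ⟨Comma.isoMk (@asIso _ _ _ _ α hα) (@asIso _ _ _ _ β hβ) ?_⟩⟩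
    change α ≫ h = L.map (adjR.unit.app W) ≫ L.map (j.map β)
    have e1 : α ≫ h = L.map (pullback.snd (i.map h) (adjL.unit.app (j.obj Z))) := by
      have e := adjL.counit.naturality h
      dsimp at e
      rw [Category.assoc, ← e, ← L.map_comp_assoc, pullback.condition, L.map_comp, Category.assoc]
      exact (congrArg (L.map (pullback.snd (i.map h) (adjL.unit.app (j.obj Z))) ≫ ·)
        (adjL.left_triangle_components _)).trans (Category.comp_id _)
    have e2 : adjR.unit.app W ≫ j.map β = pullback.snd (i.map h) (adjL.unit.app (j.obj Z)) := by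
      have e := adjR.unit.naturality (pullback.snd (i.map h) (adjL.unit.app (j.obj Z)))
      dsimp at e
      rw [j.map_comp, ← reassoc_of% e, adjR.right_triangle_components, Category.comp_id]
    rw [e1, ← L.map_comp, e2]

include adjL hterm hcons in
/-- Artin glueing. -/
theorem isEquivalence_glue : (glue (L := L) adjR).IsEquivalence := by
  have := faithful_glue adjL adjR hterm hcons
  have := full_glue adjL adjR hterm hcons
  have := essSurj_glue adjL adjR hterm
  exact {}

end

end Groth.Agent.Sga4A.ArtinGlue
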