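import Groth.Agent.Sga4A.OpenClosed2
import Groth.Agent.Sga4A.ArtinGlue

/-!
Artin glueing for an open sheaf of a topos of sheaves of sets on a small site.
-/

set_option autoImplicit false
universe w v u
open CategoryTheory CategoryTheory.Limits Opposite

namespace Groth.Agent.Sga4A.OpenClosed3

open Groth.Agent.Sga4A.OpenClosed Groth.Agent.Sga4A.OpenClosed2

variable {C : Type u} [SmallCategory C] {J : GrothendieckTopology C} {U : Sheaf J (Type u)}

lemma hom_eq_of_isOpen (hU : SGA4.IsOpen U) {X : Sheaf J (Type u)} (a b : X ⟶ U) : a = b := by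
  ext c x
  exact (subsingleton_of_isOpen hU c).elim _ _

lemma full_forget (hU : SGA4.IsOpen U) : (Over.forget U).Full where
  map_surjective f := ⟨Over.homMk f (hom_eq_of_isOpen hU _ _), rfl⟩

lemma full_faithful_rightAdjoint (hU : SGA4.IsOpen U) [(Over.star U).IsLeftAdjoint] :
    (Over.star U).rightAdjoint.Full ∧ (Over.star U).rightAdjoint.Faithful := by
  let t : Adjunction.Triple (Over.forget U) (Over.star U) (Over.star U).rightAdjoint :=
    { adj₁ := Over.forgetAdjStar U
      adj₂ := Adjunction.ofIsLeftAdjoint (Over.star U) }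
  have := full_forget hU
  have h := t.fullyFaithfulEquiv (Functor.FullyFaithful.ofFullyFaithful _)
  exact ⟨h.full, h.faithful⟩

lemma isTerminal_star {Y : Sheaf J (Type u)} (hY : SGA4.closedCompl U Y) :
    Nonempty (IsTerminal ((Over.star U).obj Y)) := by
  have h : IsIso (prod.fst : U ⨯ Y ⟶ U) := hY
  let e : (Over.star U).obj Y ≅ Over.mk (𝟙 U) :=
    Over.isoMk (@asIso _ _ _ _ (prod.fst : U ⨯ Y ⟶ U) h) (by
      simp only [Over.star_obj_hom, Over.mk_hom, asIso_hom, Category.comp_id]
      exact (prod.lift_fst _ _).symm)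
  exact ⟨Over.mkIdTerminal.ofIso e.symm⟩

/-- S3085. -/
theorem nonempty_equiv (hU : SGA4.IsOpen U) [(Over.star U).IsLeftAdjoint]
    (L' : Sheaf J (Type u) ⥤ (SGA4.closedCompl U).FullSubcategory)
    (adj' : L' ⊣ (SGA4.closedCompl U).ι) :
    Nonempty (Sheaf J (Type u) ≌
      Comma (𝟭 (SGA4.closedCompl U).FullSubcategory) ((Over.star U).rightAdjoint ⋙ L')) := by
  obtain ⟨h1, h2⟩ := full_faithful_rightAdjoint hU
  have hL : PreservesFiniteLimits L' :=
    preservesFiniteLimits_of_natIso ((adj (subsingleton_of_isOpen hU)).leftAdjointUniq adj')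
  have hR : PreservesFiniteLimits (Over.star U) := inferInstance
  have := ArtinGlue.isEquivalence_glue adj' (Adjunction.ofIsLeftAdjoint (Over.star U))
    (fun Y => isTerminal_star Y.property)
    (fun m h1 h2 => (isIso_iff_of_adj hU L' adj' m).2 ⟨h1, h2⟩)
  exact ⟨(ArtinGlue.glue (L := L') (Adjunction.ofIsLeftAdjoint (Over.star U))).asEquivalence⟩

end Groth.Agent.Sga4A.OpenClosed3
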