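import Groth.Agent.Sga4A.GlueComma
import Groth.Prelude.Def_SGA4a
import Mathlib.CategoryTheory.EffectiveEpi.Comp

/-!
# Coproducts and equivalence relations in `Comma (𝟭 A) ρ`
-/

set_option autoImplicit false
universe w w' v v' u u'
open CategoryTheory CategoryTheory.Limits

namespace Groth.Agent.Sga4A.GlueComma

section

variable {A : Type u} [Category.{v} A] {B : Type u'} [Category.{v'} B] {ρ : B ⥤ A}
variable [HasPullbacks A] [HasPullbacks B] [PreservesLimitsOfShape WalkingCospan ρ]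

/-- Universality of a cocone in the comma category can be checked on components. -/
theorem isUniversalColimit_of {J : Type w} [Category.{w'} J] {F : J ⥤ Comma (𝟭 A) ρ} {c : Cocone F}
    (h₁ : IsUniversalColimit ((Comma.fst (𝟭 A) ρ).mapCocone c))
    (h₂ : IsUniversalColimit ((Comma.snd (𝟭 A) ρ).mapCocone c)) : IsUniversalColimit c := by
  intro F' c' α f h hα hj
  have e₁ := h₁ ((Comma.fst (𝟭 A) ρ).mapCocone c') (Functor.whiskerRight α (Comma.fst (𝟭 A) ρ))
    ((Comma.fst (𝟭 A) ρ).map f) (by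
      ext j
      exact congrArg CommaMorphism.left (NatTrans.congr_app h j)) (hα.whiskerRight _)
    (fun j => (hj j).map (Comma.fst (𝟭 A) ρ))
  have e₂ := h₂ ((Comma.snd (𝟭 A) ρ).mapCocone c') (Functor.whiskerRight α (Comma.snd (𝟭 A) ρ))
    ((Comma.snd (𝟭 A) ρ).map f) (by
      ext j
      exact congrArg CommaMorphism.right (NatTrans.congr_app h j)) (hα.whiskerRight _)
    (fun j => (hj j).map (Comma.snd (𝟭 A) ρ))
  exact ⟨Comma.fstSndJointlyReflectColimit e₁.some e₂.some⟩

/-- Disjointness of coproducts in the comma category can be checked on components. -/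
theorem coproductDisjoint_of {ι : Type w} (X : ι → Comma (𝟭 A) ρ)
    [HasCoproductsOfShape ι A] [HasCoproductsOfShape ι B]
    (h₁ : CoproductDisjoint (fun i => (X i).left)) (h₂ : CoproductDisjoint (fun i => (X i).right)) :
    CoproductDisjoint X := by
  have hc := coproductIsCoproduct X
  have hl : IsColimit (Cofan.mk (∐ X).left (fun i => (Sigma.ι X i).left)) :=
    isColimitCofanMkObjOfIsColimit (Comma.fst (𝟭 A) ρ) X _ hc
  have hr : IsColimit (Cofan.mk (∐ X).right (fun i => (Sigma.ι X i).right)) :=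
    isColimitCofanMkObjOfIsColimit (Comma.snd (𝟭 A) ρ) X _ hc
  have hm : ∀ i, Mono ((Cofan.mk (∐ X) (Sigma.ι X)).inj i) := fun i =>
    mono_of _ (Mono.of_coproductDisjoint hl i) (Mono.of_coproductDisjoint hr i)
  refine CoproductDisjoint.of_cofan hc
    (fun {i j} _ => PullbackCone.mk (pullback.fst (Sigma.ι X i) (Sigma.ι X j))
      (pullback.snd (Sigma.ι X i) (Sigma.ι X j)) pullback.condition)
    (fun {i j} _ => (IsPullback.of_hasPullback (Sigma.ι X i) (Sigma.ι X j)).isLimit)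
    (fun {i j} hij => ?_)
  have k := IsPullback.of_hasPullback (Sigma.ι X i) (Sigma.ι X j)
  have kl := isPullback_left k
  have kr := isPullback_right k
  exact isInitialOf
    (IsInitial.ofCoproductDisjointOfIsColimitOfIsLimit hij hl kl.isLimit)
    (IsInitial.ofCoproductDisjointOfIsColimitOfIsLimit hij hr kr.isLimit)

end

section

variable {E : Type u} [Category.{w} E] {E' : Type u'} [Category.{w} E']

/-- Functors preserving pullbacks and (products given by) jointly monic pairs preserve equivalence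
relations. -/
theorem isEquivRel_map [HasFiniteLimits E] (G : E ⥤ E') [PreservesFiniteLimits G] {R A : E}
    (p₁ p₂ : R ⟶ A) (h : SGA4.IsEquivRel p₁ p₂) : SGA4.IsEquivRel (G.map p₁) (G.map p₂) := by
  -- reflexivity, symmetry, transitivity
  obtain ⟨r, hr1, hr2⟩ := (h A).2.refl (𝟙 A)
  obtain ⟨s, hs1, hs2⟩ := (h R).2.symm (x := p₁) (y := p₂) ⟨𝟙 R, by simp, by simp⟩
  have k := IsPullback.of_hasPullback p₂ p₁
  obtain ⟨t, ht1, ht2⟩ := (h (pullback p₂ p₁)).2.trans (x := pullback.fst p₂ p₁ ≫ p₁)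
    (y := pullback.fst p₂ p₁ ≫ p₂) (z := pullback.snd p₂ p₁ ≫ p₂) ⟨pullback.fst p₂ p₁, rfl, rfl⟩
    ⟨pullback.snd p₂ p₁, by rw [pullback.condition], rfl⟩
  -- joint mono: the kernel pair of (p₁, p₂) : R ⟶ A × A is trivial
  have hm : Mono (prod.lift p₁ p₂) := ⟨fun {T} a b hab => by
    apply (h T).1
    have e1 := congrArg (· ≫ prod.fst) hab
    have e2 := congrArg (· ≫ prod.snd) hab
    simp only [Category.assoc, prod.lift_fst, prod.lift_snd] at e1 e2
    exact Prod.ext e1 e2⟩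
  have hm' : Mono (G.map (prod.lift p₁ p₂)) := inferInstance
  have hprod := isLimitOfHasBinaryProductOfPreservesLimit G A A
  intro T
  refine ⟨?_, ⟨?_, ?_, ?_⟩⟩
  · intro a b hab
    rw [← cancel_mono (G.map (prod.lift p₁ p₂))]
    have e1 : a ≫ G.map p₁ = b ≫ G.map p₁ := congrArg Prod.fst hab
    have e2 : a ≫ G.map p₂ = b ≫ G.map p₂ := congrArg Prod.snd hab
    apply BinaryFan.IsLimit.hom_ext hprod
    · change (a ≫ G.map (prod.lift p₁ p₂)) ≫ G.map prod.fst =
        (b ≫ G.map (prod.lift p₁ p₂)) ≫ G.map prod.fst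
      rw [Category.assoc, Category.assoc, ← G.map_comp, prod.lift_fst, e1]
    · change (a ≫ G.map (prod.lift p₁ p₂)) ≫ G.map prod.snd =
        (b ≫ G.map (prod.lift p₁ p₂)) ≫ G.map prod.snd
      rw [Category.assoc, Category.assoc, ← G.map_comp, prod.lift_snd, e2]
  · intro a
    exact ⟨a ≫ G.map r, by rw [Category.assoc, ← G.map_comp, hr1, G.map_id, Category.comp_id],
      by rw [Category.assoc, ← G.map_comp, hr2, G.map_id, Category.comp_id]⟩
  · rintro a b ⟨f, hf1, hf2⟩
    exact ⟨f ≫ G.map s, by rw [Category.assoc, ← G.map_comp, hs1, hf2],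
      by rw [Category.assoc, ← G.map_comp, hs2, hf1]⟩
  · rintro a b c ⟨f, hf1, hf2⟩ ⟨g, hg1, hg2⟩
    have k' := k.map G
    refine ⟨k'.lift f g (by rw [hf2, hg1]) ≫ G.map t, ?_, ?_⟩
    · rw [Category.assoc, ← G.map_comp, ht1, G.map_comp, IsPullback.lift_fst_assoc, hf1]
    · rw [Category.assoc, ← G.map_comp, ht2, G.map_comp, IsPullback.lift_snd_assoc, hg2]

end

section

variable {A : Type u} [Category.{w} A] {B : Type u'} [Category.{w} B] {ρ : B ⥤ A}
variable [HasFiniteLimits A] [HasFiniteLimits B] [PreservesFiniteLimits ρ]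

instance : PreservesFiniteLimits (Comma.fst (𝟭 A) ρ) := ⟨fun _ _ _ => inferInstance⟩
instance : PreservesFiniteLimits (Comma.snd (𝟭 A) ρ) := ⟨fun _ _ _ => inferInstance⟩

/-- Equivalence relations in the comma category are effective and universal if they are so in both
components. -/
theorem isEffectiveUniversalEquivRel_of
    (hA : ∀ (R X : A) (p₁ p₂ : R ⟶ X), SGA4.IsEquivRel p₁ p₂ →
      SGA4.IsEffectiveUniversalEquivRel p₁ p₂)
    (hB : ∀ (R X : B) (p₁ p₂ : R ⟶ X), SGA4.IsEquivRel p₁ p₂ →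
      SGA4.IsEffectiveUniversalEquivRel p₁ p₂)
    (R X : Comma (𝟭 A) ρ) (p₁ p₂ : R ⟶ X) (h : SGA4.IsEquivRel p₁ p₂) :
    SGA4.IsEffectiveUniversalEquivRel p₁ p₂ := by
  obtain ⟨Q₁, π₁, hpb₁, hpo₁, hu₁⟩ := hA _ _ _ _ (isEquivRel_map (Comma.fst (𝟭 A) ρ) p₁ p₂ h)
  obtain ⟨Q₂, π₂, hpb₂, hpo₂, hu₂⟩ := hB _ _ _ _ (isEquivRel_map (Comma.snd (𝟭 A) ρ) p₁ p₂ h)
  have hw₁ := p₁.w
  have hw₂ := p₂.w
  dsimp at hw₁ hw₂
  have hcond : p₁.left ≫ X.hom ≫ ρ.map π₂ = p₂.left ≫ X.hom ≫ ρ.map π₂ := by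
    have hw₃ : p₁.right ≫ π₂ = p₂.right ≫ π₂ := hpb₂.w
    rw [reassoc_of% hw₁, reassoc_of% hw₂, ← ρ.map_comp, ← ρ.map_comp, hw₃]
  let Q : Comma (𝟭 A) ρ :=
    { left := Q₁
      right := Q₂
      hom := hpo₁.desc (X.hom ≫ ρ.map π₂) (X.hom ≫ ρ.map π₂) hcond }
  let π : X ⟶ Q :=
    { left := π₁
      right := π₂
      w := hpo₁.inl_desc _ _ _ }
  refine ⟨Q, π, isPullback_of hpb₁ hpb₂, isPushout_of hpo₁ hpo₂, ?_⟩
  intro B' g
  have k := IsPullback.of_hasPullback π g
  have kl := isPullback_left k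
  have kr := isPullback_right k
  have el : EffectiveEpi (pullback.snd π g).left := by
    have h1 := hu₁ B'.left g.left
    have h2 : (pullback.snd π g).left = kl.isoPullback.hom ≫ pullback.snd π₁ g.left :=
      kl.isoPullback_hom_snd.symm
    rw [h2]
    infer_instance
  have er : EffectiveEpi (pullback.snd π g).right := by
    have h1 := hu₂ B'.right g.right
    have h2 : (pullback.snd π g).right = kr.isoPullback.hom ≫ pullback.snd π₂ g.right :=
      kr.isoPullback_hom_snd.symm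
    rw [h2]
    infer_instance
  exact effectiveEpi_of _

end

end Groth.Agent.Sga4A.GlueComma
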