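import Mathlib.CategoryTheory.Sites.LeftExact
import Mathlib.CategoryTheory.Sites.Limits
import Mathlib.CategoryTheory.Presentable.Presheaf
import Mathlib.CategoryTheory.Presentable.Type
import Mathlib.CategoryTheory.Presentable.OrthogonalReflection
import Mathlib.CategoryTheory.Presentable.Adjunction
import Mathlib.CategoryTheory.Limits.FullSubcategory

/-!
# The topos of sheaves of sets on a small site is locally presentable

* `exists_bound`: there is a regular cardinal `κ₀` such that for every regular `κ ≥ κ₀`, the inclusion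
  `Sheaf J (Type u) ⥤ Cᵒᵖ ⥤ Type u` is `κ`-accessible and `Sheaf J (Type u)` is `κ`-locally presentable.
-/

set_option autoImplicit false
universe w v u
open CategoryTheory CategoryTheory.Limits Opposite

namespace Groth.Agent.Sga4A.ShPresentable

/-- A common regular upper bound for a small family of cardinals. -/
theorem exists_regular_ge {ι : Type w} (κ : ι → Cardinal.{w}) :
    ∃ κ' : Cardinal.{w}, κ'.IsRegular ∧ ∀ i, κ i ≤ κ' := by
  obtain ⟨κ', h₁, h₂⟩ := HasCardinalLT.exists_regular_cardinal_forall.{w}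
    (fun i => (κ i).ord.ToType)
  exact ⟨κ', h₁, fun i => le_of_lt (by simpa [hasCardinalLT_iff_cardinal_mk_lt] using h₂ i)⟩

variable {C : Type u} [SmallCategory C] (J : GrothendieckTopology C)

/-- The inclusions of covering sieves. -/
def covW : MorphismProperty (Cᵒᵖ ⥤ Type u) :=
  .ofHoms (fun (p : Σ U : C, {S : Sieve U // S ∈ J U}) => p.2.1.functorInclusion)

theorem isSheaf_iff_isLocal (P : Cᵒᵖ ⥤ Type u) :
    Presheaf.IsSheaf J P ↔ (covW J).isLocal P := by
  rw [isSheaf_iff_isSheaf_of_type, MorphismProperty.isLocal_iff]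
  constructor
  · rintro h _ _ _ ⟨⟨U, S, hS⟩⟩
    have := Presieve.isSheafFor_iff_yonedaSheafCondition.1 (h S hS)
    rw [Function.bijective_iff_existsUnique]
    exact this
  · intro h U S hS
    rw [Presieve.isSheafFor_iff_yonedaSheafCondition]
    have := h S.functorInclusion ⟨(⟨U, S, hS⟩ : Σ U : C, {S : Sieve U // S ∈ J U})⟩
    rw [Function.bijective_iff_existsUnique] at this
    exact this

theorem isSheaf_eq_isLocal :
    (Presheaf.IsSheaf J : ObjectProperty (Cᵒᵖ ⥤ Type u)) = (covW J).isLocal := by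
  ext P
  exact isSheaf_iff_isLocal J P

theorem exists_bound : ∃ κ₀ : Cardinal.{u}, ∀ (κ : Cardinal.{u}) [Fact κ.IsRegular], κ₀ ≤ κ →
    (sheafToPresheaf J (Type u)).IsCardinalAccessible κ := by
  have h : ∀ P : Cᵒᵖ ⥤ Type u, ∃ (κ : Cardinal.{u}) (_ : Fact κ.IsRegular),
      IsCardinalPresentable P κ := fun P =>
    (inferInstance : IsPresentable.{u} P).exists_cardinal
  choose κ hκ hP using h
  obtain ⟨κ₀, -, hκ₀⟩ := exists_regular_ge
    (fun p : (Σ U : C, Sieve U) ⊕ C => Sum.elim (fun p => κ p.2.functor)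
      (fun U => κ (yoneda.obj U)) p)
  refine ⟨κ₀, fun κ' hκ' hle => ⟨fun I _ _ => ?_⟩⟩
  have hcl : ObjectProperty.IsClosedUnderColimitsOfShape (Presheaf.IsSheaf J : ObjectProperty (Cᵒᵖ ⥤ Type u)) I := by
    rw [isSheaf_eq_isLocal]
    refine (covW J).isClosedUnderColimitsOfShape_isLocal I κ' ?_
    rintro _ _ _ ⟨⟨U, S, hS⟩⟩
    have h1 : κ S.functor ≤ κ' := (hκ₀ (Sum.inl ⟨U, S⟩)).trans hle
    have h2 : κ (yoneda.obj U) ≤ κ' := (hκ₀ (Sum.inr U)).trans hle
    exact ⟨isCardinalPresentable_of_le _ h1, isCardinalPresentable_of_le _ h2⟩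
  have : CreatesColimitsOfShape I (sheafToPresheaf J (Type u)) :=
    createsColimitsOfShapeFullSubcategoryInclusion (J := I)
      (P := (Presheaf.IsSheaf J : ObjectProperty (Cᵒᵖ ⥤ Type u)))
  infer_instance

theorem exists_bound_locallyPresentable : ∃ κ₀ : Cardinal.{u},
    ∀ (κ : Cardinal.{u}) [Fact κ.IsRegular], κ₀ ≤ κ →
    IsCardinalLocallyPresentable (Sheaf J (Type u)) κ := by
  obtain ⟨κ₀, h⟩ := exists_bound J
  refine ⟨κ₀, fun κ _ hle => ?_⟩
  have := h κ hle
  exact (sheafificationAdjunction J (Type u)).isCardinalLocallyPresentable κ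

instance isLocallyPresentable : IsLocallyPresentable.{u} (Sheaf J (Type u)) where
  exists_cardinal := by
    obtain ⟨κ₀, h⟩ := exists_bound_locallyPresentable J
    obtain ⟨κ, hκ, hκ₀⟩ := exists_regular_ge (fun _ : PUnit.{u+1} => κ₀)
    have : Fact κ.IsRegular := ⟨hκ⟩
    exact ⟨κ, inferInstance, h κ (hκ₀ PUnit.unit)⟩

end Groth.Agent.Sga4A.ShPresentable
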