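import Mathlib.CategoryTheory.Comma.Basic
import Groth.Agent.Sga4A.ShPresentable

/-!
# A small detecting family in `Comma (𝟭 _) ρ` for an accessible functor `ρ` of sheaf topoi
-/

set_option autoImplicit false
universe u
open CategoryTheory CategoryTheory.Limits

namespace Groth.Agent.Sga4A.GlueDetect

theorem exists_detecting {C D : Type u} [SmallCategory C] [SmallCategory D]
    (J : GrothendieckTopology C) (K : GrothendieckTopology D)
    (ρ : Sheaf J (Type u) ⥤ Sheaf K (Type u)) [ρ.IsAccessible.{u}] :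
    ∃ P : ObjectProperty (Comma (𝟭 (Sheaf K (Type u))) ρ),
      ObjectProperty.Small.{u} P ∧ P.IsDetecting := by
  obtain ⟨κ₁, hκ₁, hρ⟩ := Functor.IsAccessible.exists_cardinal (F := ρ)
  obtain ⟨κ₂, h₂⟩ := ShPresentable.exists_bound_locallyPresentable J
  obtain ⟨κ₃, h₃⟩ := ShPresentable.exists_bound_locallyPresentable K
  obtain ⟨κ, hκ, hle⟩ := ShPresentable.exists_regular_ge
    (fun i : ULift.{u} (Fin 3) => ![κ₁, κ₂, κ₃] i.down)
  have : Fact κ.IsRegular := ⟨hκ⟩
  have hle₁ : κ₁ ≤ κ := hle ⟨0⟩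
  have hle₂ : κ₂ ≤ κ := hle ⟨1⟩
  have hle₃ : κ₃ ≤ κ := hle ⟨2⟩
  have := Functor.isCardinalAccessible_of_le ρ hle₁
  have := h₂ κ hle₂
  have := h₃ κ hle₃
  obtain ⟨PJ, _, hPJ⟩ := HasCardinalFilteredGenerator.exists_small_generator (Sheaf J (Type u)) κ
  obtain ⟨PK, _, hPK⟩ := HasCardinalFilteredGenerator.exists_small_generator (Sheaf K (Type u)) κ
  have dJ : PJ.IsDetecting := hPJ.isStrongGenerator.isSeparating.isDetecting
  have dK : PK.IsDetecting := hPK.isStrongGenerator.isSeparating.isDetecting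
  let T : (Subtype PJ ⊕ (Σ (G : Subtype PK) (Z : Subtype PJ), (G.1 ⟶ ρ.obj Z.1))) →
      Comma (𝟭 (Sheaf K (Type u))) ρ :=
    Sum.elim (fun Z => { left := ⊥_ _, right := Z.1, hom := initial.to _ })
      (fun p => { left := p.1.1, right := p.2.1.1, hom := p.2.2 })
  refine ⟨ObjectProperty.ofObj T, inferInstance, ?_⟩
  intro X Y f hf
  have hr : IsIso f.right := by
    apply dJ
    intro G hG h
    obtain ⟨h', h1, h2⟩ := hf _ (ObjectProperty.ofObj_apply T (Sum.inl ⟨G, hG⟩))
      { left := initial.to _, right := h, w := initialIsInitial.hom_ext _ _ }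
    refine ⟨h'.right, congrArg CommaMorphism.right h1, ?_⟩
    intro y hy
    have := h2 { left := initial.to _, right := y, w := initialIsInitial.hom_ext _ _ }
      (CommaMorphism.ext (initialIsInitial.hom_ext _ _) hy)
    exact congrArg CommaMorphism.right this
  have hfw := f.w
  dsimp at hfw
  have hl : IsIso f.left := by
    apply dK
    intro G hG h
    have hGp : IsCardinalPresentable G κ := hPK.le_isCardinalPresentable _ hG
    obtain ⟨I, _, _, ⟨p⟩⟩ := hPJ.exists_colimitsOfShape X.right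
    have := Functor.preservesColimitsOfShape_of_isCardinalAccessible ρ κ I
    have hcol := isColimitOfPreserves ρ p.isColimit
    obtain ⟨i, g, hg⟩ := IsCardinalPresentable.exists_hom_of_isColimit κ hcol
      (h ≫ Y.hom ≫ ρ.map (inv f.right))
    have hg' : g ≫ ρ.map (p.ι.app i) ≫ ρ.map f.right = h ≫ Y.hom := by
      have := congrArg (· ≫ ρ.map f.right) hg
      simp only [Category.assoc, ← ρ.map_comp, IsIso.inv_hom_id] at this
      rw [ρ.map_id, Category.comp_id] at this
      rw [← this]
      rfl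
    obtain ⟨h', h1, h2⟩ := hf _ (ObjectProperty.ofObj_apply T
      (Sum.inr ⟨⟨G, hG⟩, ⟨p.diag.obj i, p.prop_diag_obj i⟩, g⟩))
      { left := h, right := p.ι.app i ≫ f.right, w := by
          change h ≫ Y.hom = g ≫ ρ.map (p.ι.app i ≫ f.right)
          rw [ρ.map_comp, hg'] }
    refine ⟨h'.left, congrArg CommaMorphism.left h1, ?_⟩
    intro y hy
    have hyw : y ≫ X.hom = g ≫ ρ.map (p.ι.app i) := by
      rw [← cancel_mono (ρ.map f.right), Category.assoc, ← hfw, reassoc_of% hy, Category.assoc, hg']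
    have := h2 { left := y, right := p.ι.app i, w := hyw } (CommaMorphism.ext hy rfl)
    exact congrArg CommaMorphism.left this
  have h4 : f = (Comma.isoMk (asIso f.left) (asIso f.right) (by exact f.w)).hom :=
    CommaMorphism.ext rfl rfl
  rw [h4]
  infer_instance


end Groth.Agent.Sga4A.GlueDetect
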