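import Mathlib.Algebra.Category.ModuleCat.Presheaf.Pushforward
import Mathlib.Algebra.DirectSum.Module
import Mathlib.CategoryTheory.Comma.Over.Basic

/-!
# Extension by zero of presheaves of modules along `Over X ⥤ C`

For `R : Cᵒᵖ ⥤ RingCat` and `X : C`, the functor `shriek R X : PresheafOfModules (R|X) ⥤ PresheafOfModules R`,
`(shriek M)(U) = ⨁ (f : U ⟶ X), M(f)`, the adjunction `shriek R X ⊣ pushforward (𝟙 _)` and the injectivity
of the components of the unit, and of `shriek.map φ` when the components of `φ` are injective.
-/

set_option autoImplicit false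

universe u

open CategoryTheory Opposite DirectSum

namespace Groth.Agent.Sga4A.ModShriek

variable {C : Type u} [SmallCategory C] (R : Cᵒᵖ ⥤ RingCat.{u}) (X : C)

/-- Restriction of a presheaf of rings to `Over X`. -/
abbrev rover : (Over X)ᵒᵖ ⥤ RingCat.{u} := (Over.forget X).op ⋙ R

variable {R X}

/-- The value of `M` on `f : U ⟶ X`. -/
abbrev fib (M : PresheafOfModules.{u} (rover R X)) (U : Cᵒᵖ) (f : U.unop ⟶ X) : Type u :=
  M.obj (op (Over.mk f))

noncomputable instance (M : PresheafOfModules.{u} (rover R X)) (U : Cᵒᵖ) (f : U.unop ⟶ X) :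
    Module (R.obj U) (fib M U f) :=
  inferInstanceAs (Module ((rover R X).obj (op (Over.mk f))) (M.obj (op (Over.mk f))))

/-- Sections of the extension by zero. -/
abbrev shObj (M : PresheafOfModules.{u} (rover R X)) (U : Cᵒᵖ) : Type u :=
  ⨁ f : (U.unop ⟶ X), fib M U f

open Classical in
/-- The element of the extension by zero given by an element of a fibre. -/
noncomputable def of (M : PresheafOfModules.{u} (rover R X)) (U : Cᵒᵖ) (f : U.unop ⟶ X) :
    fib M U f →ₗ[R.obj U] shObj M U :=
  DirectSum.lof (R.obj U) (U.unop ⟶ X) (fib M U) f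

lemma of_injective (M : PresheafOfModules.{u} (rover R X)) (U : Cᵒᵖ) (f : U.unop ⟶ X) :
    Function.Injective (of M U f) := by
  classical
  exact DirectSum.of_injective (β := fib M U) f

lemma of_apply_same (M : PresheafOfModules.{u} (rover R X)) (U : Cᵒᵖ) (f : U.unop ⟶ X)
    (m : fib M U f) : (of M U f m) f = m := by
  classical
  exact DirectSum.of_eq_same (β := fib M U) f m

lemma of_apply_ne (M : PresheafOfModules.{u} (rover R X)) (U : Cᵒᵖ) {f g : U.unop ⟶ X}
    (h : g ≠ f) (m : fib M U g) : (of M U g m) f = 0 := by
  classical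
  exact DirectSum.of_eq_of_ne (β := fib M U) _ _ _ (Ne.symm h)

lemma addHom_ext' {M : PresheafOfModules.{u} (rover R X)} {U : Cᵒᵖ} {T : Type*} [AddMonoid T]
    {a b : shObj M U →+ T} (h : ∀ (f : U.unop ⟶ X) (m : fib M U f), a (of M U f m) = b (of M U f m)) :
    a = b := by
  classical
  exact DirectSum.addHom_ext h

lemma of_eq (M : PresheafOfModules.{u} (rover R X)) {U : Cᵒᵖ} {f f' : U.unop ⟶ X}
    (e : Over.mk f' ⟶ Over.mk f) (he : e.left = 𝟙 _) (m : fib M U f) :
    of M U f' (M.map e.op m) = of M U f m := by
  obtain rfl : f' = f := by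
    have := Over.w e
    rw [he] at this
    simpa using this.symm
  obtain rfl : e = 𝟙 _ := Over.OverMorphism.ext he
  congr 1
  erw [M.map_id]
  rfl

/-- Restriction along `g` on a fibre. -/
noncomputable def resFib (M : PresheafOfModules.{u} (rover R X)) {U V : Cᵒᵖ} (g : U ⟶ V)
    (f : U.unop ⟶ X) : fib M U f →+ fib M V (g.unop ≫ f) :=
  AddMonoidHom.mk' (fun m => M.map (Over.homMk g.unop : Over.mk (g.unop ≫ f) ⟶ Over.mk f).op m)
    (fun a b => map_add (M.map _).hom a b)

lemma resFib_apply (M : PresheafOfModules.{u} (rover R X)) {U V : Cᵒᵖ} (g : U ⟶ V)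
    (f : U.unop ⟶ X) (m : fib M U f) : resFib M g f m =
      M.map (Over.homMk g.unop : Over.mk (g.unop ≫ f) ⟶ Over.mk f).op m := rfl

lemma resFib_smul (M : PresheafOfModules.{u} (rover R X)) {U V : Cᵒᵖ} (g : U ⟶ V)
    (f : U.unop ⟶ X) (r : R.obj U) (m : fib M U f) :
    resFib M g f (r • m) = (R.map g).hom r • resFib M g f m :=
  M.map_smul (Over.homMk g.unop : Over.mk (g.unop ≫ f) ⟶ Over.mk f).op r m

open Classical in
/-- Restriction maps of the extension by zero. -/
noncomputable def res (M : PresheafOfModules.{u} (rover R X)) {U V : Cᵒᵖ} (g : U ⟶ V) :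
    shObj M U →+ shObj M V :=
  DirectSum.toAddMonoid fun f => (of M V (g.unop ≫ f)).toAddMonoidHom.comp (resFib M g f)

@[simp]
lemma res_of (M : PresheafOfModules.{u} (rover R X)) {U V : Cᵒᵖ} (g : U ⟶ V)
    (f : U.unop ⟶ X) (m : fib M U f) :
    res M g (of M U f m) = of M V (g.unop ≫ f) (resFib M g f m) := by
  classical
  exact DirectSum.toAddMonoid_of _ _ _

lemma res_smul (M : PresheafOfModules.{u} (rover R X)) {U V : Cᵒᵖ} (g : U ⟶ V)
    (r : R.obj U) (m : shObj M U) : res M g (r • m) = (R.map g).hom r • res M g m := by
  classical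
  induction m using DirectSum.induction_on with
  | zero => simp
  | of f m =>
    change res M g (r • of M U f m) = (R.map g).hom r • res M g (of M U f m)
    rw [← map_smul, res_of, res_of, ← map_smul, resFib_smul]
  | add a b ha hb => rw [smul_add, map_add, map_add, smul_add, ha, hb]

/-- The underlying abelian presheaf of the extension by zero. -/
noncomputable def shAb (M : PresheafOfModules.{u} (rover R X)) : Cᵒᵖ ⥤ Ab.{u} where
  obj U := AddCommGrpCat.of (shObj M U)
  map g := AddCommGrpCat.ofHom (res M g)
  map_id U := by
    ext1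
    apply addHom_ext'
    intro f m
    change res M (𝟙 U) (of M U f m) = of M U f m
    rw [res_of]
    exact of_eq M (f' := (𝟙 U : U ⟶ U).unop ≫ f) (f := f) (Over.homMk (𝟙 U : U ⟶ U).unop) rfl m
  map_comp {U V W} g h := by
    ext1
    apply addHom_ext'
    intro f m
    change res M (g ≫ h) (of M U f m) = res M h (res M g (of M U f m))
    rw [res_of, res_of, res_of]
    have key := of_eq M (U := W) (f' := h.unop ≫ g.unop ≫ f) (f := (g ≫ h).unop ≫ f)
      (Over.homMk (𝟙 _) (by simp)) rfl (resFib M (g ≫ h) f m)
    rw [← key]
    congr 1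
    rw [resFib_apply, resFib_apply, resFib_apply, ← PresheafOfModules.map_comp_apply,
      ← PresheafOfModules.map_comp_apply]
    apply PresheafOfModules.congr_map_apply
    apply Quiver.Hom.unop_inj
    apply Over.OverMorphism.ext
    simp

noncomputable instance (M : PresheafOfModules.{u} (rover R X)) (U : Cᵒᵖ) :
    Module (R.obj U) ((shAb M).obj U) := inferInstanceAs (Module (R.obj U) (shObj M U))

/-- The extension by zero of a presheaf of modules. -/
noncomputable def sh (M : PresheafOfModules.{u} (rover R X)) : PresheafOfModules.{u} R :=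
  PresheafOfModules.ofPresheaf (shAb M) (fun _ _ g r m => res_smul M g r m)

open Classical in
/-- Functoriality of the extension by zero, on sections. -/
noncomputable def shMapApp {M N : PresheafOfModules.{u} (rover R X)} (φ : M ⟶ N) (U : Cᵒᵖ) :
    shObj M U →ₗ[R.obj U] shObj N U :=
  DirectSum.toModule (R.obj U) _ _ fun f => (of N U f).comp (φ.app (op (Over.mk f))).hom

@[simp]
lemma shMapApp_of {M N : PresheafOfModules.{u} (rover R X)} (φ : M ⟶ N) (U : Cᵒᵖ)
    (f : U.unop ⟶ X) (m : fib M U f) :
    shMapApp φ U (of M U f m) = of N U f ((φ.app (op (Over.mk f))).hom m) := by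
  classical
  exact DirectSum.toModule_lof _ _ _

/-- Functoriality of the extension by zero. -/
noncomputable def shMap {M N : PresheafOfModules.{u} (rover R X)} (φ : M ⟶ N) : sh M ⟶ sh N :=
  PresheafOfModules.homMk (M₁ := sh M) (M₂ := sh N)
    { app := fun U => AddCommGrpCat.ofHom (shMapApp φ U).toAddMonoidHom
      naturality := fun U V g => by
        ext1
        apply addHom_ext'
        intro f m
        change shMapApp φ V (res M g (of M U f m)) = res N g (shMapApp φ U (of M U f m))
        rw [res_of, shMapApp_of, shMapApp_of, res_of]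
        congr 1
        exact PresheafOfModules.naturality_apply φ _ m }
    (fun U r m => (shMapApp φ U).map_smul r m)

lemma shMap_app_apply {M N : PresheafOfModules.{u} (rover R X)} (φ : M ⟶ N) (U : Cᵒᵖ)
    (m : shObj M U) : ((shMap φ).app U).hom m = shMapApp φ U m := rfl

lemma sh_hom_ext {M : PresheafOfModules.{u} (rover R X)} {N : PresheafOfModules.{u} R}
    {a b : sh M ⟶ N} (h : ∀ (U : Cᵒᵖ) (f : U.unop ⟶ X) (m : fib M U f),
      (a.app U).hom (of M U f m) = (b.app U).hom (of M U f m)) : a = b := by
  ext U : 2
  apply LinearMap.toAddMonoidHom_injective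
  apply addHom_ext'
  intro f m
  exact h U f m

variable (R X) in
/-- The extension by zero functor. -/
noncomputable def shriek : PresheafOfModules.{u} (rover R X) ⥤ PresheafOfModules.{u} R where
  obj M := sh M
  map φ := shMap φ
  map_id M := by
    apply sh_hom_ext
    intro U f m
    exact shMapApp_of (𝟙 M) U f m
  map_comp {M N P} φ ψ := by
    apply sh_hom_ext
    intro U f m
    change shMapApp (φ ≫ ψ) U (of M U f m) = shMapApp ψ U (shMapApp φ U (of M U f m))
    rw [shMapApp_of, shMapApp_of, shMapApp_of]
    rfl

variable (R X) in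
/-- Restriction to `Over X`. -/
noncomputable abbrev restr : PresheafOfModules.{u} R ⥤ PresheafOfModules.{u} (rover R X) :=
  PresheafOfModules.pushforward (F := Over.forget X) (𝟙 (rover R X))

/-- From maps out of the extension by zero to maps into the restriction. -/
noncomputable def toRestr {M : PresheafOfModules.{u} (rover R X)} {N : PresheafOfModules.{u} R}
    (φ : sh M ⟶ N) : M ⟶ (restr R X).obj N :=
  PresheafOfModules.homMk
    { app := fun Y => AddCommGrpCat.ofHom ((φ.app (op Y.unop.left)).hom.toAddMonoidHom.comp
        (of M (op Y.unop.left) Y.unop.hom).toAddMonoidHom)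
      naturality := by
        intro Y Z g
        ext m
        change M.obj Y at m
        change (φ.app (op Z.unop.left)).hom (of M (op Z.unop.left) Z.unop.hom (M.map g m)) =
          N.map g.unop.left.op ((φ.app (op Y.unop.left)).hom (of M (op Y.unop.left) Y.unop.hom m))
        have h := PresheafOfModules.naturality_apply φ g.unop.left.op
          (of M (op Y.unop.left) Y.unop.hom m)
        refine Eq.trans ?_ h
        congr 1
        change _ = res M g.unop.left.op (of M (op Y.unop.left) Y.unop.hom m)
        rw [res_of]
        have hw : g.unop.left ≫ Y.unop.hom = Z.unop.hom := Over.w g.unop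
        have key := of_eq M (U := op Z.unop.left) (f' := Z.unop.hom) (f := g.unop.left ≫ Y.unop.hom)
          (Over.homMk (𝟙 _) (by simp [hw])) rfl (resFib M g.unop.left.op Y.unop.hom m)
        refine Eq.trans ?_ key
        congr 1
        rw [resFib_apply, ← PresheafOfModules.map_comp_apply]
        apply PresheafOfModules.congr_map_apply
        apply Quiver.Hom.unop_inj
        apply Over.OverMorphism.ext
        simp }
    (fun Y r m => by
      change (φ.app (op Y.unop.left)).hom (of M (op Y.unop.left) Y.unop.hom (r • m)) =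
        (show R.obj (op Y.unop.left) from r) •
          (φ.app (op Y.unop.left)).hom (of M (op Y.unop.left) Y.unop.hom m)
      rw [← map_smul]
      congr 1
      exact (of M (op Y.unop.left) Y.unop.hom).map_smul r m)

lemma toRestr_app {M : PresheafOfModules.{u} (rover R X)} {N : PresheafOfModules.{u} R}
    (φ : sh M ⟶ N) (Y : (Over X)ᵒᵖ) (m : M.obj Y) :
    ((toRestr φ).app Y).hom m = (φ.app (op Y.unop.left)).hom (of M (op Y.unop.left) Y.unop.hom m) :=
  rfl

/-- The component at `f` of a map to the restriction. -/
noncomputable def fromRestrFib {M : PresheafOfModules.{u} (rover R X)} {N : PresheafOfModules.{u} R}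
    (ψ : M ⟶ (restr R X).obj N) (U : Cᵒᵖ) (f : U.unop ⟶ X) : fib M U f →ₗ[R.obj U] N.obj U where
  toFun m := (ψ.app (op (Over.mk f))).hom m
  map_add' a b := map_add (ψ.app (op (Over.mk f))).hom a b
  map_smul' r a := (ψ.app (op (Over.mk f))).hom.map_smul r a

open Classical in
/-- The sections of the map out of the extension by zero attached to a map to the restriction. -/
noncomputable def fromRestrApp {M : PresheafOfModules.{u} (rover R X)} {N : PresheafOfModules.{u} R}
    (ψ : M ⟶ (restr R X).obj N) (U : Cᵒᵖ) : shObj M U →ₗ[R.obj U] N.obj U :=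
  DirectSum.toModule (R.obj U) _ _ (fromRestrFib ψ U)

@[simp]
lemma fromRestrApp_of {M : PresheafOfModules.{u} (rover R X)} {N : PresheafOfModules.{u} R}
    (ψ : M ⟶ (restr R X).obj N) (U : Cᵒᵖ) (f : U.unop ⟶ X) (m : fib M U f) :
    fromRestrApp ψ U (of M U f m) = (ψ.app (op (Over.mk f))).hom m := by
  classical
  exact DirectSum.toModule_lof _ _ _

/-- From maps into the restriction to maps out of the extension by zero. -/
noncomputable def fromRestr {M : PresheafOfModules.{u} (rover R X)} {N : PresheafOfModules.{u} R}
    (ψ : M ⟶ (restr R X).obj N) : sh M ⟶ N :=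
  PresheafOfModules.homMk (M₁ := sh M)
    { app := fun U => AddCommGrpCat.ofHom (fromRestrApp ψ U).toAddMonoidHom
      naturality := by
        intro U V g
        ext1
        apply addHom_ext'
        intro f m
        change fromRestrApp ψ V (res M g (of M U f m)) = N.map g (fromRestrApp ψ U (of M U f m))
        rw [res_of, fromRestrApp_of, fromRestrApp_of]
        exact PresheafOfModules.naturality_apply ψ
          (Over.homMk g.unop : Over.mk (g.unop ≫ f) ⟶ Over.mk f).op m }
    (fun U r m => (fromRestrApp ψ U).map_smul r m)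

lemma fromRestr_app {M : PresheafOfModules.{u} (rover R X)} {N : PresheafOfModules.{u} R}
    (ψ : M ⟶ (restr R X).obj N) (U : Cᵒᵖ) (m : shObj M U) :
    ((fromRestr ψ).app U).hom m = fromRestrApp ψ U m := rfl

variable (R X) in
/-- Extension by zero is left adjoint to restriction. -/
noncomputable def adj : shriek R X ⊣ restr R X :=
  Adjunction.mkOfHomEquiv
    { homEquiv := fun M N =>
        { toFun := fun φ => toRestr φ
          invFun := fun ψ => fromRestr ψ
          left_inv := fun φ => by
            apply sh_hom_ext
            intro U f m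
            rw [fromRestr_app, fromRestrApp_of]
            rfl
          right_inv := fun ψ => by
            ext Y m
            exact fromRestrApp_of ψ (op Y.unop.left) Y.unop.hom m }
      homEquiv_naturality_left_symm := by
        intro M' M N a b
        apply sh_hom_ext
        intro U f m
        change fromRestrApp (a ≫ b) U (of M' U f m) = fromRestrApp b U (shMapApp a U (of M' U f m))
        rw [shMapApp_of, fromRestrApp_of, fromRestrApp_of]
        rfl
      homEquiv_naturality_right := by
        intro M N N' a b
        rfl }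

lemma adj_unit_app (M : PresheafOfModules.{u} (rover R X)) (Y : (Over X)ᵒᵖ) (m : M.obj Y) :
    (((adj R X).unit.app M).app Y).hom m = of M (op Y.unop.left) Y.unop.hom m := rfl

lemma adj_unit_injective (M : PresheafOfModules.{u} (rover R X)) (Y : (Over X)ᵒᵖ) :
    Function.Injective (((adj R X).unit.app M).app Y).hom :=
  of_injective M (op Y.unop.left) Y.unop.hom

open Classical in
/-- The projection to a component. -/
noncomputable def proj (M : PresheafOfModules.{u} (rover R X)) (U : Cᵒᵖ) (f : U.unop ⟶ X) :
    shObj M U →ₗ[R.obj U] fib M U f := DirectSum.component (R.obj U) _ _ f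

lemma shMapApp_apply {M N : PresheafOfModules.{u} (rover R X)} (φ : M ⟶ N) (U : Cᵒᵖ)
    (x : shObj M U) (f : U.unop ⟶ X) :
    (shMapApp φ U x) f = (φ.app (op (Over.mk f))).hom (x f) := by
  classical
  induction x using DirectSum.induction_on with
  | zero => simp
  | of g m =>
    change (shMapApp φ U (of M U g m)) f = _
    rw [shMapApp_of]
    change _ = (φ.app (op (Over.mk f))).hom ((of M U g m) f)
    by_cases h : g = f
    · subst h
      rw [of_apply_same, of_apply_same]
    · rw [of_apply_ne _ _ h, of_apply_ne _ _ h]
      exact (map_zero _).symm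
  | add a b ha hb => rw [map_add, DirectSum.add_apply, DirectSum.add_apply, map_add, ha, hb]

lemma shMapApp_injective {M N : PresheafOfModules.{u} (rover R X)} (φ : M ⟶ N)
    (h : ∀ Y : (Over X)ᵒᵖ, Function.Injective (φ.app Y).hom) (U : Cᵒᵖ) :
    Function.Injective (shMapApp φ U) := by
  intro a b hab
  refine DFinsupp.ext fun f => ?_
  apply h (op (Over.mk f))
  have := congrArg (fun t : shObj N U => t f) hab
  dsimp only at this
  rwa [shMapApp_apply, shMapApp_apply] at this

end Groth.Agent.Sga4A.ModShriek
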