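import Mathlib.AlgebraicTopology.SimplicialObject.ChainHomotopy
import Mathlib.CategoryTheory.Sites.SheafCohomology.Cech
import Mathlib.CategoryTheory.Limits.FormalCoproducts.Cech

/-!
# Simplicial homotopies and Cech complexes

* A simplicial homotopy in `D` and a functor `G : Dᵒᵖ ⥤ A` to a preadditive category induce a
  chain homotopy between the maps of alternating coface map complexes.
* Two morphisms `f g : U ⟶ V` of formal coproducts induce simplicially homotopic maps of Cech objects.
-/

set_option autoImplicit false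

universe w v u v' u'

open CategoryTheory CategoryTheory.Limits Opposite Simplicial

namespace Groth.Agent.Sga4A.CechHomotopy

section Coface

variable {D : Type u} [Category.{v} D] {A : Type u'} [Category.{v'} A] [Preadditive A]

/-- The map of alternating coface map complexes induced by a morphism of simplicial objects. -/
noncomputable abbrev cofaceMap (G : Dᵒᵖ ⥤ A) {X Y : SimplicialObject D} (f : X ⟶ Y) :
    (AlgebraicTopology.alternatingCofaceMapComplex A).obj (Y.rightOp ⋙ G) ⟶
      (AlgebraicTopology.alternatingCofaceMapComplex A).obj (X.rightOp ⋙ G) :=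
  (AlgebraicTopology.alternatingCofaceMapComplex A).map
    (Functor.whiskerRight (NatTrans.rightOp f) G)

lemma coface_d (G : Dᵒᵖ ⥤ A) (X : SimplicialObject D) (n : ℕ) :
    ((AlgebraicTopology.alternatingCofaceMapComplex A).obj (X.rightOp ⋙ G)).d n (n + 1) =
      (((AlgebraicTopology.alternatingFaceMapComplex Aᵒᵖ).obj (X ⋙ G.rightOp)).d (n + 1) n).unop := by
  rw [AlgebraicTopology.alternatingFaceMapComplex_obj_d]
  simp [AlgebraicTopology.alternatingCofaceMapComplex,
    AlgebraicTopology.AlternatingCofaceMapComplex.obj]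
  rfl

/-- A simplicial homotopy induces a homotopy of the alternating coface map complexes
associated to a functor on the opposite category. -/
noncomputable def cofaceHomotopy (G : Dᵒᵖ ⥤ A) {X Y : SimplicialObject D} {f g : X ⟶ Y}
    (H : SimplicialObject.Homotopy f g) :
    Homotopy (cofaceMap G f) (cofaceMap G g) where
  hom i j := ((H.whiskerRight G.rightOp).toChainHomotopy.hom j i).unop
  zero i j hij := by
    rw [(H.whiskerRight G.rightOp).toChainHomotopy.zero j i hij]
    rfl
  comm n := by
    have h := (H.whiskerRight G.rightOp).toChainHomotopy.comm n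
    cases n with
    | zero =>
      rw [prevD_eq _ (j' := 1) (w := by simp), dNext_eq_zero _ _ (by simp), zero_add] at h
      rw [dNext_eq _ (i' := 1) (w := by simp), prevD_eq_zero _ _ (by simp), add_zero]
      have h' := congrArg Quiver.Hom.unop h
      rw [coface_d]
      exact h'
    | succ n =>
      rw [prevD_eq _ (j' := n + 2) (w := by simp), dNext_eq _ (i' := n) (w := by simp)] at h
      rw [dNext_eq _ (i' := n + 2) (w := by simp), prevD_eq _ (j' := n) (w := by simp)]
      have h' := congrArg Quiver.Hom.unop h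
      rw [coface_d, coface_d]
      refine h'.trans ?_
      exact congrArg (· + _) (add_comm _ _)

end Coface

section FinLemmas

set_option linter.unusedSimpArgs false

lemma val_succAbove {n : ℕ} (i : Fin (n + 1)) (a : Fin n) :
    (i.succAbove a).val = if a.val < i.val then a.val else a.val + 1 := by
  simp only [Fin.succAbove, Fin.lt_def, Fin.val_castSucc]
  split_ifs <;> simp

lemma val_predAbove {n : ℕ} (j : Fin n) (a : Fin (n + 1)) :
    (j.predAbove a).val = if j.val < a.val then a.val - 1 else a.val := by
  simp only [Fin.predAbove, Fin.lt_def, Fin.val_castSucc]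
  split_ifs <;> simp

lemma finA {n : ℕ} (i : Fin (n + 2)) (j : Fin (n + 1)) (a : Fin (n + 2)) (hij : i ≤ j.castSucc) :
    j.succ.predAbove (i.castSucc.succAbove a) = i.succAbove (j.predAbove a) := by
  have ha := a.2
  have hj := j.2
  simp only [Fin.le_def, Fin.lt_def, Fin.val_castSucc] at hij
  apply Fin.ext
  simp only [Fin.le_def, val_succAbove, val_predAbove, Fin.val_castSucc, Fin.val_succ]
  split_ifs <;> omega

lemma finA' {n : ℕ} (i : Fin (n + 2)) (j : Fin (n + 1)) (a : Fin (n + 2)) (hij : i ≤ j.castSucc) :
    i.castSucc.succAbove a ≤ j.succ.castSucc ↔ a ≤ j.castSucc := by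
  have ha := a.2
  have hj := j.2
  simp only [Fin.le_def, Fin.lt_def, Fin.val_castSucc] at hij
  simp only [Fin.le_def, val_succAbove, val_predAbove, Fin.val_castSucc, Fin.val_succ]
  split_ifs <;> omega

lemma finB {n : ℕ} (j : Fin (n + 1)) (a : Fin (n + 2)) :
    j.succ.predAbove (j.castSucc.succ.succAbove a) = j.castSucc.predAbove (j.castSucc.succ.succAbove a) := by
  have ha := a.2
  have hj := j.2
  apply Fin.ext
  simp only [Fin.le_def, val_succAbove, val_predAbove, Fin.val_castSucc, Fin.val_succ]
  split_ifs <;> omega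

lemma finB' {n : ℕ} (j : Fin (n + 1)) (a : Fin (n + 2)) :
    j.castSucc.succ.succAbove a ≤ j.succ.castSucc ↔ j.castSucc.succ.succAbove a ≤ j.castSucc.castSucc := by
  have ha := a.2
  have hj := j.2
  simp only [Fin.le_def, val_succAbove, val_predAbove, Fin.val_castSucc, Fin.val_succ]
  split_ifs <;> omega

lemma finC {n : ℕ} (i : Fin (n + 2)) (j : Fin (n + 1)) (a : Fin (n + 2)) (hij : j.castSucc < i) :
    j.castSucc.predAbove (i.succ.succAbove a) = i.succAbove (j.predAbove a) := by
  have ha := a.2
  have hj := j.2
  simp only [Fin.le_def, Fin.lt_def, Fin.val_castSucc] at hij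
  apply Fin.ext
  simp only [Fin.le_def, val_succAbove, val_predAbove, Fin.val_castSucc, Fin.val_succ]
  split_ifs <;> omega

lemma finC' {n : ℕ} (i : Fin (n + 2)) (j : Fin (n + 1)) (a : Fin (n + 2)) (hij : j.castSucc < i) :
    i.succ.succAbove a ≤ j.castSucc.castSucc ↔ a ≤ j.castSucc := by
  have ha := a.2
  have hj := j.2
  simp only [Fin.le_def, Fin.lt_def, Fin.val_castSucc] at hij
  simp only [Fin.le_def, val_succAbove, val_predAbove, Fin.val_castSucc, Fin.val_succ]
  split_ifs <;> omega

lemma finD {n : ℕ} (i j : Fin (n + 1)) (a : Fin (n + 3)) (hij : i ≤ j) :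
    j.predAbove (i.castSucc.predAbove a) = i.predAbove (j.succ.predAbove a) := by
  have ha := a.2
  have hj := j.2
  simp only [Fin.le_def, Fin.lt_def, Fin.val_castSucc] at hij
  apply Fin.ext
  simp only [Fin.le_def, val_succAbove, val_predAbove, Fin.val_castSucc, Fin.val_succ]
  split_ifs <;> omega

lemma finD' {n : ℕ} (i j : Fin (n + 1)) (a : Fin (n + 3)) (hij : i ≤ j) :
    i.castSucc.predAbove a ≤ j.castSucc ↔ a ≤ j.succ.castSucc := by
  have ha := a.2
  have hj := j.2
  simp only [Fin.le_def, Fin.lt_def, Fin.val_castSucc] at hij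
  simp only [Fin.le_def, val_succAbove, val_predAbove, Fin.val_castSucc, Fin.val_succ]
  split_ifs <;> omega

lemma finE {n : ℕ} (i j : Fin (n + 1)) (a : Fin (n + 3)) (hij : j ≤ i) :
    j.predAbove (i.succ.predAbove a) = i.predAbove (j.castSucc.predAbove a) := by
  have ha := a.2
  have hj := j.2
  simp only [Fin.le_def, Fin.lt_def, Fin.val_castSucc] at hij
  apply Fin.ext
  simp only [Fin.le_def, val_succAbove, val_predAbove, Fin.val_castSucc, Fin.val_succ]
  split_ifs <;> omega

lemma finE' {n : ℕ} (i j : Fin (n + 1)) (a : Fin (n + 3)) (hij : j ≤ i) :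
    i.succ.predAbove a ≤ j.castSucc ↔ a ≤ j.castSucc.castSucc := by
  have ha := a.2
  have hj := j.2
  simp only [Fin.le_def, Fin.lt_def, Fin.val_castSucc] at hij
  simp only [Fin.le_def, val_succAbove, val_predAbove, Fin.val_castSucc, Fin.val_succ]
  split_ifs <;> omega

end FinLemmas

section Formal

variable {C : Type u} [Category.{v} C] [HasFiniteProducts C]

variable {U V : FormalCoproduct.{w} C} (f g : U ⟶ V)

/-- The component of the simplicial homotopy. -/
noncomputable def homotopyComp {n : ℕ} (i : Fin (n + 1)) :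
    U.power (Fin (n + 1)) ⟶ V.power (Fin (n + 2)) :=
  Fan.IsLimit.lift (V.isLimitPowerFan (Fin (n + 2)))
    (fun a => U.powerπ (i.predAbove a) ≫ (if a ≤ i.castSucc then f else g))

@[reassoc]
lemma homotopyComp_π {n : ℕ} (i : Fin (n + 1)) (a : Fin (n + 2)) :
    homotopyComp f g i ≫ V.powerπ a = U.powerπ (i.predAbove a) ≫ (if a ≤ i.castSucc then f else g) :=
  Fan.IsLimit.fac (V.isLimitPowerFan (Fin (n + 2))) _ a

omit [HasFiniteProducts C] in
lemma power_hom_ext {W : FormalCoproduct.{w} C} {α : Type} [HasProductsOfShape α C]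
    {p q : W ⟶ V.power α} (h : ∀ a, p ≫ V.powerπ a = q ≫ V.powerπ a) : p = q :=
  Fan.IsLimit.hom_ext (V.isLimitPowerFan α) _ _ h

lemma cech_δ_π {n : ℕ} (i : Fin (n + 2)) (a : Fin (n + 1)) :
    V.cech.δ i ≫ V.powerπ a = V.powerπ (i.succAbove a) :=
  V.mapPower_π _ _

lemma cech_σ_π {n : ℕ} (i : Fin (n + 1)) (a : Fin (n + 2)) :
    V.cech.σ i ≫ V.powerπ a = V.powerπ (i.predAbove a) :=
  V.mapPower_π _ _

omit [HasFiniteProducts C] in
lemma powerMap_π {α : Type} [HasProductsOfShape α C] (a : α) :
    FormalCoproduct.powerMap f α ≫ V.powerπ a = U.powerπ a ≫ f := by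
  refine FormalCoproduct.hom_ext (h₁ := rfl) fun i => ?_
  refine (Category.comp_id _).trans ?_
  exact Pi.map_π (fun a => f.φ (i a)) a

lemma ite_congr_aux {n : ℕ} {x y : Fin (n + 1)} {P Q : Prop} [Decidable P] [Decidable Q]
    (hx : x = y) (hP : P ↔ Q) :
    U.powerπ x ≫ (if P then f else g) = U.powerπ y ≫ (if Q then f else g) := by
  subst hx
  by_cases hq : Q
  · rw [if_pos hq, if_pos (hP.2 hq)]
  · rw [if_neg hq, if_neg (fun h => hq (hP.1 h))]

/-- Two morphisms of formal coproducts induce simplicially homotopic maps of Cech objects. -/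
noncomputable def cechHomotopy :
    SimplicialObject.Homotopy (FormalCoproduct.cechFunctor.map f)
      (FormalCoproduct.cechFunctor.map g) where
  h i := homotopyComp f g i
  h_zero_comp_δ_zero n := by
    refine power_hom_ext fun a => ?_
    erw [Category.assoc, cech_δ_π, homotopyComp_π, powerMap_π]
    rw [if_neg (by simp)]
    congr 2
  h_last_comp_δ_last n := by
    refine power_hom_ext fun a => ?_
    erw [Category.assoc, cech_δ_π, homotopyComp_π, powerMap_π]
    rw [if_pos (by simpa using Fin.le_last a)]
    congr 2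
    simp
  h_succ_comp_δ_castSucc_of_lt {n} i j hij := by
    refine power_hom_ext fun a => ?_
    erw [Category.assoc, Category.assoc, cech_δ_π, homotopyComp_π, homotopyComp_π]
    erw [reassoc_of% (cech_δ_π (V := U))]
    refine ite_congr_aux f g ?_ ?_
    · exact finA i j a hij
    · exact finA' i j a hij
  h_succ_comp_δ_castSucc_succ {n} j := by
    refine power_hom_ext fun a => ?_
    erw [Category.assoc, Category.assoc, cech_δ_π, homotopyComp_π, homotopyComp_π]
    refine ite_congr_aux f g ?_ ?_
    · exact finB j a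
    · exact finB' j a
  h_castSucc_comp_δ_succ_of_lt {n} i j hji := by
    refine power_hom_ext fun a => ?_
    erw [Category.assoc, Category.assoc, cech_δ_π, homotopyComp_π, homotopyComp_π]
    erw [reassoc_of% (cech_δ_π (V := U))]
    refine ite_congr_aux f g ?_ ?_
    · exact finC i j a hji
    · exact finC' i j a hji
  h_comp_σ_castSucc_of_le {n} i j hij := by
    refine power_hom_ext fun a => ?_
    erw [Category.assoc, Category.assoc, cech_σ_π, homotopyComp_π, homotopyComp_π]
    erw [reassoc_of% (cech_σ_π (V := U))]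
    refine ite_congr_aux f g ?_ ?_
    · exact finD i j a hij
    · exact finD' i j a hij
  h_comp_σ_succ_of_lt {n} i j hji := by
    refine power_hom_ext fun a => ?_
    erw [Category.assoc, Category.assoc, cech_σ_π, homotopyComp_π, homotopyComp_π]
    erw [reassoc_of% (cech_σ_π (V := U))]
    refine ite_congr_aux f g ?_ ?_
    · exact finE i j a hji
    · exact finE' i j a hji

end Formal

end Groth.Agent.Sga4A.CechHomotopy
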