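import Groth.Prelude.Def_CohCx
import Mathlib.CategoryTheory.Sites.Adjunction
import Mathlib.CategoryTheory.Sites.Pullback
import Mathlib.CategoryTheory.Abelian.Injective.Basic
import Mathlib.Algebra.Homology.DerivedCategory.Ext.EnoughInjectives

/-!
# Totally acyclic abelian sheaves and functors with an exact left adjoint

General principle: if `G : Ab(J) ⥤ Ab(K)` has a left adjoint `L` preserving monomorphisms and sending
free abelian sheaves `ℤ[K']` to free abelian sheaves, and `G` sends the epimorphisms with totally acyclic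
kernel to epimorphisms, then `G` preserves totally acyclic sheaves.
-/

set_option autoImplicit false
universe u
open CategoryTheory Limits Opposite

namespace Groth.Agent.Sga4A.TotAcyc

section Abelian

variable {A : Type*} [Category A] [Abelian A] [HasExt A]

/-- `Ext¹(X, S.X₁) = 0` if `S` is short exact, `S.X₂` injective and every `X ⟶ S.X₃` lifts to `S.X₂`. -/
lemma subsingleton_ext_one_of_lift {S : ShortComplex A} (hS : S.ShortExact) [Injective S.X₂] (X : A)
    (h : ∀ q : X ⟶ S.X₃, ∃ t : X ⟶ S.X₂, t ≫ S.g = q) : Subsingleton (Abelian.Ext X S.X₁ 1) := by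
  have key : ∀ x : Abelian.Ext X S.X₁ 1, x = 0 := by
    intro x
    obtain ⟨x₃, hx₃⟩ := Abelian.Ext.covariant_sequence_exact₁ _ hS x
      (Abelian.Ext.eq_zero_of_injective _) (n₀ := 0) rfl
    obtain ⟨q, rfl⟩ := (Abelian.Ext.mk₀_bijective _ _).2 x₃
    obtain ⟨t, rfl⟩ := h q
    rw [← hx₃, ← Abelian.Ext.mk₀_comp_mk₀,
      Abelian.Ext.comp_assoc (a₂₃ := 1) (h₂₃ := zero_add 1) (h := by omega), hS.comp_extClass,
      Abelian.Ext.comp_zero]
  exact ⟨fun a b => by rw [key a, key b]⟩

/-- dimension shifting -/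
lemma subsingleton_ext_succ {S : ShortComplex A} (hS : S.ShortExact) [Injective S.X₂] (X : A) (n : ℕ)
    (h : Subsingleton (Abelian.Ext X S.X₃ n)) : Subsingleton (Abelian.Ext X S.X₁ (n + 1)) := by
  have key : ∀ x : Abelian.Ext X S.X₁ (n + 1), x = 0 := by
    intro x
    obtain ⟨x₃, hx₃⟩ := Abelian.Ext.covariant_sequence_exact₁ _ hS x
      (Abelian.Ext.eq_zero_of_injective _) (n₀ := n) rfl
    rw [← hx₃, h.elim x₃ 0, Abelian.Ext.zero_comp]
  exact ⟨fun a b => by rw [key a, key b]⟩

/-- dimension shifting -/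
lemma subsingleton_ext_of_succ {S : ShortComplex A} (hS : S.ShortExact) [Injective S.X₂] (X : A) (n : ℕ)
    (h : Subsingleton (Abelian.Ext X S.X₁ (n + 1 + 1))) : Subsingleton (Abelian.Ext X S.X₃ (n + 1)) := by
  have key : ∀ x : Abelian.Ext X S.X₃ (n + 1), x = 0 := by
    intro x
    obtain ⟨x₂, hx₂⟩ := Abelian.Ext.covariant_sequence_exact₃ _ hS x (n₁ := n + 1 + 1) rfl
      (h.elim _ _)
    rw [← hx₂, Abelian.Ext.eq_zero_of_injective x₂, Abelian.Ext.zero_comp]
  exact ⟨fun a b => by rw [key a, key b]⟩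

/-- Lifting of morphisms when `Ext¹` vanishes. -/
lemma exists_lift_of_subsingleton_ext {S : ShortComplex A} (hS : S.ShortExact) (X : A)
    (h : Subsingleton (Abelian.Ext X S.X₁ 1)) (q : X ⟶ S.X₃) : ∃ t : X ⟶ S.X₂, t ≫ S.g = q := by
  obtain ⟨x₂, hx₂⟩ := Abelian.Ext.covariant_sequence_exact₃ _ hS (Abelian.Ext.mk₀ q) (n₁ := 1) rfl
    (h.elim _ _)
  obtain ⟨t, rfl⟩ := (Abelian.Ext.mk₀_bijective _ _).2 x₂
  rw [Abelian.Ext.mk₀_comp_mk₀] at hx₂
  exact ⟨t, (Abelian.Ext.mk₀_bijective _ _).1 hx₂⟩

end Abelian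

/-- A right adjoint additive functor sends a short exact sequence to a short exact sequence as soon as it sends
the epimorphism to an epimorphism. -/
lemma shortExact_map {A B : Type*} [Category A] [Abelian A] [Category B] [Abelian B] (G : A ⥤ B)
    [G.Additive] [G.IsRightAdjoint] {S : ShortComplex A} (hS : S.ShortExact)
    (hg : Epi (G.map S.g)) : (S.map G).ShortExact := by
  have hm := hS.mono_f
  have hker := (isLimitForkMapOfIsLimit' G _ (hS.fIsKernel))
  have hm : Mono (S.map G).f := inferInstanceAs (Mono (G.map S.f))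
  have he : Epi (S.map G).g := hg
  exact { exact := ShortComplex.exact_of_f_is_kernel _ hker }

section

variable {C : Type u} [SmallCategory C] {J : GrothendieckTopology C}
variable {D : Type u} [SmallCategory D] {K : GrothendieckTopology D}

/-- The free abelian sheaf functor. -/
noncomputable abbrev Z (J : GrothendieckTopology C) : Sheaf J (Type u) ⥤ Sheaf J AddCommGrpCat.{u} :=
  Sheaf.composeAndSheafify J AddCommGrpCat.free.{u}

/-- the adjunction between the free abelian sheaf functor and the forgetful functor -/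
noncomputable abbrev adjZ (J : GrothendieckTopology C) :
    Z J ⊣ sheafCompose J (forget AddCommGrpCat.{u}) :=
  Sheaf.adjunction J AddCommGrpCat.adj

lemma isTotallyAcyclic_iff (F : Sheaf J AddCommGrpCat.{u}) :
    CohCx.IsTotallyAcyclic F ↔ ∀ (K' : Sheaf J (Type u)) (p : ℕ),
      Subsingleton (Abelian.Ext ((Z J).obj K') F (p + 1)) := Iff.rfl

/-- vanishing of positive Ext groups from free sheaves: cokernels -/
lemma isTotallyAcyclic_X₃ {S : ShortComplex (Sheaf J AddCommGrpCat.{u})} (hS : S.ShortExact)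
    (h₁ : CohCx.IsTotallyAcyclic S.X₁) [Injective S.X₂] : CohCx.IsTotallyAcyclic S.X₃ :=
  fun K' p => subsingleton_ext_of_succ hS _ p (h₁ K' (p + 1))

lemma lift_of_isTotallyAcyclic {S : ShortComplex (Sheaf J AddCommGrpCat.{u})} (hS : S.ShortExact)
    (h₁ : CohCx.IsTotallyAcyclic S.X₁) (K' : Sheaf J (Type u)) (q : (Z J).obj K' ⟶ S.X₃) :
    ∃ t : (Z J).obj K' ⟶ S.X₂, t ≫ S.g = q :=
  exists_lift_of_subsingleton_ext hS _ (h₁ K' 0) q

/-- If `0 → F → I → Q → 0` is short exact with `F` totally acyclic, then `I(U) → Q(U)` is surjective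
for every object `U` of the site. -/
lemma surjective_app_of_isTotallyAcyclic {S : ShortComplex (Sheaf J AddCommGrpCat.{u})} (hS : S.ShortExact)
    (h₁ : CohCx.IsTotallyAcyclic S.X₁) (U : C) : Function.Surjective (S.g.hom.app (op U)) := by
  intro q
  -- the sheaf of sets associated to the representable presheaf
  let h : Sheaf J (Type u) := (presheafToSheaf J (Type u)).obj (yoneda.obj U)
  let e (F : Sheaf J AddCommGrpCat.{u}) : ((Z J).obj h ⟶ F) ≃ F.obj.obj (op U) :=
    ((adjZ J).homEquiv h F).trans (((sheafificationAdjunction J (Type u)).homEquiv _ _).trans yonedaEquiv)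
  have he : ∀ {F G : Sheaf J AddCommGrpCat.{u}} (t : (Z J).obj h ⟶ F) (g : F ⟶ G),
      e G (t ≫ g) = g.hom.app (op U) (e F t) := by
    intro F G t g
    simp only [e, Equiv.trans_apply, Adjunction.homEquiv_naturality_right]
    rfl
  obtain ⟨t, ht⟩ := lift_of_isTotallyAcyclic hS h₁ h ((e _).symm q)
  refine ⟨e _ t, ?_⟩
  rw [← he, ht, Equiv.apply_symm_apply]

/-- The general principle. -/
theorem isTotallyAcyclic_map (G : Sheaf J AddCommGrpCat.{u} ⥤ Sheaf K AddCommGrpCat.{u})
    (L : Sheaf K AddCommGrpCat.{u} ⥤ Sheaf J AddCommGrpCat.{u}) (adj : L ⊣ G)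
    [G.Additive] [L.PreservesMonomorphisms]
    (hZ : ∀ K' : Sheaf K (Type u), ∃ K'' : Sheaf J (Type u),
      Nonempty (L.obj ((Z K).obj K') ≅ (Z J).obj K''))
    (hG : ∀ (S : ShortComplex (Sheaf J AddCommGrpCat.{u})), S.ShortExact →
      CohCx.IsTotallyAcyclic S.X₁ → Epi (G.map S.g))
    (F : Sheaf J AddCommGrpCat.{u}) (hF : CohCx.IsTotallyAcyclic F) :
    CohCx.IsTotallyAcyclic (G.obj F) := by
  have : G.IsRightAdjoint := adj.isRightAdjoint
  intro K' p
  induction p generalizing F with
  | zero =>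
    let S : ShortComplex (Sheaf J AddCommGrpCat.{u}) :=
      ShortComplex.mk (Injective.ι F) (cokernel.π (Injective.ι F)) (cokernel.condition _)
    have hS : S.ShortExact :=
      { exact := ShortComplex.exact_of_g_is_cokernel _ (cokernelIsCokernel _) }
    have hSF : CohCx.IsTotallyAcyclic S.X₁ := hF
    have hS' : (S.map G).ShortExact := shortExact_map G hS (hG S hS hSF)
    have hI : Injective (S.map G).X₂ := Injective.injective_of_adjoint adj _
    refine subsingleton_ext_one_of_lift hS' _ (fun q => ?_)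
    -- lift q
    obtain ⟨K'', ⟨e⟩⟩ := hZ K'
    obtain ⟨t, ht⟩ := lift_of_isTotallyAcyclic hS hSF K'' (e.inv ≫ (adj.homEquiv _ _).symm q)
    refine ⟨(adj.homEquiv _ _ (e.hom ≫ t)), ?_⟩
    change _ ≫ G.map S.g = _
    rw [← Adjunction.homEquiv_naturality_right, Category.assoc, ht]
    simp
  | succ p ih =>
    let S : ShortComplex (Sheaf J AddCommGrpCat.{u}) :=
      ShortComplex.mk (Injective.ι F) (cokernel.π (Injective.ι F)) (cokernel.condition _)
    have hS : S.ShortExact :=
      { exact := ShortComplex.exact_of_g_is_cokernel _ (cokernelIsCokernel _) }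
    have hSF : CohCx.IsTotallyAcyclic S.X₁ := hF
    have hS' : (S.map G).ShortExact := shortExact_map G hS (hG S hS hSF)
    have hI : Injective (S.map G).X₂ := Injective.injective_of_adjoint adj _
    have hI₂ : Injective S.X₂ := inferInstanceAs (Injective (Injective.under F))
    have hQ : CohCx.IsTotallyAcyclic S.X₃ := isTotallyAcyclic_X₃ hS hSF
    exact subsingleton_ext_succ hS' _ _ (ih S.X₃ hQ)

/-- Direct image along a continuous functor preserves total acyclicity if it has a left adjoint preserving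
monomorphisms. -/
theorem isTotallyAcyclic_sheafPushforwardContinuous (v : D ⥤ C) [v.IsContinuous K J]
    (L : Sheaf K AddCommGrpCat.{u} ⥤ Sheaf J AddCommGrpCat.{u})
    (adj : L ⊣ v.sheafPushforwardContinuous AddCommGrpCat.{u} K J) [L.PreservesMonomorphisms]
    (F : Sheaf J AddCommGrpCat.{u}) (hF : CohCx.IsTotallyAcyclic F) :
    CohCx.IsTotallyAcyclic ((v.sheafPushforwardContinuous AddCommGrpCat.{u} K J).obj F) := by
  have : (v.sheafPushforwardContinuous AddCommGrpCat.{u} K J).Additive := { }
  refine isTotallyAcyclic_map _ L adj (fun K' => ?_) (fun S hS hS₁ => ?_) F hF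
  · refine ⟨(v.sheafPullback (Type u) K J).obj K', ⟨?_⟩⟩
    let a₁ := (adjZ K).comp adj
    let a₂ := (v.sheafAdjunctionContinuous (Type u) K J).comp (adjZ J)
    let i : v.sheafPushforwardContinuous AddCommGrpCat.{u} K J ⋙ sheafCompose K (forget AddCommGrpCat.{u}) ≅
      sheafCompose J (forget AddCommGrpCat.{u}) ⋙ v.sheafPushforwardContinuous (Type u) K J := Iso.refl _
    exact (Adjunction.leftAdjointUniq (a₁.ofNatIsoRight i) a₂).app K'
  · have hsurj := surjective_app_of_isTotallyAcyclic hS hS₁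
    have : Sheaf.IsLocallySurjective ((v.sheafPushforwardContinuous AddCommGrpCat.{u} K J).map S.g) := by
      have : ∀ (U : Dᵒᵖ), Function.Surjective
          ((((v.sheafPushforwardContinuous AddCommGrpCat.{u} K J).map S.g).hom.app U)) :=
        fun U => hsurj (v.obj U.unop)
      exact Presheaf.isLocallySurjective_of_surjective _ _ this
    infer_instance

end

end Groth.Agent.Sga4A.TotAcyc
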