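import Mathlib.Algebra.Category.Grp.AB
import Mathlib.Algebra.Category.Grp.Limits
import Mathlib.Algebra.Homology.QuasiIso
import Mathlib.Algebra.Homology.ShortComplex.Ab
import Mathlib.Algebra.Homology.ShortComplex.ExactFunctor
import Mathlib.AlgebraicTopology.AlternatingFaceMapComplex
import Mathlib.CategoryTheory.Sites.Abelian
import Mathlib.CategoryTheory.Sites.LocallyBijective
import Mathlib.CategoryTheory.Sites.PreservesSheafification
import Mathlib.CategoryTheory.Abelian.GrothendieckAxioms.Sheaf

/-!
# Local quasi-isomorphisms of complexes of presheaves of abelian groups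

`quasiIsoAt_presheafToSheaf_of_local`: a morphism of complexes of presheaves of abelian groups on a small site
which is, element-wise, locally surjective on cycles modulo boundaries and locally injective on
cycles modulo boundaries in degree `k` becomes a quasi-isomorphism in degree `k` after sheafification.
-/

set_option autoImplicit false
universe u

open CategoryTheory CategoryTheory.Limits Opposite

namespace Groth.Agent.Sga4A.LocQis

variable {C : Type u} [SmallCategory C] (J : GrothendieckTopology C)
variable {ι : Type*} {c : ComplexShape ι}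

section Elements

variable (X : HomologicalComplex (Cᵒᵖ ⥤ AddCommGrpCat.{u}) c) (k : ι) (U : C)

/-- A section of `X_k` killed by the differential comes from the presheaf of cycles. -/
lemma exists_cycle (x : (X.X k).obj (op U)) (hx : (X.d k (c.next k)).app (op U) x = 0) :
    ∃ z : (X.cycles k).obj (op U), (X.iCycles k).app (op U) z = x := by
  have h1 : (ShortComplex.mk (X.iCycles k) (X.d k (c.next k)) (by simp)).Exact :=
    ShortComplex.exact_of_f_is_kernel _ (X.sc k).cyclesIsKernel
  have h2 := h1.map ((evaluation Cᵒᵖ AddCommGrpCat.{u}).obj (op U))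
  rw [ShortComplex.ab_exact_iff] at h2
  exact h2 x hx

/-- A cycle with vanishing homology class is a boundary. -/
lemma exists_boundary (z : (X.cycles k).obj (op U)) (hz : (X.homologyπ k).app (op U) z = 0) :
    ∃ b : (X.X (c.prev k)).obj (op U), (X.toCycles (c.prev k) k).app (op U) b = z := by
  have h1 : (ShortComplex.mk (X.toCycles (c.prev k) k) (X.homologyπ k) (by simp)).Exact :=
    ShortComplex.exact_of_g_is_cokernel _ (X.homologyIsCokernel (c.prev k) k rfl)
  have h2 := h1.map ((evaluation Cᵒᵖ AddCommGrpCat.{u}).obj (op U))
  rw [ShortComplex.ab_exact_iff] at h2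
  exact h2 z hz

lemma exists_rep (h : (X.homology k).obj (op U)) :
    ∃ z : (X.cycles k).obj (op U), (X.homologyπ k).app (op U) z = h := by
  have h1 : Epi ((X.homologyπ k).app (op U)) := inferInstance
  exact (AddCommGrpCat.epi_iff_surjective _).1 h1 h

lemma iCycles_injective : Function.Injective ((X.iCycles k).app (op U)) := by
  have h1 : Mono ((X.iCycles k).app (op U)) := inferInstance
  exact (AddCommGrpCat.mono_iff_injective _).1 h1

end Elements

variable {X Y : HomologicalComplex (Cᵒᵖ ⥤ AddCommGrpCat.{u}) c} (φ : X ⟶ Y) (k : ι)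

/-- Local surjectivity of `φ` on homology in degree `k`. -/
def LocSurj : Prop :=
  ∀ (U : C) (y : (Y.X k).obj (op U)), (Y.d k (c.next k)).app (op U) y = 0 →
    ∃ S ∈ J U, ∀ ⦃V : C⦄ (f : V ⟶ U), S f → ∃ x : (X.X k).obj (op V),
      (X.d k (c.next k)).app (op V) x = 0 ∧
      ∃ b : (Y.X (c.prev k)).obj (op V), (φ.f k).app (op V) x = (Y.X k).map f.op y +
        (Y.d (c.prev k) k).app (op V) b

/-- Local injectivity of `φ` on homology in degree `k`. -/
def LocInj : Prop :=
  ∀ (U : C) (x : (X.X k).obj (op U)), (X.d k (c.next k)).app (op U) x = 0 →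
    ∀ b : (Y.X (c.prev k)).obj (op U), (φ.f k).app (op U) x = (Y.d (c.prev k) k).app (op U) b →
    ∃ S ∈ J U, ∀ ⦃V : C⦄ (f : V ⟶ U), S f → ∃ b' : (X.X (c.prev k)).obj (op V),
      (X.d (c.prev k) k).app (op V) b' = (X.X k).map f.op x

variable {J φ k}

lemma isLocallySurjective_homologyMap (h : LocSurj J φ k) :
    Presheaf.IsLocallySurjective J (HomologicalComplex.homologyMap φ k) where
  imageSieve_mem {U} s := by
    obtain ⟨z, rfl⟩ := exists_rep Y k U s
    obtain ⟨S, hS, hS'⟩ := h U ((Y.iCycles k).app (op U) z) (by
      rw [← ConcreteCategory.comp_apply, ← NatTrans.comp_app]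
      simp)
    refine J.superset_covering ?_ hS
    intro V f hf
    obtain ⟨x, hx, b, hb⟩ := hS' f hf
    obtain ⟨z', rfl⟩ := exists_cycle X k V x hx
    refine ⟨(X.homologyπ k).app _ z', ?_⟩
    have e1 : (HomologicalComplex.cyclesMap φ k).app (op V) z' =
        (Y.cycles k).map f.op z + (Y.toCycles (c.prev k) k).app (op V) b := by
      apply iCycles_injective Y k V
      rw [map_add, ← ConcreteCategory.comp_apply, ← ConcreteCategory.comp_apply,
        ← ConcreteCategory.comp_apply, ← NatTrans.comp_app, ← NatTrans.comp_app,
        NatTrans.naturality, HomologicalComplex.cyclesMap_i, HomologicalComplex.toCycles_i]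
      simpa using hb
    have e2 := congrArg ((Y.homologyπ k).app (op V)) e1
    rw [map_add, ← ConcreteCategory.comp_apply, ← ConcreteCategory.comp_apply,
        ← ConcreteCategory.comp_apply, ← NatTrans.comp_app, ← NatTrans.comp_app,
        NatTrans.naturality, HomologicalComplex.toCycles_comp_homologyπ,
        ← HomologicalComplex.homologyπ_naturality, NatTrans.comp_app, ConcreteCategory.comp_apply,
        ConcreteCategory.comp_apply] at e2
    rw [e2]
    simp

lemma isLocallyInjective_homologyMap (h : LocInj J φ k) :
    Presheaf.IsLocallyInjective J (HomologicalComplex.homologyMap φ k) where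
  equalizerSieve_mem {U} s t hst := by
    obtain ⟨U⟩ := U
    obtain ⟨z, hz⟩ := exists_rep X k U (s - t)
    have e1 : (Y.homologyπ k).app (op U) ((HomologicalComplex.cyclesMap φ k).app (op U) z) = 0 := by
      rw [← ConcreteCategory.comp_apply, ← NatTrans.comp_app,
        ← HomologicalComplex.homologyπ_naturality, NatTrans.comp_app, ConcreteCategory.comp_apply,
        hz, map_sub, hst, sub_self]
    obtain ⟨b, hb⟩ := exists_boundary Y k U _ e1
    have e2 := congrArg ((Y.iCycles k).app (op U)) hb
    rw [← ConcreteCategory.comp_apply, ← ConcreteCategory.comp_apply, ← NatTrans.comp_app,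
      ← NatTrans.comp_app, HomologicalComplex.cyclesMap_i, HomologicalComplex.toCycles_i] at e2
    obtain ⟨S, hS, hS'⟩ := h U ((X.iCycles k).app (op U) z) (by
      rw [← ConcreteCategory.comp_apply, ← NatTrans.comp_app]
      simp) b (by simpa using e2.symm)
    refine J.superset_covering ?_ hS
    intro V f hf
    obtain ⟨b', hb'⟩ := hS' f hf
    have e3 : (X.toCycles (c.prev k) k).app (op V) b' = (X.cycles k).map f.op z := by
      apply iCycles_injective X k V
      rw [← ConcreteCategory.comp_apply, ← ConcreteCategory.comp_apply, ← NatTrans.comp_app,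
        NatTrans.naturality, HomologicalComplex.toCycles_i]
      simpa using hb'
    have e4 := congrArg ((X.homologyπ k).app (op V)) e3
    rw [← ConcreteCategory.comp_apply, ← ConcreteCategory.comp_apply, ← NatTrans.comp_app,
        NatTrans.naturality, HomologicalComplex.toCycles_comp_homologyπ] at e4
    change (X.homology k).map f.op s = (X.homology k).map f.op t
    rw [← sub_eq_zero, ← map_sub, ← hz]
    simpa using e4.symm

variable (φ k)

/-- A local quasi-isomorphism (in degree `k`) of complexes of abelian presheaves becomes a quasi-isomorphism in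
degree `k` after sheafification. -/
theorem quasiIsoAt_presheafToSheaf_of_local (hs : LocSurj J φ k) (hi : LocInj J φ k) :
    QuasiIsoAt (((presheafToSheaf J AddCommGrpCat.{u}).mapHomologicalComplex c).map φ) k := by
  have h1 : J.W (HomologicalComplex.homologyMap φ k) := by
    rw [GrothendieckTopology.W_iff_isLocallyBijective]
    exact ⟨isLocallyInjective_homologyMap hi, isLocallySurjective_homologyMap hs⟩
  rw [GrothendieckTopology.W_iff] at h1
  rw [quasiIsoAt_iff, ShortComplex.quasiIso_iff]
  have e := ShortComplex.mapHomologyIso_hom_naturality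
    ((HomologicalComplex.shortComplexFunctor _ c k).map φ) (presheafToSheaf J AddCommGrpCat.{u})
  have h2 : IsIso ((presheafToSheaf J AddCommGrpCat.{u}).map (ShortComplex.homologyMap
    ((HomologicalComplex.shortComplexFunctor _ c k).map φ))) := h1
  have h3 := IsIso.comp_isIso (f := (ShortComplex.mapHomologyIso
    ((HomologicalComplex.shortComplexFunctor _ c k).obj X) (presheafToSheaf J AddCommGrpCat.{u})).hom)
    (h := (presheafToSheaf J AddCommGrpCat.{u}).map (ShortComplex.homologyMap
    ((HomologicalComplex.shortComplexFunctor _ c k).map φ)))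
  rw [← e] at h3
  exact @IsIso.of_isIso_comp_right _ _ _ _ _ _ (ShortComplex.mapHomologyIso
    ((HomologicalComplex.shortComplexFunctor _ c k).obj Y) (presheafToSheaf J AddCommGrpCat.{u})).hom
    (Iso.isIso_hom _) h3

end Groth.Agent.Sga4A.LocQis
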