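import Groth.Agent.Sga4A.LTFLift
import Groth.Agent.Sga4A.LocQis
import Mathlib.Algebra.Category.Grp.Adjunctions
import Mathlib.AlgebraicTopology.SimplicialObject.ChainHomotopy

/-!
# Local trivial fibrations induce quasi-isomorphisms on free abelian chain complexes
-/

set_option autoImplicit false
universe u

open CategoryTheory CategoryTheory.Limits Opposite Simplicial AlgebraicTopology

namespace Groth.Agent.Sga4A.LTF

open LTFLift LocQis

/-- The free abelian chain complex of a simplicial set (unnormalized). -/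
noncomputable abbrev zc : SSet.{u} ⥤ ChainComplex AddCommGrpCat.{u} ℕ :=
  (SimplicialObject.whiskering _ _).obj AddCommGrpCat.free.{u} ⋙ alternatingFaceMapComplex _

lemma free_map_injective {A B : Type u} (f : A ⟶ B) (hf : Function.Injective f) :
    Function.Injective (AddCommGrpCat.free.{u}.map f) := by
  rcases isEmpty_or_nonempty A with hA | hA
  · have : Subsingleton (FreeAbelianGroup A) := inferInstance
    intro x y _
    exact Subsingleton.elim (α := FreeAbelianGroup A) x y
  · obtain ⟨g, hg⟩ := hf.hasLeftInverse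
    have h : f ≫ (TypeCat.ofHom g) = 𝟙 A := by
      ext a
      exact hg a
    have h2 : AddCommGrpCat.free.{u}.map f ≫ AddCommGrpCat.free.{u}.map (TypeCat.ofHom g) = 𝟙 _ := by
      rw [← Functor.map_comp, h]
      exact AddCommGrpCat.free.{u}.map_id A
    intro x y hxy
    have := congrArg (AddCommGrpCat.free.{u}.map (TypeCat.ofHom g)) hxy
    rw [← ConcreteCategory.comp_apply, ← ConcreteCategory.comp_apply, h2] at this
    exact this

lemma zc_map_f_injective {A B : SSet.{u}} (i : A ⟶ B) [Mono i] (k : ℕ) :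
    Function.Injective ((zc.map i).f k) := by
  have h : Mono (i.app (op ⦋k⦌)) := inferInstance
  exact free_map_injective _ ((mono_iff_injective _).1 h)

instance finite_bot (X : SSet.{u}) : SSet.Finite (⊥ : X.Subcomplex) := by
  have h : (⨆ i : Empty, (Empty.elim i : X.Subcomplex)) = ⊥ := iSup_of_empty _
  rw [← h, SSet.finite_iSup_iff]
  exact fun i => i.elim

instance finite_sup {X : SSet.{u}} (A B : X.Subcomplex) [hA : SSet.Finite A] [hB : SSet.Finite B] :
    SSet.Finite (A ⊔ B : X.Subcomplex) := by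
  rw [sup_eq_iSup, SSet.finite_iSup_iff]
  intro i
  cases i <;> assumption

instance finite_ofSimplex {X : SSet.{u}} {n : ℕ} (x : X _⦋n⦌) :
    SSet.Finite (SSet.Subcomplex.ofSimplex x) := by
  have h : SSet.Subcomplex.ofSimplex x = SSet.Subcomplex.range (SSet.yonedaEquiv.symm x) := by
    rw [SSet.Subcomplex.range_eq_ofSimplex, Equiv.apply_symm_apply]
  rw [h]
  infer_instance

/-- Finite support: every chain of a simplicial set comes from a finite subcomplex. -/
lemma exists_finite_support (X : SSet.{u}) (k : ℕ) (z : (zc.obj X).X k) :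
    ∃ (A : X.Subcomplex) (_ : SSet.Finite A) (z' : (zc.obj (A : SSet.{u})).X k),
      (zc.map A.ι).f k z' = z := by
  refine FreeAbelianGroup.induction_on
    (motive := fun (z : (zc.obj X).X k) => ∃ (A : X.Subcomplex) (_ : SSet.Finite A)
      (z' : (zc.obj (A : SSet.{u})).X k), (zc.map A.ι).f k z' = z) z ?_ ?_ ?_ ?_
  · exact ⟨⊥, inferInstance, 0, map_zero _⟩
  · intro x
    refine ⟨SSet.Subcomplex.ofSimplex x, inferInstance, FreeAbelianGroup.of (⟨x, ?_⟩ :
      ((SSet.Subcomplex.ofSimplex x : X.Subcomplex) : SSet.{u}) _⦋k⦌), ?_⟩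
    · exact SSet.Subcomplex.mem_ofSimplex_obj x
    · exact FreeAbelianGroup.map_of_apply _
  · rintro x ⟨A, hA, z', hz'⟩
    exact ⟨A, hA, -z', by rw [map_neg, hz']; rfl⟩
  · rintro x y ⟨A, hA, a, ha⟩ ⟨B, hB, b, hb⟩
    refine ⟨A ⊔ B, inferInstance, (zc.map (SSet.Subcomplex.homOfLE le_sup_left)).f k a +
      (zc.map (SSet.Subcomplex.homOfLE le_sup_right)).f k b, ?_⟩
    rw [map_add, ← ConcreteCategory.comp_apply, ← ConcreteCategory.comp_apply,
      ← HomologicalComplex.comp_f, ← HomologicalComplex.comp_f, ← Functor.map_comp,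
      ← Functor.map_comp]
    exact congrArg₂ (· + ·) ha hb

section Local

variable {C : Type u} [SmallCategory C] {J : GrothendieckTopology C}
variable {P Q : Cᵒᵖ ⥤ SSet.{u}} {w : P ⟶ Q}

/-- Elementwise functoriality of `zc`. -/
lemma zc_comp_apply {X Y Z : SSet.{u}} (f : X ⟶ Y) (g : Y ⟶ Z) (k : ℕ) (x : (zc.obj X).X k) :
    (zc.map (f ≫ g)).f k x = (zc.map g).f k ((zc.map f).f k x) := by
  rw [Functor.map_comp, HomologicalComplex.comp_f, ConcreteCategory.comp_apply]

/-- Elementwise compatibility with differentials. -/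
lemma zc_d_apply {X Y : SSet.{u}} (f : X ⟶ Y) (i j : ℕ) (x : (zc.obj X).X i) :
    (zc.obj Y).d i j ((zc.map f).f i x) = (zc.map f).f j ((zc.obj X).d i j x) := by
  rw [← ConcreteCategory.comp_apply, ← ConcreteCategory.comp_apply, (zc.map f).comm]

lemma exists_local_lift (hw : IsLTF J w) {U : C} (A : (Q.obj (op U)).Subcomplex) [SSet.Finite A] :
    ∃ S ∈ J U, ∀ ⦃V : C⦄ (f : V ⟶ U), S f →
      ∃ c : (A : SSet.{u}) ⟶ P.obj (op V), c ≫ w.app (op V) = A.ι ≫ Q.map f.op := by
  have h := hw.locLift_of_mono ((⊥ : (A : SSet.{u}).Subcomplex).ι) U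
    (SSet.Subcomplex.isInitialBot.to _) A.ι (SSet.Subcomplex.isInitialBot.hom_ext _ _)
  obtain ⟨S, hS, hS'⟩ := h
  refine ⟨S, hS, fun V f hf => ?_⟩
  obtain ⟨c, -, hc⟩ := hS' f hf
  exact ⟨c, hc⟩

/-- Cycles lift locally. -/
theorem IsLTF.cycle_lift (hw : IsLTF J w) (k j : ℕ) (U : C) (y : (zc.obj (Q.obj (op U))).X k)
    (hy : (zc.obj (Q.obj (op U))).d k j y = 0) :
    ∃ S ∈ J U, ∀ ⦃V : C⦄ (f : V ⟶ U), S f → ∃ x : (zc.obj (P.obj (op V))).X k,
      (zc.obj (P.obj (op V))).d k j x = 0 ∧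
      (zc.map (w.app (op V))).f k x = (zc.map (Q.map f.op)).f k y := by
  obtain ⟨A, hA, y', rfl⟩ := exists_finite_support _ k y
  have hy' : (zc.obj (A : SSet.{u})).d k j y' = 0 := by
    rw [zc_d_apply] at hy
    apply zc_map_f_injective A.ι j
    rw [hy, map_zero]
  obtain ⟨S, hS, hS'⟩ := exists_local_lift hw A
  refine ⟨S, hS, fun V f hf => ?_⟩
  obtain ⟨c, hc⟩ := hS' f hf
  refine ⟨(zc.map c).f k y', ?_, ?_⟩
  · rw [zc_d_apply, hy', map_zero]
  · rw [← zc_comp_apply, ← zc_comp_apply, hc]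

/-- Cycles which become boundaries are locally boundaries. -/
theorem IsLTF.boundary_lift (hw : IsLTF J w) (k : ℕ) (U : C) (x : (zc.obj (P.obj (op U))).X k)
    (hx : (zc.obj (P.obj (op U))).d k ((ComplexShape.down ℕ).next k) x = 0)
    (b : (zc.obj (Q.obj (op U))).X ((ComplexShape.down ℕ).prev k))
    (hb : (zc.map (w.app (op U))).f k x = (zc.obj (Q.obj (op U))).d _ k b) :
    ∃ S ∈ J U, ∀ ⦃V : C⦄ (f : V ⟶ U), S f →
      ∃ b' : (zc.obj (P.obj (op V))).X ((ComplexShape.down ℕ).prev k),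
        (zc.obj (P.obj (op V))).d _ k b' = (zc.map (P.map f.op)).f k x := by
  obtain ⟨A, hA, x', rfl⟩ := exists_finite_support _ k x
  obtain ⟨B₀, hB₀, b₀, rfl⟩ := exists_finite_support _ _ b
  have hx' : (zc.obj (A : SSet.{u})).d k ((ComplexShape.down ℕ).next k) x' = 0 := by
    rw [zc_d_apply] at hx
    apply zc_map_f_injective A.ι _
    rw [hx, map_zero]
  -- a finite subcomplex of `Q(U)` containing `B₀` and the image of `A`
  let B : (Q.obj (op U)).Subcomplex := B₀ ⊔ SSet.Subcomplex.range (A.ι ≫ w.app (op U))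
  have hB : SSet.Finite B := inferInstance
  let u : (A : SSet.{u}) ⟶ (B : SSet.{u}) := SSet.Subcomplex.lift (A.ι ≫ w.app (op U)) le_sup_right
  have hu : u ≫ B.ι = A.ι ≫ w.app (op U) := rfl
  let b₁ := (zc.map (SSet.Subcomplex.homOfLE (le_sup_left : B₀ ≤ B))).f _ b₀
  have hb₁ : (zc.map B.ι).f _ b₁ = (zc.map B₀.ι).f _ b₀ := by
    dsimp only [b₁]
    rw [← zc_comp_apply]
    rfl
  have hub : (zc.map u).f k x' = (zc.obj (B : SSet.{u})).d _ k b₁ := by
    apply zc_map_f_injective B.ι
    rw [← zc_comp_apply, hu, zc_comp_apply, hb, ← hb₁, zc_d_apply]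
  obtain ⟨S, hS, hS'⟩ := exists_local_lift hw B
  choose c hc using hS'
  have key : ∀ ⦃V : C⦄ (f : V ⟶ U) (hf : S f), ∃ T ∈ J V, ∀ ⦃W : C⦄ (p : W ⟶ V), T p →
      Nonempty (SSet.Homotopy ((A.ι ≫ P.map f.op) ≫ P.map p.op) ((u ≫ c f hf) ≫ P.map p.op)) :=
    fun V f hf => hw.exists_homotopy _ _ (by
      rw [Category.assoc, Category.assoc, hc, w.naturality, ← Category.assoc u, hu, Category.assoc])
  choose T hT hT' using key
  refine ⟨Sieve.bind S.arrows T, J.bind_covering hS hT, ?_⟩
  rintro W g ⟨V, p, f, hf, hp, rfl⟩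
  obtain ⟨H⟩ := hT' f hf p hp
  let H' := (H.toSimplicialObjectHomotopy.whiskerRight AddCommGrpCat.free.{u}).toChainHomotopy
  let h0 : (zc.obj (A : SSet.{u})).X k ⟶ (zc.obj (P.obj (op W))).X ((ComplexShape.down ℕ).prev k) :=
    H'.hom k _
  let h1 : (zc.obj (A : SSet.{u})).X ((ComplexShape.down ℕ).next k) ⟶ (zc.obj (P.obj (op W))).X k :=
    H'.hom _ k
  have e0 : (zc.map ((A.ι ≫ P.map f.op) ≫ P.map p.op)).f k =
      (zc.obj (A : SSet.{u})).d k _ ≫ h1 + h0 ≫ (zc.obj (P.obj (op W))).d _ k +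
      (zc.map ((u ≫ c f hf) ≫ P.map p.op)).f k := H'.comm k
  have e1 : (zc.map ((A.ι ≫ P.map f.op) ≫ P.map p.op)).f k x' =
      h1 ((zc.obj (A : SSet.{u})).d k _ x') + (zc.obj (P.obj (op W))).d _ k (h0 x') +
      (zc.map ((u ≫ c f hf) ≫ P.map p.op)).f k x' := by
    rw [e0]
    rfl
  rw [hx', map_zero, zero_add] at e1
  refine ⟨h0 x' +
    (zc.map (P.map p.op)).f _ ((zc.map (c f hf)).f _ b₁), ?_⟩
  rw [map_add, zc_d_apply, zc_d_apply, ← hub, ← zc_comp_apply, ← zc_comp_apply, ← Category.assoc u,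
    ← e1, ← zc_comp_apply]
  have h3 : (A.ι ≫ P.map f.op) ≫ P.map p.op = A.ι ≫ P.map (p ≫ f).op := by
    rw [Category.assoc, ← Functor.map_comp]
    rfl
  rw [h3]

end Local

section Main

variable {C : Type u} [SmallCategory C]

/-- The chain complex of free abelian presheaves on a simplicial presheaf of sets. -/
noncomputable abbrev pzc : SimplicialObject (Cᵒᵖ ⥤ Type u) ⥤ ChainComplex (Cᵒᵖ ⥤ AddCommGrpCat.{u}) ℕ :=
  (SimplicialObject.whiskering _ _).obj ((Functor.whiskeringRight _ _ _).obj AddCommGrpCat.free.{u}) ⋙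
    alternatingFaceMapComplex _

/-- The differential of `pzc` evaluated at an object. -/
lemma pzc_d_app (K : SimplicialObject (Cᵒᵖ ⥤ Type u)) (i j : ℕ) (U : Cᵒᵖ) :
    ((pzc.obj K).d i j).app U = (zc.obj (K.flip.obj U)).d i j := by
  by_cases h : j + 1 = i
  · subst h
    dsimp only [pzc, zc, Functor.comp_obj]
    rw [alternatingFaceMapComplex_obj_d, alternatingFaceMapComplex_obj_d]
    simp only [AlternatingFaceMapComplex.objD]
    rw [NatTrans.app_sum]
    refine Finset.sum_congr rfl (fun x _ => ?_)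
    rw [NatTrans.app_zsmul]
    rfl
  · rw [(pzc.obj K).shape _ _ h, (zc.obj (K.flip.obj U)).shape _ _ h]
    rfl

variable (J : GrothendieckTopology C)

/-- A local trivial fibration of simplicial presheaves of sets: the associated map of presheaves of simplicial
sets has the local right lifting property against boundary inclusions. -/
def IsLTF' {K L : SimplicialObject (Cᵒᵖ ⥤ Type u)} (v : K ⟶ L) : Prop :=
  IsLTF J ((flipFunctor _ _ _).map v)

variable {J}

lemma locSurj_pzc {K L : SimplicialObject (Cᵒᵖ ⥤ Type u)} (v : K ⟶ L) (hv : IsLTF' J v) (k : ℕ) :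
    LocSurj J (pzc.map v) k := by
  intro U y hy
  rw [pzc_d_app] at hy
  obtain ⟨S, hS, hS'⟩ := IsLTF.cycle_lift hv k _ U y hy
  refine ⟨S, hS, fun V f hf => ?_⟩
  obtain ⟨x, hx, hx'⟩ := hS' f hf
  refine ⟨x, ?_, 0, ?_⟩
  · rw [pzc_d_app]
    exact hx
  · rw [map_zero, add_zero]
    exact hx'

lemma locInj_pzc {K L : SimplicialObject (Cᵒᵖ ⥤ Type u)} (v : K ⟶ L) (hv : IsLTF' J v) (k : ℕ) :
    LocInj J (pzc.map v) k := by
  intro U x hx b hb
  rw [pzc_d_app] at hx hb
  obtain ⟨S, hS, hS'⟩ := IsLTF.boundary_lift hv k U x hx b hb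
  refine ⟨S, hS, fun V f hf => ?_⟩
  obtain ⟨b', hb'⟩ := hS' f hf
  refine ⟨b', ?_⟩
  rw [pzc_d_app]
  exact hb'

/-- **Theorem T**, complexes of presheaves form: a local trivial fibration of simplicial presheaves of sets induces
a quasi-isomorphism between the sheafified complexes of free abelian presheaves. -/
theorem quasiIso_presheafToSheaf_pzc {K L : SimplicialObject (Cᵒᵖ ⥤ Type u)} (v : K ⟶ L)
    (hv : IsLTF' J v) :
    QuasiIso (((presheafToSheaf J AddCommGrpCat.{u}).mapHomologicalComplex _).map (pzc.map v)) where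
  quasiIsoAt k := quasiIsoAt_presheafToSheaf_of_local _ _ (locSurj_pzc v hv k) (locInj_pzc v hv k)

lemma quasiIso_congr_functor {D A : Type*} [Category D] [Category A] [Abelian A]
    {F G : D ⥤ ChainComplex A ℕ} (h : F = G) {X Y : D} (f : X ⟶ Y) (hf : QuasiIso (F.map f)) :
    QuasiIso (G.map f) := by
  subst h
  exact hf

/-- **Theorem T**, simplicial form. -/
theorem quasiIso_alternatingFaceMapComplex_map {K L : SimplicialObject (Cᵒᵖ ⥤ Type u)} (v : K ⟶ L)
    (hv : IsLTF' J v) :
    QuasiIso ((alternatingFaceMapComplex (Sheaf J AddCommGrpCat.{u})).map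
      (Functor.whiskerRight v ((Functor.whiskeringRight _ _ _).obj AddCommGrpCat.free.{u} ⋙
        presheafToSheaf J AddCommGrpCat.{u}))) := by
  have h := quasiIso_presheafToSheaf_pzc v hv
  exact quasiIso_congr_functor (map_alternatingFaceMapComplex (presheafToSheaf J AddCommGrpCat.{u}))
    (((SimplicialObject.whiskering _ _).obj
      ((Functor.whiskeringRight _ _ _).obj AddCommGrpCat.free.{u})).map v) h

/-- **Theorem T** for simplicial sheaves of sets. -/
theorem quasiIso_composeAndSheafify {K L : SimplicialObject (Sheaf J (Type u))} (v : K ⟶ L)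
    (hv : IsLTF' J (Functor.whiskerRight v (sheafToPresheaf J (Type u)))) :
    QuasiIso ((alternatingFaceMapComplex _).map
      (Functor.whiskerRight v (Sheaf.composeAndSheafify J AddCommGrpCat.free.{u}))) := by
  have h := quasiIso_alternatingFaceMapComplex_map _ hv
  have e : (SimplicialObject.whiskering _ _).obj (sheafToPresheaf J (Type u)) ⋙
      (SimplicialObject.whiskering _ _).obj
        ((Functor.whiskeringRight _ _ _).obj AddCommGrpCat.free.{u} ⋙
          presheafToSheaf J AddCommGrpCat.{u}) =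
      (SimplicialObject.whiskering _ _).obj
        (Sheaf.composeAndSheafify J AddCommGrpCat.free.{u}) := rfl
  exact quasiIso_congr_functor (congrArg (fun F => F ⋙ alternatingFaceMapComplex _) e) v h

end Main

end Groth.Agent.Sga4A.LTF
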