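import Groth.Agent.Sga4A.LTF
import Mathlib.CategoryTheory.Sites.EpiMono

/-!
# Local trivial fibrations are degreewise locally surjective
-/

set_option autoImplicit false
universe u

open CategoryTheory CategoryTheory.Limits Opposite Simplicial

namespace Groth.Agent.Sga4A.LTFEpi

open LTFLift LTF

variable {C : Type u} [SmallCategory C] {J : GrothendieckTopology C}

theorem isLocallySurjective_app {K L : SimplicialObject (Cᵒᵖ ⥤ Type u)} (v : K ⟶ L)
    (hv : IsLTF' J v) (p : ℕ) :
    Presheaf.IsLocallySurjective J (v.app (op (SimplexCategory.mk p))) where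
  imageSieve_mem {U} y := by
    have h := hv.locLift_of_mono ((⊥ : (Δ[p] : SSet.{u}).Subcomplex).ι) U
      (SSet.Subcomplex.isInitialBot.to _)
      ((SSet.yonedaEquiv (X := L.flip.obj (op U)) (n := ⦋p⦌)).symm y)
      (SSet.Subcomplex.isInitialBot.hom_ext _ _)
    obtain ⟨S, hS, hS'⟩ := h
    refine J.superset_covering ?_ hS
    intro V f hf
    obtain ⟨c, -, hc⟩ := hS' f hf
    refine ⟨SSet.yonedaEquiv c, ?_⟩
    have h1 := congrArg SSet.yonedaEquiv hc
    have h2 : SSet.yonedaEquiv (c ≫ (((flipFunctor _ _ _).map v).app (op V))) =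
        (v.app (op ⦋p⦌)).app (op V) (SSet.yonedaEquiv c) := rfl
    have h3 : SSet.yonedaEquiv ((SSet.yonedaEquiv (X := L.flip.obj (op U)) (n := ⦋p⦌)).symm y ≫
        L.flip.map f.op) = (L.obj (op ⦋p⦌)).map f.op
          (SSet.yonedaEquiv ((SSet.yonedaEquiv (X := L.flip.obj (op U)) (n := ⦋p⦌)).symm y)) := rfl
    rw [h2] at h1
    refine h1.trans (h3.trans ?_)
    rw [Equiv.apply_symm_apply]

theorem epi_app {K L : SimplicialObject (Sheaf J (Type u))} (v : K ⟶ L)
    (hv : IsLTF' J (Functor.whiskerRight v (sheafToPresheaf J (Type u)))) (p : ℕ) :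
    Epi (v.app (op (SimplexCategory.mk p))) := by
  have h := isLocallySurjective_app _ hv p
  have h' : Sheaf.IsLocallySurjective (v.app (op (SimplexCategory.mk p))) := h
  exact (Sheaf.isLocallySurjective_iff_epi _).1 h'

end Groth.Agent.Sga4A.LTFEpi
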