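import Mathlib.AlgebraicTopology.SimplicialSet.Skeleton
import Mathlib.AlgebraicTopology.SimplicialSet.Finite
import Mathlib.AlgebraicTopology.SimplicialSet.FiniteProd
import Mathlib.AlgebraicTopology.SimplicialSet.Homology.HomotopyInvariance
import Mathlib.CategoryTheory.Sites.Grothendieck

/-!
# Local lifting properties of maps of presheaves of simplicial sets

`LocLift J w i`: the map `w : P ⟶ Q` of presheaves of simplicial sets on a site has the local right
lifting property with respect to the map `i : A ⟶ B` of simplicial sets.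

Main result: if `w` has the local right lifting property with respect to all boundary inclusions, then
it has it with respect to all monomorphisms with finite target.
-/

set_option autoImplicit false
universe v u

open CategoryTheory CategoryTheory.Limits Opposite Simplicial MonoidalCategory

namespace Groth.Agent.Sga4A.LTFLift

variable {C : Type u} [Category.{v} C] (J : GrothendieckTopology C)
variable {P Q : Cᵒᵖ ⥤ SSet.{u}} (w : P ⟶ Q)

/-- Local right lifting property of `w : P ⟶ Q` with respect to `i : A ⟶ B`. -/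
def LocLift {A B : SSet.{u}} (i : A ⟶ B) : Prop :=
  ∀ (U : C) (a : A ⟶ P.obj (op U)) (b : B ⟶ Q.obj (op U)), a ≫ w.app (op U) = i ≫ b →
    ∃ S ∈ J U, ∀ ⦃V : C⦄ (f : V ⟶ U), S f →
      ∃ c : B ⟶ P.obj (op V), i ≫ c = a ≫ P.map f.op ∧ c ≫ w.app (op V) = b ≫ Q.map f.op

variable {J w}

lemma LocLift.of_isIso {A B : SSet.{u}} (i : A ⟶ B) [IsIso i] : LocLift J w i := by
  intro U a b h
  refine ⟨⊤, J.top_mem U, fun V f _ => ⟨inv i ≫ a ≫ P.map f.op, by simp, ?_⟩⟩
  rw [Category.assoc, Category.assoc, w.naturality, ← Category.assoc a, h]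
  simp

lemma LocLift.comp {A B D : SSet.{u}} {i : A ⟶ B} {j : B ⟶ D} (hi : LocLift J w i)
    (hj : LocLift J w j) : LocLift J w (i ≫ j) := by
  intro U a d h
  obtain ⟨S, hS, hS'⟩ := hi U a (j ≫ d) (by rw [h, Category.assoc])
  choose c hc₁ hc₂ using hS'
  have key : ∀ ⦃V : C⦄ (f : V ⟶ U) (hf : S f),
      ∃ T ∈ J V, ∀ ⦃W : C⦄ (g : W ⟶ V), T g →
      ∃ e : D ⟶ P.obj (op W), j ≫ e = c f hf ≫ P.map g.op ∧
        e ≫ w.app (op W) = (d ≫ Q.map f.op) ≫ Q.map g.op := fun V f hf =>
    hj V (c f hf) (d ≫ Q.map f.op) (by rw [hc₂, Category.assoc])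
  choose T hT hT' using key
  refine ⟨Sieve.bind S.arrows T, J.bind_covering hS hT, ?_⟩
  rintro W g ⟨V, g', f, hf, hg', rfl⟩
  obtain ⟨e, he₁, he₂⟩ := hT' f hf g' hg'
  refine ⟨e, ?_, ?_⟩
  · rw [Category.assoc, he₁, ← Category.assoc, hc₁]
    simp
  · rw [he₂]
    simp

lemma LocLift.of_isPushout {A B A' B' : SSet.{u}} {i : A ⟶ B} {i' : A' ⟶ B'} {f : A ⟶ A'}
    {g : B ⟶ B'} (sq : IsPushout f i i' g) (hi : LocLift J w i) : LocLift J w i' := by
  intro U a b h
  obtain ⟨S, hS, hS'⟩ := hi U (f ≫ a) (g ≫ b)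
    (by rw [Category.assoc, h, ← Category.assoc, sq.w, Category.assoc])
  refine ⟨S, hS, fun V p hp => ?_⟩
  obtain ⟨c, hc₁, hc₂⟩ := hS' p hp
  refine ⟨sq.desc (a ≫ P.map p.op) c (by rw [hc₁, Category.assoc]), by simp, ?_⟩
  apply sq.hom_ext
  · rw [sq.inl_desc_assoc, Category.assoc, w.naturality, ← Category.assoc a, h]
    simp
  · rw [sq.inr_desc_assoc, hc₂]
    simp

lemma exists_finite_inter {ι : Type*} [Finite ι] {U : C} (S : ι → Sieve U) (hS : ∀ i, S i ∈ J U) :
    ∃ T ∈ J U, ∀ i, T ≤ S i := by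
  classical
  have : Fintype ι := Fintype.ofFinite ι
  suffices H : ∀ s : Finset ι, ∃ T ∈ J U, ∀ i ∈ s, T ≤ S i by
    obtain ⟨T, hT, hT'⟩ := H Finset.univ
    exact ⟨T, hT, fun i => hT' i (Finset.mem_univ i)⟩
  intro s
  induction s using Finset.induction with
  | empty => exact ⟨⊤, J.top_mem U, by simp⟩
  | insert i s _ ih =>
    obtain ⟨T, hT, hT'⟩ := ih
    refine ⟨S i ⊓ T, J.intersection_covering (hS i) hT, ?_⟩
    intro j hj
    rw [Finset.mem_insert] at hj
    rcases hj with rfl | hj
    · exact inf_le_left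
    · exact inf_le_right.trans (hT' j hj)

lemma LocLift.sigmaMap {ι : Type u} [Finite ι] {A B : ι → SSet.{u}} (i : ∀ x, A x ⟶ B x)
    (hi : ∀ x, LocLift J w (i x)) : LocLift J w (Limits.Sigma.map i) := by
  intro U a b h
  have key := fun x => hi x U (Sigma.ι A x ≫ a) (Sigma.ι B x ≫ b)
    (by rw [Category.assoc, h]; simp)
  choose S hS hS' using key
  obtain ⟨T, hT, hT'⟩ := exists_finite_inter S hS
  refine ⟨T, hT, fun V f hf => ?_⟩
  have key₂ := fun x => hS' x f (hT' x f hf)
  choose c hc₁ hc₂ using key₂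
  refine ⟨Sigma.desc c, ?_, ?_⟩
  · ext1 x
    simp [hc₁]
  · ext1 x
    simp [hc₂]

variable (J w) in
/-- `w : P ⟶ Q` is a local trivial fibration: it has the local right lifting property with respect to all
boundary inclusions. -/
def IsLTF : Prop := ∀ n : ℕ, LocLift J w ((∂Δ[n] : (Δ[n] : SSet.{u}).Subcomplex).ι)

open SSet SSet.relativeCellComplexOfMono in
lemma IsLTF.locLift_r (hw : IsLTF J w) {A B : SSet.{u}} (i : A ⟶ B) [B.Finite] (d : ℕ) :
    LocLift J w (r i d) := by
  have : Finite (Cell i d) := by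
    refine Finite.of_injective (fun c => (⟨c.simplex, c.nonDegenerate⟩ : B.nonDegenerate d)) ?_
    intro c c' h
    ext
    simpa using congrArg Subtype.val h
  exact LocLift.of_isPushout (isPushout i d) (LocLift.sigmaMap _ (fun _ => hw d))

open SSet SSet.relativeCellComplexOfMono in
/-- A local trivial fibration has the local right lifting property with respect to all monomorphisms with
finite target. -/
theorem IsLTF.locLift_of_mono (hw : IsLTF J w) {A B : SSet.{u}} (i : A ⟶ B) [Mono i] [B.Finite] :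
    LocLift J w i := by
  obtain ⟨d, hd⟩ := B.hasDimensionLT_of_finite
  have H : ∀ n : ℕ, LocLift J w
      (Subcomplex.homOfLE ((skeletonOfMono i).monotone (Nat.zero_le n))) := by
    intro n
    induction n with
    | zero =>
      have : IsIso (Subcomplex.homOfLE ((skeletonOfMono i).monotone (Nat.zero_le 0))) := by
        have h := Subcomplex.homOfLE_refl (skeletonOfMono i 0)
        rw [h]
        infer_instance
      exact LocLift.of_isIso _
    | succ n ih =>
      have e : Subcomplex.homOfLE ((skeletonOfMono i).monotone (Nat.zero_le (n + 1))) =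
        Subcomplex.homOfLE ((skeletonOfMono i).monotone (Nat.zero_le n)) ≫ r i n := rfl
      rw [e]
      exact ih.comp (hw.locLift_r i n)
  have htop : skeletonOfMono i d = ⊤ := by
    rw [Subcomplex.eq_top_iff_of_hasDimensionLT _ d]
    intro k hk x _
    rw [skeletonOfMono_obj_eq_top i hk]
    trivial
  have hiso₁ : IsIso (Subcomplex.toRange i) := inferInstance
  have h0 : skeletonOfMono i 0 = Subcomplex.range i := skeletonOfMono_zero i
  have e : i = (Subcomplex.toRange i ≫ (Subcomplex.eqToIso h0.symm).hom) ≫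
      Subcomplex.homOfLE ((skeletonOfMono i).monotone (Nat.zero_le d)) ≫
      (Subcomplex.eqToIso htop ≪≫ Subcomplex.topIso B).hom := by
    ext n x
    rfl
  rw [e]
  exact (LocLift.of_isIso _).comp ((H d).comp (LocLift.of_isIso _))

/-- Elements of a coproduct of simplicial sets. -/
lemma exists_sigma_rep {ι : Type} (A : ι → SSet.{u}) {n : SimplexCategoryᵒᵖ} (a : (∐ A).obj n) :
    ∃ (i : ι) (x : (A i).obj n), (Sigma.ι A i).app n x = a :=
  Cofan.inj_jointly_surjective_of_isColimit
    (isColimitCofanMkObjOfIsColimit ((CategoryTheory.evaluation _ _).obj _) _ _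
      (coproductIsCoproduct _)) a

/-- The two ends of the cylinder, indexed by `Bool`. -/
noncomputable def ends (A : SSet.{u}) : Bool → (A ⟶ A ⊗ Δ[1])
  | false => SSet.ι₀
  | true => SSet.ι₁

lemma sigmaDesc_ends_app (A : SSet.{u}) {n : SimplexCategoryᵒᵖ} (i : Bool) (z : A.obj n) :
    (Sigma.desc (ends A)).app n ((Sigma.ι (fun _ => A) i).app n z) = (ends A i).app n z := by
  have h := congrArg (fun (f : A ⟶ A ⊗ Δ[1]) => f.app n z) (Sigma.ι_desc (ends A) i)
  exact h

instance mono_sigmaDesc_ends (A : SSet.{u}) : Mono (Sigma.desc (ends A)) := by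
  rw [NatTrans.mono_iff_mono_app]
  rintro ⟨n⟩
  induction n using SimplexCategory.rec with | _ n =>
  rw [mono_iff_injective]
  intro x y hxy
  obtain ⟨i, x, rfl⟩ := exists_sigma_rep _ x
  obtain ⟨j, y, rfl⟩ := exists_sigma_rep _ y
  rw [sigmaDesc_ends_app, sigmaDesc_ends_app] at hxy
  have h01 : ∀ a b : A _⦋n⦌, (ends A false).app _ a ≠ (ends A true).app _ b := by
    intro a b h
    have h2 := congrArg (fun z => (Prod.snd z : (Δ[1] : SSet.{u}) _⦋n⦌) 0) h
    exact absurd h2 (by simp [ends])
  have hinj : ∀ i, ((ends A i).app (op ⦋n⦌) x).1 = x := by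
    intro i
    cases i <;> rfl
  have hinj' : ∀ i, ((ends A i).app (op ⦋n⦌) y).1 = y := by
    intro i
    cases i <;> rfl
  cases i <;> cases j
  · have := congrArg Prod.fst hxy
    rw [hinj, hinj'] at this
    rw [this]
  · exact absurd hxy (h01 _ _)
  · exact absurd hxy.symm (h01 _ _)
  · have := congrArg Prod.fst hxy
    rw [hinj, hinj'] at this
    rw [this]

/-- Two maps from a finite simplicial set to `P(U)` which agree in `Q(U)` are locally homotopic, if
`w : P ⟶ Q` is a local trivial fibration. -/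
theorem IsLTF.exists_homotopy (hw : IsLTF J w) {A : SSet.{u}} [A.Finite] {U : C}
    (f g : A ⟶ P.obj (op U)) (h : f ≫ w.app (op U) = g ≫ w.app (op U)) :
    ∃ S ∈ J U, ∀ ⦃V : C⦄ (p : V ⟶ U), S p →
      Nonempty (SSet.Homotopy (f ≫ P.map p.op) (g ≫ P.map p.op)) := by
  have hl : LocLift J w (Sigma.desc (ends A)) := hw.locLift_of_mono _
  obtain ⟨S, hS, hS'⟩ := hl U (Sigma.desc (fun i => match i with | false => f | true => g))
    (CartesianMonoidalCategory.fst A Δ[1] ≫ f ≫ w.app (op U)) (by
      ext1 i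
      cases i
      · simp [ends]
      · simp [ends, h])
  refine ⟨S, hS, fun V p hp => ?_⟩
  obtain ⟨c, hc, -⟩ := hS' p hp
  have h₀ : SSet.ι₀ ≫ c = f ≫ P.map p.op := by
    have := Sigma.ι (fun _ => A) false ≫= hc
    simpa [ends] using this
  have h₁ : SSet.ι₁ ≫ c = g ≫ P.map p.op := by
    have := Sigma.ι (fun _ => A) true ≫= hc
    simpa [ends] using this
  exact ⟨{ h := c, h₀ := h₀, h₁ := h₁, rel := by
            ext n ⟨⟨x, hx⟩, y⟩
            exact hx.elim }⟩

end Groth.Agent.Sga4A.LTFLift
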