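import Groth.Agent.Sga4A.KanPost
import Groth.Agent.Sga4A.LTFLift
import Mathlib.CategoryTheory.Sites.LocallySurjective
import Mathlib.CategoryTheory.Sites.EpiMono
import Mathlib.CategoryTheory.Sites.Limits
import Mathlib.CategoryTheory.Adjunction.Evaluation
import Mathlib.CategoryTheory.Sites.ConcreteSheafification

/-!
# Special morphisms of coskeletal simplicial sheaves are local trivial fibrations

`isLTF_of_special`: a morphism of `n`-coskeletal simplicial sheaves of sets which is an isomorphism in degrees
`< n` and an epimorphism in degree `n` has the local right lifting property with respect to all boundary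
inclusions.
-/

set_option autoImplicit false

universe u

open CategoryTheory CategoryTheory.Limits Opposite Simplicial

namespace Groth.Agent.Sga4A.Special

open Groth.Agent.Sga4A.KanPost Groth.Agent.Sga4A.LTFLift

/-- A simplicial set is `n`-coskeletal in the strong sense. -/
def Cosk (n : ℕ) (S : SSet.{u}) : Prop :=
  ∀ A : SSet.{u}, Function.Bijective
    (fun γ : A ⟶ S => Functor.whiskerLeft (SimplexCategory.Truncated.inclusion n).op γ)

lemma Cosk.hom_ext {n : ℕ} {S : SSet.{u}} (h : Cosk n S) {A B : SSet.{u}} (i : A ⟶ B)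
    [IsIso (Functor.whiskerLeft (SimplexCategory.Truncated.inclusion n).op i)]
    {f g : B ⟶ S} (hfg : i ≫ f = i ≫ g) : f = g := by
  apply (h B).1
  dsimp
  rw [← cancel_epi (Functor.whiskerLeft (SimplexCategory.Truncated.inclusion n).op i)]
  exact congrArg (Functor.whiskerLeft (SimplexCategory.Truncated.inclusion n).op) hfg

lemma Cosk.exists_lift {n : ℕ} {S : SSet.{u}} (h : Cosk n S) {A B : SSet.{u}} (i : A ⟶ B)
    [IsIso (Functor.whiskerLeft (SimplexCategory.Truncated.inclusion n).op i)]
    (f : A ⟶ S) : ∃ g : B ⟶ S, i ≫ g = f := by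
  obtain ⟨g, hg⟩ := (h B).2 (inv (Functor.whiskerLeft (SimplexCategory.Truncated.inclusion n).op i) ≫
    Functor.whiskerLeft (SimplexCategory.Truncated.inclusion n).op f)
  refine ⟨g, (h A).1 ?_⟩
  dsimp at hg ⊢
  rw [hg]
  simp

/-- Postcomposition of an `n`-coskeletal simplicial object with a right adjoint functor to types. -/
lemma cosk_of_isCoskeletal {D : Type*} [Category D] {T : Type u ⥤ D} {G : D ⥤ Type u} (adj : T ⊣ G)
    (K : SimplicialObject D) (n : ℕ) [K.IsCoskeletal n] : Cosk n (K ⋙ G) := by
  intro A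
  have h := bijective_compar adj (L := (SimplexCategory.Truncated.inclusion n).op) K (𝟙 _) A
  have e : compar (L := (SimplexCategory.Truncated.inclusion n).op) K (𝟙 _) G A =
      (fun γ : A ⟶ K ⋙ G => Functor.whiskerLeft (SimplexCategory.Truncated.inclusion n).op γ) := by
    funext γ
    apply NatTrans.ext
    funext a
    simp [compar]
  rw [← e]
  exact h

section Sheaf

variable {C : Type u} [SmallCategory C] (J : GrothendieckTopology C)

/-- The sections functor has a left adjoint. -/
noncomputable def sectionsAdj (U : Cᵒᵖ) :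
    evaluationLeftAdjoint (Type u) U ⋙ presheafToSheaf J (Type u) ⊣
      sheafToPresheaf J (Type u) ⋙ (evaluation Cᵒᵖ (Type u)).obj U :=
  (evaluationAdjunctionRight (Type u) U).comp (sheafificationAdjunction J (Type u))

/-- The sections over `U` of a simplicial sheaf, as a simplicial set. -/
abbrev sectS {J : GrothendieckTopology C} (K : SimplicialObject (Sheaf J (Type u))) (U : Cᵒᵖ) : SSet.{u} :=
  (K ⋙ sheafToPresheaf J (Type u)).flip.obj U

lemma cosk_sectS (K : SimplicialObject (Sheaf J (Type u))) (n : ℕ) [K.IsCoskeletal n] (U : Cᵒᵖ) :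
    Cosk n (sectS K U) :=
  cosk_of_isCoskeletal (sectionsAdj J U) K n

variable {J}

/-- The map of presheaves of simplicial sets induced by a morphism of simplicial sheaves. -/
abbrev flipMap {K L : SimplicialObject (Sheaf J (Type u))} (v : K ⟶ L) :
    (K ⋙ sheafToPresheaf J (Type u)).flip ⟶ (L ⋙ sheafToPresheaf J (Type u)).flip :=
  (flipFunctor _ _ _).map (Functor.whiskerRight v (sheafToPresheaf J (Type u)))

lemma flipMap_app_app {K L : SimplicialObject (Sheaf J (Type u))} (v : K ⟶ L) (U : Cᵒᵖ)
    (k : SimplexCategoryᵒᵖ) : ((flipMap v).app U).app k = (v.app k).hom.app U := rfl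

/-- Maps out of the boundary of a simplex are equal if they become equal after a map which is injective
on simplices of one dimension less. -/
lemma boundary_hom_ext_of_injective (m : ℕ) {X Y : SSet.{u}} (w : X ⟶ Y)
    (hw : ∀ p : ℕ, p + 1 = m → Function.Injective (w.app (op ⦋p⦌)))
    {f g : (SSet.boundary.{u} m : SSet.{u}) ⟶ X} (h : f ≫ w = g ≫ w) : f = g := by
  obtain _ | m := m
  · exact SSet.boundary.hom_ext₀
  · apply SSet.boundary.hom_ext
    intro i
    apply SSet.yonedaEquiv.injective
    apply hw m rfl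
    have := congrArg (fun t => SSet.yonedaEquiv (SSet.boundary.ι i ≫ t)) h
    exact this

theorem isLTF_of_special [∀ (n : ℕ) (F : (SimplexCategory.Truncated n)ᵒᵖ ⥤ Sheaf J (Type u)),
      (SimplexCategory.Truncated.inclusion n).op.HasRightKanExtension F]
    {K L : SimplicialObject (Sheaf J (Type u))} (v : K ⟶ L) (n : ℕ)
    (h1 : ∀ p : ℕ, p < n → IsIso (v.app (op (SimplexCategory.mk p))))
    (h2 : Epi (v.app (op (SimplexCategory.mk n))))
    (h3 : IsIso ((SimplicialObject.coskAdj n).unit.app K) ∧ IsIso ((SimplicialObject.coskAdj n).unit.app L)) :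
    IsLTF J (flipMap v) := by
  have hK : K.IsCoskeletal n := (SimplicialObject.isCoskeletal_iff_isIso K n).2 h3.1
  have hL : L.IsCoskeletal n := (SimplicialObject.isCoskeletal_iff_isIso L n).2 h3.2
  intro m U a b hab
  by_cases hmn : n < m
  · have : Fact (n < m) := ⟨hmn⟩
    refine ⟨⊤, J.top_mem U, fun V f _ => ?_⟩
    obtain ⟨c, hc⟩ := (cosk_sectS J K n (op V)).exists_lift (SSet.boundary.{u} m).ι
      (a ≫ ((K ⋙ sheafToPresheaf J (Type u)).flip).map f.op)
    refine ⟨c, hc, ?_⟩
    apply (cosk_sectS J L n (op V)).hom_ext (SSet.boundary.{u} m).ι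
    rw [← Category.assoc, hc, Category.assoc, (flipMap v).naturality, ← Category.assoc, hab, Category.assoc]
  · have hepi : Epi (v.app (op (SimplexCategory.mk m))) := by
      rcases (not_lt.1 hmn).lt_or_eq with h | rfl
      · have := h1 m h
        infer_instance
      · exact h2
    have hls : Sheaf.IsLocallySurjective (v.app (op (SimplexCategory.mk m))) :=
      (Sheaf.isLocallySurjective_iff_epi' (Type u) _).2 hepi
    let y : (L.obj (op ⦋m⦌)).obj.obj (op U) := SSet.yonedaEquiv b
    refine ⟨Presheaf.imageSieve (v.app (op ⦋m⦌)).hom y, Presheaf.imageSieve_mem J (v.app (op ⦋m⦌)).hom (U := op U) y, ?_⟩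
    rintro V f ⟨x, hx⟩
    let c : (SSet.stdSimplex.{u}.obj ⦋m⦌) ⟶ sectS K (op V) := SSet.yonedaEquiv.symm x
    have hc : c ≫ (flipMap v).app (op V) = b ≫ ((L ⋙ sheafToPresheaf J (Type u)).flip).map f.op := by
      apply SSet.yonedaEquiv.injective
      change (v.app (op ⦋m⦌)).hom.app (op V) (SSet.yonedaEquiv c) = _
      rw [Equiv.apply_symm_apply]
      exact hx
    refine ⟨c, ?_, hc⟩
    apply boundary_hom_ext_of_injective m ((flipMap v).app (op V))
    · intro p hp
      have := h1 p (by omega)
      have : IsIso ((v.app (op ⦋p⦌)).hom.app (op V)) :=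
        inferInstanceAs (IsIso ((sheafToPresheaf J (Type u) ⋙ (evaluation _ _).obj (op V)).map (v.app (op ⦋p⦌))))
      exact ((isIso_iff_bijective _).1 this).1
    · rw [Category.assoc, hc, Category.assoc, (flipMap v).naturality, ← Category.assoc, ← hab, Category.assoc]

end Sheaf

end Groth.Agent.Sga4A.Special
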