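import Mathlib.CategoryTheory.Sites.Over
import Mathlib.CategoryTheory.Sites.LeftExact
import Mathlib.CategoryTheory.Adjunction.Restrict
import Mathlib.CategoryTheory.Abelian.GrothendieckAxioms.Basic
import Mathlib.Algebra.Category.Grp.AB
import Mathlib.Algebra.Category.Grp.Abelian
import Mathlib.CategoryTheory.Sites.Abelian

/-!
# Extension by zero for abelian (pre)sheaves along `Over X ⥤ C`

For an object `X` of a small category `C` and a presheaf of abelian groups `P` on `Over X`, the presheaf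
`jPsh P : U ↦ ∐_{φ : U ⟶ X} P(φ)` is the left adjoint of the restriction functor; after sheafification we get an
exact left adjoint of `Sheaf J Ab ⥤ Sheaf (J.over X) Ab`.
-/

set_option autoImplicit false
universe w v u v' u'
open CategoryTheory Limits Opposite

namespace Groth.Agent.Sga4A.OverShriek

variable {C : Type u} [Category.{v} C] (X : C) {A : Type u'} [Category.{v'} A] [HasCoproducts.{v} A]

section

variable {X}

/-- The inclusion of the summand `φ`, precomposed with a restriction map -/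
lemma map_comp_ι (P : (Over X)ᵒᵖ ⥤ A) {U V : C} (g : V ⟶ U) (φ : U ⟶ X) (ψ : V ⟶ X) (h : g ≫ φ = ψ) :
    P.map (Over.homMk g : Over.mk (g ≫ φ) ⟶ Over.mk φ).op ≫
      Sigma.ι (fun φ : (V ⟶ X) => P.obj (op (Over.mk φ))) (g ≫ φ) =
    P.map (Over.homMk g h : Over.mk ψ ⟶ Over.mk φ).op ≫
      Sigma.ι (fun φ : (V ⟶ X) => P.obj (op (Over.mk φ))) ψ := by
  subst h
  rfl

/-- Extension by zero of presheaves along `Over X ⥤ C` -/
noncomputable def jPshObj (P : (Over X)ᵒᵖ ⥤ A) : Cᵒᵖ ⥤ A where
  obj U := ∐ (fun φ : (U.unop ⟶ X) => P.obj (op (Over.mk φ)))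
  map {U V} g := Sigma.desc (fun φ =>
    P.map (Over.homMk g.unop : Over.mk (g.unop ≫ φ) ⟶ Over.mk φ).op ≫
      Sigma.ι (fun φ : (V.unop ⟶ X) => P.obj (op (Over.mk φ))) (g.unop ≫ φ))
  map_id U := by
    apply Sigma.hom_ext
    intro φ
    simp only [colimit.ι_desc, Cofan.mk_ι_app, Category.comp_id]
    refine (map_comp_ι P _ _ φ (by simp)).trans ?_
    have : (Over.homMk (𝟙 U : U ⟶ U).unop (by simp) : Over.mk φ ⟶ Over.mk φ) = 𝟙 _ := by ext; simp
    rw [this]
    simp
  map_comp {U V W} f g := by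
    apply Sigma.hom_ext
    intro φ
    simp only [colimit.ι_desc, Cofan.mk_ι_app, colimit.ι_desc_assoc, Category.assoc]
    refine (map_comp_ι P _ _ (g.unop ≫ f.unop ≫ φ) (by simp)).trans ?_
    conv_rhs => rw [← Category.assoc]
    rw [← P.map_comp]
    rfl

/-- The canonical map `P(φ) ⟶ (j_! P)(U)` -/
noncomputable def jι (P : (Over X)ᵒᵖ ⥤ A) {U : C} (φ : U ⟶ X) :
    P.obj (op (Over.mk φ)) ⟶ (jPshObj P).obj (op U) :=
  Sigma.ι (fun φ : (U ⟶ X) => P.obj (op (Over.mk φ))) φ

@[reassoc]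
lemma jι_map (P : (Over X)ᵒᵖ ⥤ A) {U V : C} (φ : U ⟶ X) (ψ : V ⟶ X) (g : V ⟶ U) (h : g ≫ φ = ψ) :
    jι P φ ≫ (jPshObj P).map g.op = P.map (Over.homMk g h : Over.mk ψ ⟶ Over.mk φ).op ≫ jι P ψ := by
  dsimp [jι, jPshObj]
  simp only [colimit.ι_desc, Cofan.mk_ι_app]
  exact map_comp_ι P g φ ψ h

lemma jPshObj_hom_ext (P : (Over X)ᵒᵖ ⥤ A) {U : C} {B : A} {f g : (jPshObj P).obj (op U) ⟶ B}
    (h : ∀ φ : U ⟶ X, jι P φ ≫ f = jι P φ ≫ g) : f = g :=
  Sigma.hom_ext _ _ h

/-- The universal property of `(j_! P)(U)`. -/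
noncomputable def jDesc (P : (Over X)ᵒᵖ ⥤ A) {U : C} {B : A}
    (f : ∀ φ : U ⟶ X, P.obj (op (Over.mk φ)) ⟶ B) : (jPshObj P).obj (op U) ⟶ B :=
  Sigma.desc f

@[reassoc]
lemma jι_jDesc (P : (Over X)ᵒᵖ ⥤ A) {U : C} {B : A}
    (f : ∀ φ : U ⟶ X, P.obj (op (Over.mk φ)) ⟶ B) (φ : U ⟶ X) :
    jι P φ ≫ jDesc P f = f φ :=
  Sigma.ι_desc _ _

/-- A morphism `(j_! P)(U) ⟶ (j_! Q)(U)` which is a coproduct of monomorphisms is a monomorphism if coproducts are
exact. -/
lemma mono_of_jι_comp [HasFiniteLimits A] [AB4OfSize.{v} A] {P Q : (Over X)ᵒᵖ ⥤ A} {U : C}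
    (f : (jPshObj P).obj (op U) ⟶ (jPshObj Q).obj (op U))
    (β : ∀ φ : U ⟶ X, P.obj (op (Over.mk φ)) ⟶ Q.obj (op (Over.mk φ))) [∀ φ, Mono (β φ)]
    (h : ∀ φ, jι P φ ≫ f = β φ ≫ jι Q φ) : Mono f := by
  have hf : f = colim.map (Discrete.natTrans (fun φ => β φ.as) :
      Discrete.functor (fun φ : U ⟶ X => P.obj (op (Over.mk φ))) ⟶
        Discrete.functor (fun φ : U ⟶ X => Q.obj (op (Over.mk φ)))) := by
    apply jPshObj_hom_ext
    intro φ
    rw [h φ]
    exact (Sigma.ι_map _ _).symm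
  have : Mono (Discrete.natTrans (fun φ => β φ.as) :
      Discrete.functor (fun φ : U ⟶ X => P.obj (op (Over.mk φ))) ⟶
        Discrete.functor (fun φ : U ⟶ X => Q.obj (op (Over.mk φ)))) := by
    rw [NatTrans.mono_iff_mono_app]
    rintro ⟨φ⟩
    dsimp
    infer_instance
  rw [hf]
  have h1 : PreservesFiniteLimits (colim (J := Discrete (U ⟶ X)) (C := A)) := inferInstance
  have h2 : (colim (J := Discrete (U ⟶ X)) (C := A)).PreservesMonomorphisms :=
    preservesMonomorphisms_of_preservesLimitsOfShape _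
  exact h2.preserves _

attribute [irreducible] jι jDesc jPshObj

/-- Functoriality of the extension by zero of presheaves -/
noncomputable def jPshMap {P Q : (Over X)ᵒᵖ ⥤ A} (α : P ⟶ Q) : jPshObj P ⟶ jPshObj Q where
  app U := jDesc P (U := U.unop) (fun φ => α.app (op (Over.mk φ)) ≫ jι Q φ)
  naturality U V g := by
    obtain ⟨U⟩ := U
    obtain ⟨V⟩ := V
    obtain ⟨g, rfl⟩ : ∃ g' : V ⟶ U, g = g'.op := ⟨g.unop, rfl⟩
    apply jPshObj_hom_ext
    intro φ
    rw [jι_map_assoc P φ (g ≫ φ) g rfl]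
    erw [jι_jDesc, jι_jDesc_assoc]
    rw [Category.assoc, jι_map Q φ (g ≫ φ) g rfl, α.naturality_assoc]

@[reassoc]
lemma jι_jPshMap_app {P Q : (Over X)ᵒᵖ ⥤ A} (α : P ⟶ Q) {U : C} (φ : U ⟶ X) :
    jι P φ ≫ (jPshMap α).app (op U) = α.app (op (Over.mk φ)) ≫ jι Q φ :=
  jι_jDesc _ _ _

end

variable (A) in
/-- Extension by zero of presheaves along `Over X ⥤ C` -/
noncomputable def jPsh : ((Over X)ᵒᵖ ⥤ A) ⥤ (Cᵒᵖ ⥤ A) where
  obj P := jPshObj P
  map α := jPshMap α
  map_id P := by
    ext U : 2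
    obtain ⟨U⟩ := U
    apply jPshObj_hom_ext
    intro φ
    rw [jι_jPshMap_app]
    simp
  map_comp α β := by
    ext U : 2
    obtain ⟨U⟩ := U
    apply jPshObj_hom_ext
    intro φ
    rw [jι_jPshMap_app, NatTrans.comp_app, NatTrans.comp_app, jι_jPshMap_app_assoc, jι_jPshMap_app]
    simp

variable (A) in
/-- The restriction of presheaves to `Over X` -/
abbrev jRes : (Cᵒᵖ ⥤ A) ⥤ ((Over X)ᵒᵖ ⥤ A) := (Functor.whiskeringLeft _ _ A).obj (Over.forget X).op

/-- unit of the adjunction -/
noncomputable def jUnit (P : (Over X)ᵒᵖ ⥤ A) : P ⟶ (jRes X A).obj (jPshObj P) where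
  app Y := jι P Y.unop.hom
  naturality Y Z g := (jι_map P Y.unop.hom Z.unop.hom g.unop.left (Over.w g.unop)).symm

/-- counit of the adjunction -/
noncomputable def jCounit (Q : Cᵒᵖ ⥤ A) : jPshObj ((jRes X A).obj Q) ⟶ Q where
  app U := jDesc ((jRes X A).obj Q) (U := U.unop) (fun φ => 𝟙 (Q.obj U))
  naturality U V g := by
    obtain ⟨U⟩ := U
    obtain ⟨V⟩ := V
    obtain ⟨g, rfl⟩ : ∃ g' : V ⟶ U, g = g'.op := ⟨g.unop, rfl⟩
    apply jPshObj_hom_ext
    intro φ
    rw [jι_map_assoc _ φ (g ≫ φ) g rfl]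
    refine (congrArg (fun x => _ ≫ x) (jι_jDesc ((jRes X A).obj Q) (U := V) (fun φ => 𝟙 (Q.obj (op V))) _)).trans ?_
    refine Eq.trans ?_ (jι_jDesc_assoc ((jRes X A).obj Q) (U := U) (fun φ => 𝟙 (Q.obj (op U))) φ _).symm
    exact (Category.comp_id _).trans (Category.id_comp _).symm

@[reassoc]
lemma jι_jCounit_app (Q : Cᵒᵖ ⥤ A) {U : C} (φ : U ⟶ X) :
    jι ((jRes X A).obj Q) φ ≫ (jCounit X Q).app (op U) = 𝟙 (Q.obj (op U)) :=
  jι_jDesc _ _ _

/-- The adjunction between extension by zero of presheaves and restriction. -/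
noncomputable def jPshAdj : jPsh X A ⊣ jRes X A :=
  Adjunction.mkOfUnitCounit
    { unit :=
        { app := fun P => jUnit X P
          naturality := fun P Q α => by
            ext Y : 2
            obtain ⟨Y⟩ := Y
            exact (jι_jPshMap_app α Y.hom).symm }
      counit :=
        { app := fun Q => jCounit X Q
          naturality := fun P Q α => by
            ext U : 2
            obtain ⟨U⟩ := U
            apply jPshObj_hom_ext
            intro φ
            refine (jι_jPshMap_app_assoc ((jRes X A).map α) φ ((jCounit X Q).app (op U))).trans ?_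
            refine Eq.trans ?_ (jι_jCounit_app_assoc X P φ (α.app (op U))).symm
            refine (congrArg (fun x => α.app (op U) ≫ x) (jι_jCounit_app X Q φ)).trans ?_
            exact (Category.comp_id (α.app (op U))).trans (Category.id_comp _).symm }
      left_triangle := by
        ext P U : 4
        obtain ⟨U⟩ := U
        apply jPshObj_hom_ext
        intro φ
        have h := jι_jPshMap_app_assoc (jUnit X P) φ ((jCounit X (jPshObj P)).app (op U))
        have h' := (congrArg (fun x => (jUnit X P).app (op (Over.mk φ)) ≫ x)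
          (jι_jCounit_app X (jPshObj P) φ))
        change jι P φ ≫ (jPshMap (jUnit X P)).app (op U) ≫ 𝟙 _ ≫ (jCounit X (jPshObj P)).app (op U) =
          jι P φ ≫ 𝟙 _
        rw [Category.id_comp]
        refine h.trans (h'.trans ?_)
        rfl
      right_triangle := by
        ext Q Y : 4
        obtain ⟨Y⟩ := Y
        have h := jι_jCounit_app X Q Y.hom
        change jι ((jRes X A).obj Q) Y.hom ≫ 𝟙 _ ≫ (jCounit X Q).app (op Y.left) = 𝟙 _
        rw [Category.id_comp]
        exact h }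

/-- The extension by zero of presheaves preserves monomorphisms if coproducts are exact in `A`. -/
instance jPsh_preservesMonomorphisms [HasFiniteLimits A] [AB4OfSize.{v} A] :
    (jPsh X A).PreservesMonomorphisms where
  preserves {P Q} α hα := by
    rw [NatTrans.mono_iff_mono_app] at hα ⊢
    intro U
    obtain ⟨U⟩ := U
    exact mono_of_jι_comp _ (fun φ => α.app (op (Over.mk φ))) (fun φ => jι_jPshMap_app α φ)

section Sheaf

variable (J : GrothendieckTopology C) [HasWeakSheafify J A]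

variable (A) in
/-- Extension by zero of sheaves along `Over X ⥤ C` -/
noncomputable def jSh : Sheaf (J.over X) A ⥤ Sheaf J A :=
  sheafToPresheaf (J.over X) A ⋙ jPsh X A ⋙ presheafToSheaf J A

variable (A) in
/-- Extension by zero of sheaves is left adjoint to restriction. -/
noncomputable def jShAdj :
    jSh X A J ⊣ (Over.forget X).sheafPushforwardContinuous A (J.over X) J :=
  ((jPshAdj X (A := A)).comp (sheafificationAdjunction J A)).restrictFullyFaithful
    (fullyFaithfulSheafToPresheaf (J.over X) A) (Functor.FullyFaithful.id _) (Iso.refl _) (Iso.refl _)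

end Sheaf

section SheafMono

variable (J : GrothendieckTopology C) [HasSheafify J A]

/-- Extension by zero of sheaves preserves monomorphisms. -/
instance jSh_preservesMonomorphisms [HasFiniteLimits A] [AB4OfSize.{v} A] :
    (jSh X A J).PreservesMonomorphisms where
  preserves {P Q} α hα := by
    have h1 : Mono ((sheafToPresheaf (J.over X) A).map α) := inferInstance
    have h2 : Mono ((jPsh X A).map ((sheafToPresheaf (J.over X) A).map α)) := inferInstance
    exact inferInstanceAs (Mono ((presheafToSheaf J A).map ((jPsh X A).map ((sheafToPresheaf (J.over X) A).map α))))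

end SheafMono

end Groth.Agent.Sga4A.OverShriek
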