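import Mathlib.RingTheory.Etale.Field
import Mathlib.RingTheory.Etale.StandardEtale
import Mathlib.RingTheory.Idempotents
import Mathlib.FieldTheory.PrimitiveElement
import Mathlib.RingTheory.TensorProduct.Free
import Mathlib.RingTheory.Unramified.Finite
import Mathlib.LinearAlgebra.TensorProduct.Associator

/-!
# Idempotents of `K ⊗ K` and finite separable subextensions

`exists_standardEtale_of_idempotent`: let `R → K` be a ring homomorphism to a field whose kernel is a maximal
ideal, and `e` an idempotent of `K ⊗[R] K` with `mult(e) = 1`. Then there is an étale `R`-algebra `S` and a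
factorisation `R → S → K` such that `e ↦ 1` in `K ⊗[S] K`.
-/

set_option autoImplicit false
universe u v
open TensorProduct

namespace Groth.Agent.Sga4A.DiscAlg

section

variable {k : Type*} [CommRing k] {A B L : Type*} [CommRing A] [Algebra k A] [CommRing B] [Algebra k B]
  [CommRing L] [Algebra k L] {ι : Type*} (b : Module.Basis ι k L)

lemma basis_repr_map (φ : A →ₐ[k] B) (x : A ⊗[k] L) :
    (Algebra.TensorProduct.basis B b).repr (Algebra.TensorProduct.map φ (AlgHom.id k L) x) =
      ((Algebra.TensorProduct.basis A b).repr x).mapRange φ (map_zero φ) := by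
  induction x using TensorProduct.induction_on with
  | zero => simp
  | tmul a m =>
    ext i
    simp [Algebra.TensorProduct.basis_repr_tmul]
  | add x y hx hy =>
    ext i
    simp [hx, hy]

end

/-- The subalgebra generated by the coefficients of an idempotent of `K ⊗ L` is formally unramified. -/
lemma formallyUnramified_adjoin_coeff {k K L : Type u} [CommRing k] [CommRing K] [Algebra k K] [CommRing L] [Algebra k L]
    {ι : Type*} (b : Module.Basis ι k L) (e : K ⊗[k] L) (he : IsIdempotentElem e) :
    Algebra.FormallyUnramified k
      (Algebra.adjoin k (Set.range ((Algebra.TensorProduct.basis K b).repr e))) := by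
  set c := (Algebra.TensorProduct.basis K b).repr e with hc
  set A := Algebra.adjoin k (Set.range c) with hA
  have hcA : ∀ i, c i ∈ A := fun i => Algebra.subset_adjoin ⟨i, rfl⟩
  -- the coefficients as elements of `A`
  let cA : ι →₀ A := Finsupp.onFinset c.support (fun i => ⟨c i, hcA i⟩) (by
    intro i hi
    rw [Finsupp.mem_support_iff]
    intro h
    exact hi (Subtype.ext h))
  have hcA' : cA.mapRange A.val (map_zero _) = c := by
    ext i
    simp [cA]
  let eA : A ⊗[k] L := (Algebra.TensorProduct.basis A b).repr.symm cA
  have heA : (Algebra.TensorProduct.basis A b).repr eA = cA := by simp [eA]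
  let j : A ⊗[k] L →ₐ[k] K ⊗[k] L := Algebra.TensorProduct.map A.val (AlgHom.id k L)
  have hj : j eA = e := by
    apply (Algebra.TensorProduct.basis K b).repr.injective
    rw [basis_repr_map, heA, hcA', hc]
  have hjinj : Function.Injective j := by
    intro x y hxy
    apply (Algebra.TensorProduct.basis A b).repr.injective
    have := congrArg (Algebra.TensorProduct.basis K b).repr hxy
    rw [basis_repr_map, basis_repr_map] at this
    exact Finsupp.mapRange_injective _ (map_zero _) Subtype.val_injective this
  have heA' : IsIdempotentElem eA := by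
    apply hjinj
    rw [map_mul, hj]
    exact he
  rw [Algebra.FormallyUnramified.iff_comp_injective]
  intro B _ _ I hI f g hfg
  have hfg' : ∀ a, f a - g a ∈ I := by
    intro a
    have := DFunLike.congr_fun hfg a
    exact Ideal.Quotient.eq.mp this
  let F : A ⊗[k] L →ₐ[k] B ⊗[k] L := Algebra.TensorProduct.map f (AlgHom.id k L)
  let G : A ⊗[k] L →ₐ[k] B ⊗[k] L := Algebra.TensorProduct.map g (AlgHom.id k L)
  have hF : IsIdempotentElem (F eA) := heA'.map F
  have hG : IsIdempotentElem (G eA) := heA'.map G
  have hnil : IsNilpotent (F eA - G eA) := by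
    rw [← mem_nilradical, ← (Algebra.TensorProduct.basis B b).linearCombination_repr (F eA - G eA),
      Finsupp.linearCombination_apply, Finsupp.sum]
    refine Ideal.sum_mem _ (fun i _ => ?_)
    have h1 : ((Algebra.TensorProduct.basis B b).repr (F eA - G eA)) i ∈ I := by
      rw [map_sub, basis_repr_map, basis_repr_map]
      simpa using hfg' _
    rw [mem_nilradical, Algebra.smul_def]
    have h2 : IsNilpotent (((Algebra.TensorProduct.basis B b).repr (F eA - G eA)) i) := by
      refine ⟨2, ?_⟩
      have : (((Algebra.TensorProduct.basis B b).repr (F eA - G eA)) i) ^ 2 ∈ I ^ 2 :=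
        Ideal.pow_mem_pow h1 2
      rwa [hI, Ideal.mem_bot] at this
    exact (Commute.all _ _).isNilpotent_mul_right (h2.map _)
  have hFG : F eA = G eA := eq_of_isNilpotent_sub_of_isIdempotentElem hF hG hnil
  have hrep := congrArg (Algebra.TensorProduct.basis B b).repr hFG
  rw [basis_repr_map, basis_repr_map, heA] at hrep
  have hci : ∀ i, f ⟨c i, hcA i⟩ = g ⟨c i, hcA i⟩ := by
    intro i
    have := DFunLike.congr_fun hrep i
    simpa [cA] using this
  refine AlgHom.adjoin_ext ?_
  rintro x ⟨i, rfl⟩
  exact hci i

/-- Pure algebra input to étale descent along a surjective morphism to a discrete scheme: an idempotent of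
`K ⊗[R] K` which is `1` on the diagonal becomes `1` over a suitable étale `R`-algebra `S` contained in `K`. -/
theorem exists_etale_of_idempotent {R K : Type u} [CommRing R] [Field K] [Algebra R K]
    (hker : (RingHom.ker (algebraMap R K)).IsMaximal) (e : K ⊗[R] K) (he : IsIdempotentElem e)
    (h1 : Algebra.TensorProduct.lmul' R e = 1) :
    ∃ (S : Type u) (_ : CommRing S) (_ : Algebra R S) (_ : Algebra S K) (_ : IsScalarTower R S K),
      Algebra.Etale R S ∧ Algebra.TensorProduct.mapOfCompatibleSMul S R R K K e = 1 := by
  classical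
  -- the residue field
  let m := RingHom.ker (algebraMap R K)
  let : Field (R ⧸ m) := Ideal.Quotient.field m
  let k := R ⧸ m
  let : Algebra k K := (Ideal.Quotient.lift m (algebraMap R K) (fun a ha => ha)).toAlgebra
  have : IsScalarTower R k K := IsScalarTower.of_algebraMap_eq (fun x => rfl)
  have hsurj : Function.Surjective (algebraMap R k) := Ideal.Quotient.mk_surjective
  have : TensorProduct.CompatibleSMul R k K K :=
    TensorProduct.CompatibleSMul.of_algebraMap_surjective _ _ hsurj
  let ε : K ⊗[k] K ≃ₐ[R] K ⊗[R] K := (Algebra.TensorProduct.equivOfCompatibleSMul R k R K K)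
  let ek : K ⊗[k] K := ε.symm e
  have hek : IsIdempotentElem ek := he.map ε.symm
  let b := Module.Basis.ofVectorSpace k K
  let c := (Algebra.TensorProduct.basis K b).repr ek
  have hunr := formallyUnramified_adjoin_coeff b ek hek
  change Algebra.FormallyUnramified k (Algebra.adjoin k (Set.range c)) at hunr
  set A := Algebra.adjoin k (Set.range c) with hA
  have hcA : ∀ i, c i ∈ A := fun i => Algebra.subset_adjoin ⟨i, rfl⟩
  have hfin : (Set.range c).Finite := c.finite_range
  have hft : Algebra.FiniteType k A := by
    rw [← Subalgebra.fg_iff_finiteType, Subalgebra.fg_def]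
    exact ⟨_, hfin, hA.symm⟩
  have hfree : Module.Free k A := inferInstance
  have hmf : Module.Finite k A := Algebra.FormallyUnramified.finite_of_free k A
  have hAfield : IsField A := isField_of_isIntegral_of_isField' (Field.toIsField k)
  let : Field A := hAfield.toField
  have hsep : Algebra.IsSeparable k A := Algebra.FormallyUnramified.isSeparable k A
  obtain ⟨α, hα⟩ := Field.exists_primitive_element k A
  -- lift the minimal polynomial
  have hmap : Function.Surjective (Polynomial.map (algebraMap R k)) := Polynomial.map_surjective _ hsurj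
  obtain ⟨f, hf, -, hfm⟩ := Polynomial.lifts_and_natDegree_eq_and_monic
    (f := algebraMap R k) (p := minpoly k α) ((Polynomial.mem_lifts _).2 (hmap _))
    (minpoly.monic (Algebra.IsIntegral.isIntegral α))
  let P : StandardEtalePair R :=
    { f := f
      monic_f := hfm
      g := Polynomial.derivative f
      cond := ⟨1, 0, 1, by simp⟩ }
  let φ : A →ₐ[k] K := A.val
  have hφα : ∀ q : Polynomial R, Polynomial.aeval (φ α) q = φ (Polynomial.aeval α (q.map (algebraMap R k))) := by
    intro q
    rw [← Polynomial.aeval_algHom_apply, Polynomial.aeval_map_algebraMap]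
  have hHas : P.HasMap (φ α) := by
    constructor
    · change Polynomial.aeval (φ α) f = 0
      rw [hφα, hf, minpoly.aeval, map_zero]
    · change IsUnit (Polynomial.aeval (φ α) (Polynomial.derivative f))
      rw [hφα, ← Polynomial.derivative_map, hf]
      have h3 : Polynomial.aeval α (Polynomial.derivative (minpoly k α)) ≠ 0 :=
        (Algebra.IsSeparable.isSeparable k α).aeval_derivative_ne_zero (minpoly.aeval k α)
      exact (IsUnit.mk0 _ h3).map φ
  let ψ : P.Ring →ₐ[R] K := P.lift (φ α) hHas
  let : Algebra P.Ring K := ψ.toRingHom.toAlgebra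
  have : IsScalarTower R P.Ring K := IsScalarTower.of_algebraMap_eq (fun x => (ψ.commutes x).symm)
  have hc : ∀ i, ∃ s : P.Ring, algebraMap P.Ring K s = c i := by
    intro i
    have h4 : (⟨c i, hcA i⟩ : A) ∈ Algebra.adjoin k {α} := by
      rw [← IntermediateField.adjoin_simple_toSubalgebra_of_isAlgebraic (Algebra.IsAlgebraic.isAlgebraic α), hα]
      trivial
    rw [Algebra.adjoin_singleton_eq_range_aeval] at h4
    obtain ⟨q, hq⟩ := h4
    obtain ⟨Q, rfl⟩ := hmap q
    refine ⟨Polynomial.aeval P.X Q, ?_⟩
    change ψ (Polynomial.aeval P.X Q) = _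
    rw [← Polynomial.aeval_algHom_apply, StandardEtalePair.lift_X, hφα]
    exact congrArg φ hq
  refine ⟨P.Ring, inferInstance, inferInstance, inferInstance, inferInstance, inferInstance, ?_⟩
  have he' : e = ∑ i ∈ c.support, c i ⊗ₜ[R] b i := by
    apply ε.symm.injective
    change ek = _
    rw [map_sum, ← (Algebra.TensorProduct.basis K b).linearCombination_repr ek,
      Finsupp.linearCombination_apply, Finsupp.sum]
    refine Finset.sum_congr rfl (fun i _ => ?_)
    rw [Algebra.TensorProduct.basis_apply]
    change _ = c i ⊗ₜ[k] b i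
    rw [TensorProduct.smul_tmul', smul_eq_mul, mul_one]
  rw [he', map_sum] at h1 ⊢
  simp only [Algebra.TensorProduct.lmul'_apply_tmul, Algebra.TensorProduct.mapOfCompatibleSMul_tmul] at h1 ⊢
  have h5 : ∀ i, c i ⊗ₜ[P.Ring] b i = (1 : K) ⊗ₜ[P.Ring] (c i * b i) := by
    intro i
    obtain ⟨s, hs⟩ := hc i
    rw [← hs, Algebra.algebraMap_eq_smul_one, TensorProduct.smul_tmul, smul_mul_assoc, one_mul]
  simp only [h5]
  rw [← TensorProduct.tmul_sum, h1]
  rfl

end Groth.Agent.Sga4A.DiscAlg
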