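import Groth.Agent.Sga4A.EtDescFF
import Mathlib.CategoryTheory.Sites.Subsheaf

/-!
# A criterion for effectivity of descent data for étale sheaves of sets
-/

set_option autoImplicit false
universe u

open CategoryTheory CategoryTheory.Limits AlgebraicGeometry Opposite

namespace Groth.Agent.Sga4A.EtStalk

open EtDesc

section Via

variable {Ω : Type u} [Field Ω] [IsSepClosed Ω]

theorem mapStk_pullVia' {T S X : Scheme.{u}} (g : T ⟶ S) (a : S ⟶ X) (b : T ⟶ X) (w : g ≫ a = b)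
    (F : Sh X) (ξ : Spec (.of Ω) ⟶ T) (ζ : Spec (.of Ω) ⟶ S) (ρ : Spec (.of Ω) ⟶ X)
    (h₁ : ξ ≫ g = ζ) (h₂ : ζ ≫ a = ρ) (h₃ : ξ ≫ b = ρ) (σ : Stk F ρ) :
    mapStk (pullVia g a b w F).hom ξ (pullStk' g _ ξ ζ h₁ (pullStk' a F ζ ρ h₂ σ)) =
      pullStk' b F ξ ρ h₃ σ := by
  subst h₁ h₂
  have := mapStk_pullVia g a b w F ξ σ
  refine this.trans ?_
  rw [← pullStk'_rfl b F ξ, pullStk'_castStk]

theorem mapStk_pullVia_inv' {T S X : Scheme.{u}} (g : T ⟶ S) (a : S ⟶ X) (b : T ⟶ X)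
    (w : g ≫ a = b)
    (F : Sh X) (ξ : Spec (.of Ω) ⟶ T) (ζ : Spec (.of Ω) ⟶ S) (ρ : Spec (.of Ω) ⟶ X)
    (h₁ : ξ ≫ g = ζ) (h₂ : ζ ≫ a = ρ) (h₃ : ξ ≫ b = ρ) (σ : Stk F ρ) :
    mapStk (pullVia g a b w F).inv ξ (pullStk' b F ξ ρ h₃ σ) =
      pullStk' g _ ξ ζ h₁ (pullStk' a F ζ ρ h₂ σ) := by
  apply mapStk_eq_symm
  exact mapStk_pullVia' g a b w F ξ ζ ρ h₁ h₂ h₃ σ

end Via

section Tr

variable {Y Z : Scheme.{u}} (p q : Z ⟶ Y) (F' : Sh Y) (φ : (pullSh p).obj F' ≅ (pullSh q).obj F')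

variable {Ω : Type u} [Field Ω] [IsSepClosed Ω]

/-- The map on stalks induced by `φ : p^* F' ≅ q^* F'` at a geometric point `η` of `Z`. -/
noncomputable def trAt (η : Spec (.of Ω) ⟶ Z) (ξ₁ ξ₂ : Spec (.of Ω) ⟶ Y) (h₁ : η ≫ p = ξ₁)
    (h₂ : η ≫ q = ξ₂) (σ : Stk F' ξ₁) : Stk F' ξ₂ :=
  (pullStk' q F' η ξ₂ h₂).symm (mapStk φ.hom η (pullStk' p F' η ξ₁ h₁ σ))

theorem pullStk'_trAt (η : Spec (.of Ω) ⟶ Z) (ξ₁ ξ₂ : Spec (.of Ω) ⟶ Y) (h₁ : η ≫ p = ξ₁)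
    (h₂ : η ≫ q = ξ₂) (σ : Stk F' ξ₁) :
    pullStk' q F' η ξ₂ h₂ (trAt p q F' φ η ξ₁ ξ₂ h₁ h₂ σ) =
      mapStk φ.hom η (pullStk' p F' η ξ₁ h₁ σ) :=
  Equiv.apply_symm_apply _ _

theorem trAt_bijective (η : Spec (.of Ω) ⟶ Z) (ξ₁ ξ₂ : Spec (.of Ω) ⟶ Y) (h₁ : η ≫ p = ξ₁)
    (h₂ : η ≫ q = ξ₂) : Function.Bijective (trAt p q F' φ η ξ₁ ξ₂ h₁ h₂) :=
  (Equiv.bijective _).comp ((mapStk_bijective_of_isIso φ.hom η).comp (Equiv.bijective _))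

end Tr

section Desc

variable {X' X : Scheme.{u}} (f : X' ⟶ X) (F' : Sh X')
  (φ : (pullSh (pullback.fst f f)).obj F' ≅ (pullSh (pullback.snd f f)).obj F')

section

variable {Ω : Type u} [Field Ω]

/-- The geometric point of `X' ×_X X'` given by a pair. -/
noncomputable def pairPt (ξ₁ ξ₂ : Spec (.of Ω) ⟶ X') (e : ξ₁ ≫ f = ξ₂ ≫ f) :
    Spec (.of Ω) ⟶ pullback f f := pullback.lift ξ₁ ξ₂ e

@[simp]
theorem pairPt_fst (ξ₁ ξ₂ : Spec (.of Ω) ⟶ X') (e : ξ₁ ≫ f = ξ₂ ≫ f) :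
    pairPt f ξ₁ ξ₂ e ≫ pullback.fst f f = ξ₁ := pullback.lift_fst _ _ _

@[simp]
theorem pairPt_snd (ξ₁ ξ₂ : Spec (.of Ω) ⟶ X') (e : ξ₁ ≫ f = ξ₂ ≫ f) :
    pairPt f ξ₁ ξ₂ e ≫ pullback.snd f f = ξ₂ := pullback.lift_snd _ _ _

theorem eq_pairPt (η : Spec (.of Ω) ⟶ pullback f f) (ξ₁ ξ₂ : Spec (.of Ω) ⟶ X')
    (e : ξ₁ ≫ f = ξ₂ ≫ f)
    (h₁ : η ≫ pullback.fst f f = ξ₁) (h₂ : η ≫ pullback.snd f f = ξ₂) :
    η = pairPt f ξ₁ ξ₂ e := by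
  apply pullback.hom_ext
  · rw [h₁, pairPt_fst]
  · rw [h₂, pairPt_snd]

end

section

variable {Ω : Type u} [Field Ω] [IsSepClosed Ω]

/-- The transport of stalks given by a descent datum. -/
noncomputable def tr (ξ₁ ξ₂ : Spec (.of Ω) ⟶ X') (e : ξ₁ ≫ f = ξ₂ ≫ f) (σ : Stk F' ξ₁) :
    Stk F' ξ₂ :=
  trAt (pullback.fst f f) (pullback.snd f f) F' φ (pairPt f ξ₁ ξ₂ e) ξ₁ ξ₂
    (pairPt_fst f ξ₁ ξ₂ e) (pairPt_snd f ξ₁ ξ₂ e) σ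

theorem trAt_eq_tr (η : Spec (.of Ω) ⟶ pullback f f) (ξ₁ ξ₂ : Spec (.of Ω) ⟶ X')
    (e : ξ₁ ≫ f = ξ₂ ≫ f)
    (h₁ : η ≫ pullback.fst f f = ξ₁) (h₂ : η ≫ pullback.snd f f = ξ₂) (σ : Stk F' ξ₁) :
    trAt (pullback.fst f f) (pullback.snd f f) F' φ η ξ₁ ξ₂ h₁ h₂ σ = tr f F' φ ξ₁ ξ₂ e σ := by
  obtain rfl := eq_pairPt f η ξ₁ ξ₂ e h₁ h₂
  rfl

theorem pullStk'_tr (η : Spec (.of Ω) ⟶ pullback f f) (ξ₁ ξ₂ : Spec (.of Ω) ⟶ X')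
    (e : ξ₁ ≫ f = ξ₂ ≫ f)
    (h₁ : η ≫ pullback.fst f f = ξ₁) (h₂ : η ≫ pullback.snd f f = ξ₂) (σ : Stk F' ξ₁) :
    pullStk' (pullback.snd f f) F' η ξ₂ h₂ (tr f F' φ ξ₁ ξ₂ e σ) =
      mapStk φ.hom η (pullStk' (pullback.fst f f) F' η ξ₁ h₁ σ) := by
  rw [← trAt_eq_tr f F' φ η ξ₁ ξ₂ e h₁ h₂, pullStk'_trAt]

theorem tr_bijective (ξ₁ ξ₂ : Spec (.of Ω) ⟶ X') (e : ξ₁ ≫ f = ξ₂ ≫ f) :
    Function.Bijective (tr f F' φ ξ₁ ξ₂ e) :=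
  trAt_bijective _ _ _ _ _ _ _ _ _

/-- The stalks of `pullIsoVia`. -/
theorem mapStk_pullIsoVia (g : X3 f ⟶ X2 f) (b₁ b₂ : X3 f ⟶ X') (w₁ : g ≫ pullback.fst f f = b₁)
    (w₂ : g ≫ pullback.snd f f = b₂) (ω : Spec (.of Ω) ⟶ X3 f) (ξ₁ ξ₂ : Spec (.of Ω) ⟶ X')
    (e : ξ₁ ≫ f = ξ₂ ≫ f) (h₁ : ω ≫ b₁ = ξ₁) (h₂ : ω ≫ b₂ = ξ₂) (σ : Stk F' ξ₁) :
    mapStk (pullIsoVia g b₁ b₂ w₁ w₂ F' φ).hom ω (pullStk' b₁ F' ω ξ₁ h₁ σ) =
      pullStk' b₂ F' ω ξ₂ h₂ (tr f F' φ ξ₁ ξ₂ e σ) := by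
  have k₁ : (ω ≫ g) ≫ pullback.fst f f = ξ₁ := by rw [Category.assoc, w₁, h₁]
  have k₂ : (ω ≫ g) ≫ pullback.snd f f = ξ₂ := by rw [Category.assoc, w₂, h₂]
  unfold pullIsoVia
  rw [Iso.trans_hom, mapStk_comp, Iso.symm_hom,
    mapStk_pullVia_inv' g (pullback.fst f f) b₁ w₁ F' ω (ω ≫ g) ξ₁ rfl k₁ h₁, Iso.trans_hom,
    mapStk_comp, Functor.mapIso_hom, ← pullStk'_mapStk,
    ← pullStk'_tr f F' φ (ω ≫ g) ξ₁ ξ₂ e k₁ k₂,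
    mapStk_pullVia' g (pullback.snd f f) b₂ w₂ F' ω (ω ≫ g) ξ₂ rfl k₂ h₂]

variable {F' φ}

/-- The geometric point of `X' ×_X X' ×_X X'` given by a triple. -/
noncomputable def triplePt (ξ₁ ξ₂ ξ₃ : Spec (.of Ω) ⟶ X') (e₁₂ : ξ₁ ≫ f = ξ₂ ≫ f)
    (e₂₃ : ξ₂ ≫ f = ξ₃ ≫ f) : Spec (.of Ω) ⟶ X3 f :=
  pullback.lift (pairPt f ξ₁ ξ₂ e₁₂) (pairPt f ξ₂ ξ₃ e₂₃) (by rw [pairPt_snd, pairPt_fst])

omit [IsSepClosed Ω] in
theorem triplePt_p12 (ξ₁ ξ₂ ξ₃ : Spec (.of Ω) ⟶ X') (e₁₂ : ξ₁ ≫ f = ξ₂ ≫ f)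
    (e₂₃ : ξ₂ ≫ f = ξ₃ ≫ f) : triplePt f ξ₁ ξ₂ ξ₃ e₁₂ e₂₃ ≫ p12 f = pairPt f ξ₁ ξ₂ e₁₂ :=
  pullback.lift_fst _ _ _

omit [IsSepClosed Ω] in
theorem triplePt_p23 (ξ₁ ξ₂ ξ₃ : Spec (.of Ω) ⟶ X') (e₁₂ : ξ₁ ≫ f = ξ₂ ≫ f)
    (e₂₃ : ξ₂ ≫ f = ξ₃ ≫ f) : triplePt f ξ₁ ξ₂ ξ₃ e₁₂ e₂₃ ≫ p23 f = pairPt f ξ₂ ξ₃ e₂₃ :=
  pullback.lift_snd _ _ _

theorem tr_tr (hφ : IsCocycle F' φ) (ξ₁ ξ₂ ξ₃ : Spec (.of Ω) ⟶ X') (e₁₂ : ξ₁ ≫ f = ξ₂ ≫ f)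
    (e₂₃ : ξ₂ ≫ f = ξ₃ ≫ f) (σ : Stk F' ξ₁) :
    tr f F' φ ξ₂ ξ₃ e₂₃ (tr f F' φ ξ₁ ξ₂ e₁₂ σ) = tr f F' φ ξ₁ ξ₃ (e₁₂.trans e₂₃) σ := by
  let ω := triplePt f ξ₁ ξ₂ ξ₃ e₁₂ e₂₃
  have h₁ : ω ≫ q1 = ξ₁ := by
    rw [← Category.assoc, triplePt_p12, pairPt_fst]
  have h₂ : ω ≫ q2 = ξ₂ := by
    rw [← Category.assoc, triplePt_p12, pairPt_snd]
  have h₃ : ω ≫ q3 = ξ₃ := by
    rw [← Category.assoc, triplePt_p23, pairPt_snd]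
  have h := congrArg (fun a => mapStk a ω (pullStk' q1 F' ω ξ₁ h₁ σ)) hφ
  simp only [mapStk_comp] at h
  rw [mapStk_pullIsoVia f F' φ (p12 f) q1 q2 rfl rfl ω ξ₁ ξ₂ e₁₂ h₁ h₂,
    mapStk_pullIsoVia f F' φ (p23 f) q2 q3 p23_fst rfl ω ξ₂ ξ₃ e₂₃ h₂ h₃,
    mapStk_pullIsoVia f F' φ (p13 f) q1 q3 p13_fst p13_snd ω ξ₁ ξ₃ (e₁₂.trans e₂₃) h₁ h₃] at h
  exact (pullStk' _ _ _ _ _).injective h

theorem tr_self (hφ : IsCocycle F' φ) (ξ₁ : Spec (.of Ω) ⟶ X') (σ : Stk F' ξ₁) :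
    tr f F' φ ξ₁ ξ₁ rfl σ = σ := by
  apply (tr_bijective f F' φ ξ₁ ξ₁ rfl).1
  rw [tr_tr f hφ]

theorem tr_castStk (ξ₁ ξ₂ ζ₁ ζ₂ : Spec (.of Ω) ⟶ X') (e : ξ₁ ≫ f = ξ₂ ≫ f) (h₁ : ζ₁ = ξ₁)
    (h₂ : ζ₂ = ξ₂) (σ : Stk F' ζ₁) :
    tr f F' φ ξ₁ ξ₂ e (castStk F' h₁ σ) = castStk F' h₂ (tr f F' φ ζ₁ ζ₂ (by rw [h₁, h₂, e]) σ) := by
  subst h₁ h₂; rfl

end

/-- A section of `F'` over `U ×_X X'` is compatible with the descent datum if its germs are. -/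
def Compat {U : X.Etale} (s : sect F' ((EtCoh.bc f).obj U)) : Prop :=
  ∀ (Ω : Type u) [Field Ω] [IsSepClosed Ω] (m₁ m₂ : Spec (.of Ω) ⟶ ((EtCoh.bc f).obj U).left)
    (_ : m₁ ≫ bcFst f U = m₂ ≫ bcFst f U) (ξ₁ ξ₂ : Spec (.of Ω) ⟶ X') (e : ξ₁ ≫ f = ξ₂ ≫ f)
    (h₁ : m₁ ≫ ((EtCoh.bc f).obj U).hom = ξ₁) (h₂ : m₂ ≫ ((EtCoh.bc f).obj U).hom = ξ₂),
    tr f F' φ ξ₁ ξ₂ e (germ F' m₁ h₁ s) = germ F' m₂ h₂ s

theorem Compat.res {U V : X.Etale} {s : sect F' ((EtCoh.bc f).obj U)} (hs : Compat f F' φ s)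
    (g : V ⟶ U) : Compat f F' φ (F'.obj.map ((EtCoh.bc f).map g).op s) := by
  intro Ω _ _ m₁ m₂ hm ξ₁ ξ₂ e h₁ h₂
  rw [germ_res, germ_res]
  refine hs Ω _ _ ?_ ξ₁ ξ₂ e _ _
  rw [Category.assoc, Category.assoc, bc_map_fst, reassoc_of% hm]

/-- Compatibility with the descent datum is local. -/
theorem compat_of_local {U : X.Etale} (s : sect F' ((EtCoh.bc f).obj U))
    (h : ∀ x : U.left, ∃ (V : X.Etale) (g : V ⟶ U) (v : V.left), g.left v = x ∧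
      Compat f F' φ (F'.obj.map ((EtCoh.bc f).map g).op s)) : Compat f F' φ s := by
  intro Ω _ _ m₁ m₂ hm ξ₁ ξ₂ e h₁ h₂
  obtain ⟨V, g, v, hv, hc⟩ := h ((m₁ ≫ bcFst f U) default)
  obtain ⟨l, hl, -⟩ := exists_lift g (m₁ ≫ bcFst f U) v hv
  have w : g.left ≫ U.hom = V.hom := Over.w g.hom
  have k₁ : l ≫ V.hom = ξ₁ ≫ f := by
    rw [← w, reassoc_of% hl, bc_condition, reassoc_of% h₁]
  have k₂ : l ≫ V.hom = ξ₂ ≫ f := by rw [k₁, e]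
  have j₁ : bcPt f ξ₁ l k₁ ≫ ((EtCoh.bc f).map g).left = m₁ := by
    apply hom_ext_bc
    · rw [Category.assoc, bc_map_fst, bcPt_fst_assoc, hl]
    · rw [Category.assoc, bc_map_hom, bcPt_hom, h₁]
  have j₂ : bcPt f ξ₂ l k₂ ≫ ((EtCoh.bc f).map g).left = m₂ := by
    apply hom_ext_bc
    · rw [Category.assoc, bc_map_fst, bcPt_fst_assoc, hl, hm]
    · rw [Category.assoc, bc_map_hom, bcPt_hom, h₂]
  have := hc Ω (bcPt f ξ₁ l k₁) (bcPt f ξ₂ l k₂) (by rw [bcPt_fst, bcPt_fst]) ξ₁ ξ₂ e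
    (bcPt_hom _ _ _ _) (bcPt_hom _ _ _ _)
  rw [germ_res' F' _ _ _ m₁ h₁ j₁, germ_res' F' _ _ _ m₂ h₂ j₂] at this
  exact this

/-- The descended sheaf as a subfunctor of `f_* F'`. -/
noncomputable def descSub : Subfunctor ((pushSh f).obj F').obj where
  obj U := {s | Compat f F' φ (U := U.unop) s}
  map {U V} g := by
    intro s hs
    exact Compat.res f F' φ (U := U.unop) (V := V.unop) hs g.unop

theorem isSheaf_descSub : Presieve.IsSheaf X.smallEtaleTopology (descSub f F' φ).toFunctor := by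
  rw [Subfunctor.isSheaf_iff _ (isSheaf_type ((pushSh f).obj F'))]
  rintro ⟨U⟩ s hs
  rw [Etbase.EtSite.mem_iff] at hs
  refine compat_of_local f F' φ (U := U) s (fun x => ?_)
  obtain ⟨V, g, v, hg, hv⟩ := hs x
  exact ⟨V, g, v, hv, hg⟩

/-- The descended sheaf. -/
noncomputable def descSheaf : Sh X :=
  ⟨(descSub f F' φ).toFunctor, (isSheaf_iff_isSheaf_of_type _ _).2 (isSheaf_descSub f F' φ)⟩

/-- The inclusion of the descended sheaf in `f_* F'`. -/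
noncomputable def descι : descSheaf f F' φ ⟶ (pushSh f).obj F' :=
  ⟨(descSub f F' φ).ι⟩

/-- The comparison `f^* F ⟶ F'`. -/
noncomputable def descψ : (pullSh f).obj (descSheaf f F' φ) ⟶ F' :=
  ((adjSh f).homEquiv _ _).symm (descι f F' φ)

/-- The underlying section of `F'`. -/
noncomputable def descVal {U : X.Etale} (s : sect (descSheaf f F' φ) U) :
    sect F' ((EtCoh.bc f).obj U) :=
  (descι f F' φ).hom.app (op U) s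

theorem compat_descVal {U : X.Etale} (s : sect (descSheaf f F' φ) U) :
    Compat f F' φ (descVal f F' φ s) := by
  have h : (descVal f F' φ s) ∈ (descSub f F' φ).obj (op U) := s.2
  exact h

theorem descVal_injective {U : X.Etale} {s t : sect (descSheaf f F' φ) U}
    (h : descVal f F' φ s = descVal f F' φ t) : s = t := Subtype.ext h

theorem exists_descVal {U : X.Etale} (s : sect F' ((EtCoh.bc f).obj U)) (hs : Compat f F' φ s) :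
    ∃ t : sect (descSheaf f F' φ) U, descVal f F' φ t = s := ⟨⟨s, hs⟩, rfl⟩

theorem descVal_res {U V : X.Etale} (g : V ⟶ U) (s : sect (descSheaf f F' φ) U) :
    descVal f F' φ ((descSheaf f F' φ).obj.map g.op s) =
      F'.obj.map ((EtCoh.bc f).map g).op (descVal f F' φ s) :=
  ConcreteCategory.congr_hom ((descι f F' φ).hom.naturality g.op) s

theorem descψ_pullSect {U : X.Etale} (s : sect (descSheaf f F' φ) U) :
    (descψ f F' φ).hom.app (op ((EtCoh.bc f).obj U)) (pullSect f _ s) = descVal f F' φ s := by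
  have h : (adjSh f).unit.app _ ≫ (pushSh f).map (descψ f F' φ) = descι f F' φ :=
    ((adjSh f).homEquiv_unit (descSheaf f F' φ) F' (descψ f F' φ)).symm.trans
      (Equiv.apply_symm_apply _ _)
  exact congrArg (fun (a : descSheaf f F' φ ⟶ (pushSh f).obj F') => a.hom.app (op U) s) h

section

variable {Ω : Type u} [Field Ω] [IsSepClosed Ω]

theorem mapStk_descψ (ξ' : Spec (.of Ω) ⟶ X') (ξ : Spec (.of Ω) ⟶ X) (h : ξ' ≫ f = ξ)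
    {U : X.Etale} (l : Spec (.of Ω) ⟶ U.left) (hl : l ≫ U.hom = ξ)
    (s : sect (descSheaf f F' φ) U) :
    mapStk (descψ f F' φ) ξ' (pullStk' f _ ξ' ξ h (germ _ l hl s)) =
      germ F' (bcPt f ξ' l (hl.trans h.symm)) (bcPt_hom _ _ _ _) (descVal f F' φ s) := by
  rw [pullStk'_germ, mapStk_germ, descψ_pullSect]

theorem mapStk_descψ_injective (hf : EtSubmersive f) (ξ' : Spec (.of Ω) ⟶ X') :
    Function.Injective (mapStk (descψ f F' φ) ξ') := by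
  intro σ' τ' hστ
  obtain ⟨σ, rfl⟩ := (pullStk' f _ ξ' (ξ' ≫ f) rfl).surjective σ'
  obtain ⟨τ, rfl⟩ := (pullStk' f _ ξ' (ξ' ≫ f) rfl).surjective τ'
  obtain ⟨U, l, hl, s, t, rfl, rfl⟩ := exists_germ₂ _ σ τ
  rw [mapStk_descψ, mapStk_descψ] at hστ
  congr 1
  have hA := isOpen_image_of_saturated f hf
    (isOpen_agree F' (descVal f F' φ s) (descVal f F' φ t)) (by
      intro Ω' _ _ m₁ m₂ e h₁
      rw [mem_agree_iff] at h₁ ⊢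
      have e' : (m₁ ≫ ((EtCoh.bc f).obj U).hom) ≫ f = (m₂ ≫ ((EtCoh.bc f).obj U).hom) ≫ f := by
        rw [Category.assoc, ← bc_condition, reassoc_of% e, bc_condition, Category.assoc]
      rw [← compat_descVal f F' φ s Ω' m₁ m₂ e _ _ e' rfl rfl,
        ← compat_descVal f F' φ t Ω' m₁ m₂ e _ _ e' rfl rfl, h₁])
  have hmem : bcPt f ξ' l hl default ∈ agree F' (descVal f F' φ s) (descVal f F' φ t) := by
    rw [mem_agree_iff]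
    apply castStk_injective F' (bcPt_hom _ _ _ _)
    rw [castStk_germ, castStk_germ]
    exact hστ
  let D : U.left.Opens := ⟨_, hA.1⟩
  obtain ⟨k, hk⟩ := exists_lift_openEt U D l ⟨_, hmem, by
    rw [← Scheme.Hom.comp_apply, bcPt_fst]⟩
  have hres : (descSheaf f F' φ).obj.map (openEtι U D).op s =
      (descSheaf f F' φ).obj.map (openEtι U D).op t := by
    apply descVal_injective
    rw [descVal_res, descVal_res]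
    apply map_eq_of_range_subset
    refine (range_bc_openEtι f U D).trans ?_
    exact hA.2.le
  have hk' : k ≫ (openEt U D).hom = ξ' ≫ f := by
    rw [← hl, ← hk, Category.assoc]
    exact congrArg _ (Over.w (openEtι U D).hom).symm
  rw [← germ_res' _ (openEtι U D) k hk' l hl hk s, ← germ_res' _ (openEtι U D) k hk' l hl hk t,
    hres]

end

/-- The lifting condition at a geometric point `ξ'` of `X'`: every germ of `F'` at `ξ'` extends to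
a compatible section over `U ×_X X'` for an étale neighbourhood `U` of `ξ' ≫ f`. -/
def LiftsAt {Ω : Type u} [Field Ω] [IsSepClosed Ω] (ξ' : Spec (.of Ω) ⟶ X') : Prop :=
  ∀ σ : Stk F' ξ', ∃ (U : X.Etale) (l : Spec (.of Ω) ⟶ U.left) (hl : l ≫ U.hom = ξ' ≫ f)
    (s : sect F' ((EtCoh.bc f).obj U)), Compat f F' φ s ∧
      germ F' (bcPt f ξ' l hl) (bcPt_hom _ _ _ _) s = σ

theorem mapStk_descψ_surjective {Ω : Type u} [Field Ω] [IsSepClosed Ω] (ξ' : Spec (.of Ω) ⟶ X')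
    (h : LiftsAt f F' φ ξ') : Function.Surjective (mapStk (descψ f F' φ) ξ') := by
  intro σ
  obtain ⟨U, l, hl, s, hs, hσ⟩ := h σ
  obtain ⟨t, ht⟩ := exists_descVal f F' φ s hs
  refine ⟨pullStk' f _ ξ' (ξ' ≫ f) rfl (germ _ l hl t), ?_⟩
  rw [mapStk_descψ, ht, hσ]

theorem isIso_descψ (hf : EtSubmersive f)
    (h : ∀ x' : X', ∃ (Ω : Type u) (_ : Field Ω) (_ : IsSepClosed Ω) (ξ' : Spec (.of Ω) ⟶ X'),
      ξ' default = x' ∧ LiftsAt f F' φ ξ') : IsIso (descψ f F' φ) := by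
  refine isIso_of_stk _ (fun x' => ?_)
  obtain ⟨Ω, _, _, ξ', hx, hξ⟩ := h x'
  exact ⟨Ω, inferInstance, inferInstance, ξ', hx, mapStk_descψ_injective f F' φ hf ξ',
    mapStk_descψ_surjective f F' φ ξ' hξ⟩

/-- `ψ` is compatible with the descent data. -/
theorem descψ_compat [IsIso (descψ f F' φ)] :
    (canIso f (descSheaf f F' φ)).hom ≫ (pullSh (pullback.snd f f)).map (descψ f F' φ) =
      (pullSh (pullback.fst f f)).map (descψ f F' φ) ≫ φ.hom := by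
  refine hom_ext_stk' _ _ (fun Ω _ _ η σ' => ?_)
  rw [mapStk_comp, mapStk_comp]
  obtain ⟨σ'', rfl⟩ := (pullStk' (pullback.fst f f) _ η (η ≫ pullback.fst f f) rfl).surjective σ'
  obtain ⟨σ, rfl⟩ := (pullStk' f _ (η ≫ pullback.fst f f) ((η ≫ pullback.fst f f) ≫ f)
    rfl).surjective σ''
  have e : (η ≫ pullback.snd f f) ≫ f = (η ≫ pullback.fst f f) ≫ f := by
    rw [Category.assoc, ← pullback.condition, Category.assoc]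
  obtain ⟨U, l, hl, s, rfl⟩ := exists_germ _ σ
  rw [mapStk_canIso' f _ η _ (η ≫ pullback.snd f f) _ rfl rfl rfl e, ← pullStk'_mapStk,
    ← pullStk'_mapStk, mapStk_descψ, mapStk_descψ,
    ← pullStk'_tr f F' φ η _ (η ≫ pullback.snd f f) e.symm rfl rfl]
  congr 1
  refine (compat_descVal f F' φ s Ω _ _ ?_ _ _ e.symm _ _).symm
  rw [bcPt_fst, bcPt_fst]

/-- **Criterion for effectivity.** -/
theorem isEffective_of_liftsAt (hf : EtSubmersive f)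
    (h : ∀ x' : X', ∃ (Ω : Type u) (_ : Field Ω) (_ : IsSepClosed Ω) (ξ' : Spec (.of Ω) ⟶ X'),
      ξ' default = x' ∧ LiftsAt f F' φ ξ') : IsEffective f F' φ := by
  have := isIso_descψ f F' φ hf h
  refine ⟨descSheaf f F' φ, asIso (descψ f F' φ), ?_⟩
  ext : 1
  simp only [Iso.trans_hom, Iso.symm_hom, Functor.mapIso_inv, Functor.mapIso_hom, asIso_hom]
  rw [descψ_compat, ← Category.assoc, ← Functor.map_comp]
  simp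

end Desc

end Groth.Agent.Sga4A.EtStalk
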