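import Groth.Agent.Sga4A.EtStalkMor
import Mathlib.AlgebraicGeometry.Morphisms.UniversallyClosed

/-!
# Submersive morphisms and sections of inverse images of étale sheaves of sets
-/

set_option autoImplicit false
universe u

open CategoryTheory CategoryTheory.Limits AlgebraicGeometry Opposite

namespace Groth.Agent.Sga4A.EtStalk

open EtDesc

/-- `f` is submersive after every étale base change. -/
def EtSubmersive {X' X : Scheme.{u}} (f : X' ⟶ X) : Prop :=
  ∀ U : X.Etale, Topology.IsQuotientMap (bcFst f U)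

variable {X' X : Scheme.{u}} (f : X' ⟶ X)

theorem bcFst_eq (U : X.Etale) :
    bcFst f U = (pullbackSymmetry U.hom f).hom ≫ pullback.snd f U.hom :=
  (pullbackSymmetry_hom_comp_snd U.hom f).symm

theorem etSubmersive_of_isUnivSubmersive (hf : IsUnivSubmersive f) : EtSubmersive f := by
  intro U
  rw [bcFst_eq]
  have h1 := (hf _ U.hom).2
  have h2 : Topology.IsQuotientMap (pullbackSymmetry U.hom f).hom :=
    (Scheme.homeoOfIso (pullbackSymmetry U.hom f)).isQuotientMap
  have h3 := h1.comp h2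
  exact h3

theorem etSubmersive_of_universallyClosed [Surjective f] [UniversallyClosed f] :
    EtSubmersive f := by
  intro U
  have h1 : Surjective (bcFst f U) := by
    have : Surjective (pullback.fst U.hom f) := inferInstance
    exact this
  have h2 : UniversallyClosed (bcFst f U) := by
    have : UniversallyClosed (pullback.fst U.hom f) := inferInstance
    exact this
  exact ((bcFst f U).isClosedMap).isQuotientMap (bcFst f U).continuous (bcFst f U).surjective

theorem etSubmersive_of_universallyOpen [Surjective f] [UniversallyOpen f] :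
    EtSubmersive f := by
  intro U
  have h1 : Surjective (bcFst f U) := by
    have : Surjective (pullback.fst U.hom f) := inferInstance
    exact this
  have h2 : UniversallyOpen (bcFst f U) := by
    have : UniversallyOpen (pullback.fst U.hom f) := inferInstance
    exact this
  exact ((bcFst f U).isOpenMap).isQuotientMap (bcFst f U).continuous (bcFst f U).surjective

/-- Two points with the same image are the images of a pair of geometric points with the same
image. -/
theorem exists_geom_pair {Y Z : Scheme.{u}} (p : Y ⟶ Z) (y₁ y₂ : Y) (h : p y₁ = p y₂) :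
    ∃ (Ω : Type u) (_ : Field Ω) (_ : IsSepClosed Ω) (m₁ m₂ : Spec (.of Ω) ⟶ Y),
      m₁ ≫ p = m₂ ≫ p ∧ m₁ default = y₁ ∧ m₂ default = y₂ := by
  obtain ⟨z, hz1, hz2⟩ := Scheme.Pullback.exists_preimage_pullback (f := p) (g := p) y₁ y₂ h
  obtain ⟨Ω, _, _, l, hl⟩ := exists_geomPoint _ z
  refine ⟨Ω, inferInstance, inferInstance, l ≫ pullback.fst p p, l ≫ pullback.snd p p, ?_, ?_, ?_⟩
  · rw [Category.assoc, Category.assoc, pullback.condition]
  · rw [← hz1, ← hl]; rfl
  · rw [← hz2, ← hl]; rfl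

/-- Saturated open subsets of `U ×_X X'` come from open subsets of `U`. -/
theorem isOpen_image_of_saturated (hf : EtSubmersive f) {U : X.Etale}
    {A : Set ((EtCoh.bc f).obj U).left} (hA : IsOpen A)
    (hsat : ∀ (Ω : Type u) [Field Ω] [IsSepClosed Ω]
      (m₁ m₂ : Spec (.of Ω) ⟶ ((EtCoh.bc f).obj U).left),
      m₁ ≫ bcFst f U = m₂ ≫ bcFst f U → m₁ default ∈ A → m₂ default ∈ A) :
    IsOpen (bcFst f U '' A) ∧ bcFst f U ⁻¹' (bcFst f U '' A) = A := by
  have h : bcFst f U ⁻¹' (bcFst f U '' A) = A := by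
    apply Set.Subset.antisymm _ (Set.subset_preimage_image _ _)
    rintro y₂ ⟨y₁, hy₁, h⟩
    obtain ⟨Ω, _, _, m₁, m₂, hm, rfl, rfl⟩ := exists_geom_pair (bcFst f U) y₁ y₂ h
    exact hsat Ω m₁ m₂ hm hy₁
  refine ⟨?_, h⟩
  rw [← (hf U).isOpen_preimage, h]
  exact hA

/-- An open subscheme of an étale `X`-scheme. -/
noncomputable def openEt (U : X.Etale) (D : U.left.Opens) : X.Etale :=
  Scheme.Etale.mk (D.ι ≫ U.hom)

/-- The inclusion of an open subscheme. -/
noncomputable def openEtι (U : X.Etale) (D : U.left.Opens) : openEt U D ⟶ U :=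
  MorphismProperty.Over.homMk D.ι rfl trivial

theorem openEtι_left (U : X.Etale) (D : U.left.Opens) : (openEtι U D).left = D.ι := rfl

variable {Ω : Type u} [Field Ω]

/-- A geometric point of `U` in `D` factors through the open subscheme. -/
theorem exists_lift_openEt (U : X.Etale) (D : U.left.Opens) (l : Spec (.of Ω) ⟶ U.left)
    (h : l default ∈ D) : ∃ m : Spec (.of Ω) ⟶ (openEt U D).left, m ≫ (openEtι U D).left = l := by
  have h1 : Set.range l ⊆ Set.range D.ι := by
    rintro _ ⟨x, rfl⟩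
    rw [Subsingleton.elim x default]
    simpa using h
  exact ⟨(IsOpenImmersion.lift D.ι l h1 : Spec (.of Ω) ⟶ (D : Scheme.{u})),
    IsOpenImmersion.lift_fac D.ι l h1⟩

theorem range_bc_openEtι (U : X.Etale) (D : U.left.Opens) :
    Set.range ((EtCoh.bc f).map (openEtι U D)).left ⊆ bcFst f U ⁻¹' D := by
  rintro _ ⟨y, rfl⟩
  have h := bc_map_fst f (openEtι U D)
  have h2 : bcFst f U (((EtCoh.bc f).map (openEtι U D)).left y) =
      (openEtι U D).left (bcFst f (openEt U D) y) := by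
    rw [← Scheme.Hom.comp_apply, h, Scheme.Hom.comp_apply]
  rw [Set.mem_preimage, h2, openEtι_left]
  exact (bcFst f (openEt U D) y).2

section StkP

variable [IsSepClosed Ω]

/-- `pullStk` with a flexible target. -/
noncomputable def pullStk' (F : Sh X) (ξ' : Spec (.of Ω) ⟶ X') (ξ : Spec (.of Ω) ⟶ X)
    (h : ξ' ≫ f = ξ) : Stk F ξ ≃ Stk ((pullSh f).obj F) ξ' :=
  h ▸ pullStk f F ξ'

theorem pullStk'_germ (F : Sh X) (ξ' : Spec (.of Ω) ⟶ X') (ξ : Spec (.of Ω) ⟶ X)
    (h : ξ' ≫ f = ξ) {U : X.Etale} (l : Spec (.of Ω) ⟶ U.left) (hl : l ≫ U.hom = ξ)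
    (s : sect F U) :
    pullStk' f F ξ' ξ h (germ F l hl s) =
      germ ((pullSh f).obj F) (bcPt f ξ' l (hl.trans h.symm)) (bcPt_hom _ _ _ _)
        (pullSect f F s) := by
  subst h
  exact pullStk_germ f F ξ' l hl s

theorem pullStk'_rfl (F : Sh X) (ξ' : Spec (.of Ω) ⟶ X') (σ : Stk F (ξ' ≫ f)) :
    pullStk' f F ξ' (ξ' ≫ f) rfl σ = pullStk f F ξ' σ := rfl

theorem pullStk'_castStk (F : Sh X) (ξ' : Spec (.of Ω) ⟶ X') (ξ ζ : Spec (.of Ω) ⟶ X)
    (h : ξ' ≫ f = ζ) (e : ξ = ζ) (σ : Stk F ξ) :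
    pullStk' f F ξ' ζ h (castStk F e σ) = pullStk' f F ξ' ξ (h.trans e.symm) σ := by
  subst e; rfl

theorem castStk_pullStk' (F : Sh X) (ξ' ζ' : Spec (.of Ω) ⟶ X') (ξ : Spec (.of Ω) ⟶ X)
    (h : ξ' ≫ f = ξ) (e : ξ' = ζ') (σ : Stk F ξ) :
    castStk ((pullSh f).obj F) e (pullStk' f F ξ' ξ h σ) = pullStk' f F ζ' ξ (e ▸ h) σ := by
  subst e; rfl

theorem pullStk'_mapStk {F G : Sh X} (a : F ⟶ G) (ξ' : Spec (.of Ω) ⟶ X')
    (ξ : Spec (.of Ω) ⟶ X) (h : ξ' ≫ f = ξ) (σ : Stk F ξ) :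
    pullStk' f G ξ' ξ h (mapStk a ξ σ) = mapStk ((pullSh f).map a) ξ' (pullStk' f F ξ' ξ h σ) := by
  subst h
  exact pullStk_mapStk f a ξ' σ

/-- The germ of `pullSect s` at an arbitrary geometric point. -/
theorem germ_pullSect (F : Sh X) {U : X.Etale} (s : sect F U)
    (m : Spec (.of Ω) ⟶ ((EtCoh.bc f).obj U).left) (ξ' : Spec (.of Ω) ⟶ X')
    (hm : m ≫ ((EtCoh.bc f).obj U).hom = ξ') (ξ : Spec (.of Ω) ⟶ X)
    (h : (m ≫ bcFst f U) ≫ U.hom = ξ) :
    germ ((pullSh f).obj F) m hm (pullSect f F s) =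
      pullStk' f F ξ' ξ (by rw [← h, ← hm, Category.assoc, Category.assoc, bc_condition])
        (germ F (m ≫ bcFst f U) h s) := by
  rw [pullStk'_germ]
  subst hm
  congr 1
  exact bcPt_eta f m

end StkP

/-- Sections are determined by their inverse images along `f` surjective. -/
theorem pullSect_injective (F : Sh X) {U : X.Etale} (hU : Function.Surjective (bcFst f U)) :
    Function.Injective (pullSect f F (U := U)) := by
  intro s t hst
  refine sect_ext_germ F U s t (fun x => ?_)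
  obtain ⟨y, rfl⟩ := hU x
  obtain ⟨Ω, _, _, m, hm⟩ := exists_geomPoint _ y
  refine ⟨Ω, inferInstance, inferInstance, m ≫ bcFst f U, by rw [← hm]; rfl, ?_⟩
  have h1 := germ_pullSect f F s m _ rfl _ rfl
  have h2 := germ_pullSect f F t m _ rfl _ rfl
  rw [hst, h2] at h1
  exact ((pullStk' f F _ _ _).injective h1).symm

/-- The condition that the germs of a section of `f^* F` over `U ×_X X'` only depend on their
image in `U`. -/
def GermCompat (F : Sh X) {U : X.Etale} (s' : sect ((pullSh f).obj F) ((EtCoh.bc f).obj U)) : Prop :=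
  ∀ (Ω : Type u) [Field Ω] [IsSepClosed Ω] (m₁ m₂ : Spec (.of Ω) ⟶ ((EtCoh.bc f).obj U).left)
    (ξ : Spec (.of Ω) ⟶ X) (_ : m₁ ≫ bcFst f U = m₂ ≫ bcFst f U)
    (h₁ : (m₁ ≫ ((EtCoh.bc f).obj U).hom) ≫ f = ξ) (h₂ : (m₂ ≫ ((EtCoh.bc f).obj U).hom) ≫ f = ξ),
    (pullStk' f F _ ξ h₁).symm (germ ((pullSh f).obj F) m₁ rfl s') =
      (pullStk' f F _ ξ h₂).symm (germ ((pullSh f).obj F) m₂ rfl s')

theorem GermCompat.res {F : Sh X} {U V : X.Etale}
    {s' : sect ((pullSh f).obj F) ((EtCoh.bc f).obj U)} (h : GermCompat f F s') (g : V ⟶ U) :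
    GermCompat f F (((pullSh f).obj F).obj.map ((EtCoh.bc f).map g).op s') := by
  intro Ω _ _ m₁ m₂ ξ e h₁ h₂
  have k₁ : (m₁ ≫ ((EtCoh.bc f).map g).left) ≫ ((EtCoh.bc f).obj U).hom =
      m₁ ≫ ((EtCoh.bc f).obj V).hom := by rw [Category.assoc, bc_map_hom]
  have k₂ : (m₂ ≫ ((EtCoh.bc f).map g).left) ≫ ((EtCoh.bc f).obj U).hom =
      m₂ ≫ ((EtCoh.bc f).obj V).hom := by rw [Category.assoc, bc_map_hom]
  have := h Ω (m₁ ≫ ((EtCoh.bc f).map g).left) (m₂ ≫ ((EtCoh.bc f).map g).left) ξ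
    (by rw [Category.assoc, Category.assoc, bc_map_fst, reassoc_of% e]) (by rw [k₁, h₁])
    (by rw [k₂, h₂])
  have aux : ∀ (m : Spec (.of Ω) ⟶ ((EtCoh.bc f).obj V).left)
      (k : (m ≫ ((EtCoh.bc f).map g).left) ≫ ((EtCoh.bc f).obj U).hom =
        m ≫ ((EtCoh.bc f).obj V).hom) (h₁ : (m ≫ ((EtCoh.bc f).obj V).hom) ≫ f = ξ),
      (pullStk' f F _ ξ h₁).symm (germ ((pullSh f).obj F) m rfl
        (((pullSh f).obj F).obj.map ((EtCoh.bc f).map g).op s')) =
      (pullStk' f F _ ξ (by rw [k, h₁])).symm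
        (germ ((pullSh f).obj F) (m ≫ ((EtCoh.bc f).map g).left) rfl s') := by
    intro m k h₁
    rw [Equiv.symm_apply_eq]
    rw [germ_res]
    rw [← castStk_germ ((pullSh f).obj F) k (m ≫ ((EtCoh.bc f).map g).left) rfl s']
    obtain ⟨τ, hτ⟩ := (pullStk' f F _ ξ (show ((m ≫ ((EtCoh.bc f).map g).left) ≫
      ((EtCoh.bc f).obj U).hom) ≫ f = ξ by rw [k, h₁])).surjective
        (germ ((pullSh f).obj F) (m ≫ ((EtCoh.bc f).map g).left) rfl s')
    rw [← hτ, Equiv.symm_apply_apply, castStk_pullStk']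
  rw [aux m₁ k₁ h₁, aux m₂ k₂ h₂]
  exact this

/-- Generalised SGA 4 VIII 9.2. -/
theorem exists_pullSect_eq (hf : EtSubmersive f) (F : Sh X) {U : X.Etale}
    (s' : sect ((pullSh f).obj F) ((EtCoh.bc f).obj U)) (h : GermCompat f F s') :
    ∃ s : sect F U, pullSect f F s = s' := by
  refine app_surjective_of_local ((adjSh f).unit.app F)
    (fun V => pullSect_injective f F (hf V).surjective) U s' (fun x => ?_)
  obtain ⟨y, rfl⟩ := (hf U).surjective x
  obtain ⟨Ω, _, _, m, rfl⟩ := exists_geomPoint _ y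
  have hξ : (m ≫ ((EtCoh.bc f).obj U).hom) ≫ f = (m ≫ bcFst f U) ≫ U.hom := by
    rw [Category.assoc, Category.assoc, bc_condition]
  obtain ⟨V₀, n, hn, t₀, ht₀⟩ := exists_germ F
    ((pullStk' f F _ ((m ≫ bcFst f U) ≫ U.hom) hξ).symm (germ ((pullSh f).obj F) m rfl s'))
  obtain ⟨W, a, b, k, hk, ha, hb⟩ := exists_common_nhd (m ≫ bcFst f U) rfl n hn
  let t : sect F W := F.obj.map b.op t₀
  have ht : germ F k hk t = (pullStk' f F _ ((m ≫ bcFst f U) ≫ U.hom) hξ).symm
      (germ ((pullSh f).obj F) m rfl s') := by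
    rw [← ht₀]; exact germ_res' F b k hk n hn hb t₀
  let s'' : sect ((pullSh f).obj F) ((EtCoh.bc f).obj W) :=
    ((pullSh f).obj F).obj.map ((EtCoh.bc f).map a).op s'
  have hs'' : GermCompat f F s'' := h.res f a
  let A := agree ((pullSh f).obj F) (pullSect f F t) s''
  have hA := isOpen_image_of_saturated f hf
    (isOpen_agree ((pullSh f).obj F) (pullSect f F t) s'') (by
      intro Ω' _ _ m₁ m₂ e h₁
      rw [mem_agree_iff] at h₁ ⊢
      have hξ₁ : (m₁ ≫ ((EtCoh.bc f).obj W).hom) ≫ f = (m₁ ≫ bcFst f W) ≫ W.hom := by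
        rw [Category.assoc, Category.assoc, bc_condition]
      have hξ₂ : (m₂ ≫ ((EtCoh.bc f).obj W).hom) ≫ f = (m₁ ≫ bcFst f W) ≫ W.hom := by
        rw [e, Category.assoc, Category.assoc, bc_condition]
      have c := hs'' Ω' m₁ m₂ _ e hξ₁ hξ₂
      rw [← h₁, germ_pullSect f F t m₁ _ rfl _ rfl, Equiv.symm_apply_apply,
        Equiv.eq_symm_apply] at c
      rw [← c, germ_pullSect f F t m₂ _ rfl ((m₁ ≫ bcFst f W) ≫ W.hom) (by rw [e])]
      simp only [e])
  have hmW : bcPt f (m ≫ ((EtCoh.bc f).obj U).hom) k (hk.trans hξ.symm) ≫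
      ((EtCoh.bc f).map a).left = m := by
    apply hom_ext_bc
    · rw [Category.assoc, bc_map_fst, bcPt_fst_assoc, ha]
    · rw [Category.assoc, bc_map_hom, bcPt_hom]
  have hkA : bcPt f (m ≫ ((EtCoh.bc f).obj U).hom) k (hk.trans hξ.symm) default ∈ A := by
    rw [mem_agree_iff]
    apply castStk_injective ((pullSh f).obj F) (bcPt_hom _ _ _ _)
    rw [castStk_germ, castStk_germ]
    rw [← pullStk'_germ f F _ _ hξ k hk t, ht, Equiv.apply_symm_apply]
    exact (germ_res' _ _ _ _ _ _ hmW _).symm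
  let D : W.left.Opens := ⟨bcFst f W '' A, hA.1⟩
  have hkD : k default ∈ D := ⟨_, hkA, by
    rw [← Scheme.Hom.comp_apply, bcPt_fst]⟩
  obtain ⟨k', hk'⟩ := exists_lift_openEt W D k hkD
  refine ⟨openEt W D, openEtι W D ≫ a, k' default, F.obj.map (openEtι W D).op t, ?_, ?_⟩
  · have : k' ≫ (openEtι W D ≫ a).left = m ≫ bcFst f U := by
      rw [← ha, ← hk']; exact (Category.assoc _ _ _).symm
    rw [← Scheme.Hom.comp_apply, this]; rfl
  · have h1 : pullSect f F (F.obj.map (openEtι W D).op t) =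
        ((pullSh f).obj F).obj.map ((EtCoh.bc f).map (openEtι W D)).op (pullSect f F t) :=
      pullSect_res f F _ t
    have h2 : ((pullSh f).obj F).obj.map ((EtCoh.bc f).map (openEtι W D)).op (pullSect f F t) =
        ((pullSh f).obj F).obj.map ((EtCoh.bc f).map (openEtι W D)).op s'' := by
      apply map_eq_of_range_subset
      refine (range_bc_openEtι f W D).trans ?_
      exact hA.2.le
    refine h1.trans (h2.trans ?_)
    change _ = ((pullSh f).obj F).obj.map ((EtCoh.bc f).map (openEtι W D ≫ a)).op s'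
    rw [(EtCoh.bc f).map_comp, op_comp, ((pullSh f).obj F).obj.map_comp]
    rfl

end Groth.Agent.Sga4A.EtStalk
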