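import Groth.Agent.Sga4A.EtDescCrit
import Groth.Agent.Sga4A.IntLift2

/-!
# Effectivity of descent from a base change property along geometric fibres

`Fam G p` : families of germs of a sheaf of sets `G` on `X'` at all geometric points of `P`, `p : P ⟶ X'`.
`Fam.IsLocal` : étale-locally on `P` the family is given by a section of `G`.
`HasFibBC f G ξ` : every local family of germs on the geometric fibre `Spec Ω ×_X X'` of `f` is induced by
a section of `G` over `U ×_X X'` for an étale neighbourhood `U` of `ξ`.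
`isEffective_of_hasFibBC` : for `f` universally closed and surjective with `HasFibBC`, all descent data are
effective.
-/

set_option autoImplicit false
universe u

open CategoryTheory CategoryTheory.Limits AlgebraicGeometry Opposite

namespace Groth.Agent.Sga4A.FibBC

open EtDesc EtStalk

/-- A family of germs of `G` along `p : P ⟶ X'`. -/
def Fam {X' P : Scheme.{u}} (G : Sh X') (p : P ⟶ X') : Type (u + 1) :=
  ∀ (L : Type u) [Field L] [IsSepClosed L] (m : Spec (.of L) ⟶ P) (ζ : Spec (.of L) ⟶ X') (_ : m ≫ p = ζ),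
    Stk G ζ

/-- Étale-locally the family is given by a section of `G`. -/
def Fam.IsLocal {X' P : Scheme.{u}} {G : Sh X'} {p : P ⟶ X'} (b : Fam G p) : Prop :=
  ∀ z : P, ∃ (T : Scheme.{u}) (t : T ⟶ P) (_ : Etale t) (w : T) (_ : t w = z) (V : X'.Etale)
    (κ : T ⟶ V.left) (hκ : κ ≫ V.hom = t ≫ p) (a : sect G V),
    ∀ (L : Type u) [Field L] [IsSepClosed L] (m : Spec (.of L) ⟶ T) (ζ : Spec (.of L) ⟶ X')
      (h : (m ≫ t) ≫ p = ζ),
      germ G (m ≫ κ) (by rw [← h, Category.assoc, hκ, Category.assoc]) a = b L (m ≫ t) ζ h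

/-- The base change property for sections along the geometric fibre at `ξ`. -/
def HasFibBC {X' X : Scheme.{u}} (f : X' ⟶ X) (G : Sh X') {Ω : Type u} [Field Ω]
    (ξ : Spec (.of Ω) ⟶ X) : Prop :=
  ∀ b : Fam G (pullback.snd ξ f), b.IsLocal → ∃ (U : X.Etale) (l : Spec (.of Ω) ⟶ U.left)
    (_ : l ≫ U.hom = ξ) (s : sect G ((EtCoh.bc f).obj U)),
    ∀ (L : Type u) [Field L] [IsSepClosed L] (m : Spec (.of L) ⟶ pullback ξ f)
      (ζ : Spec (.of L) ⟶ X') (h : m ≫ pullback.snd ξ f = ζ)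
      (n : Spec (.of L) ⟶ ((EtCoh.bc f).obj U).left) (_ : n ≫ bcFst f U = m ≫ pullback.fst ξ f ≫ l)
      (hn : n ≫ ((EtCoh.bc f).obj U).hom = ζ), germ G n hn s = b L m ζ h

theorem germ_congr {X : Scheme.{u}} (F : Sh X) {L : Type u} [Field L] [IsSepClosed L]
    {ξ : Spec (.of L) ⟶ X} {U : X.Etale} {l l' : Spec (.of L) ⟶ U.left} (h : l = l')
    (hl : l ≫ U.hom = ξ) (hl' : l' ≫ U.hom = ξ) (s : sect F U) : germ F l hl s = germ F l' hl' s := by
  subst h; rfl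

section Main

variable {X' X : Scheme.{u}} (f : X' ⟶ X) {F' : Sh X'}
  {φ : (pullSh (pullback.fst f f)).obj F' ≅ (pullSh (pullback.snd f f)).obj F'}

/-- Germs of the section `φ (pr₁^* s)`. -/
theorem germ_φ_pullSect {L : Type u} [Field L] [IsSepClosed L] {V : X'.Etale} (s : sect F' V)
    (n : Spec (.of L) ⟶ ((EtCoh.bc (pullback.fst f f)).obj V).left)
    (η : Spec (.of L) ⟶ pullback f f) (hη : n ≫ ((EtCoh.bc (pullback.fst f f)).obj V).hom = η)
    (ξ₁ ξ₂ : Spec (.of L) ⟶ X') (e : ξ₁ ≫ f = ξ₂ ≫ f) (h₁ : η ≫ pullback.fst f f = ξ₁)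
    (h₂ : η ≫ pullback.snd f f = ξ₂) (h : (n ≫ bcFst (pullback.fst f f) V) ≫ V.hom = ξ₁) :
    germ ((pullSh (pullback.snd f f)).obj F') n hη (φ.hom.hom.app
      (op ((EtCoh.bc (pullback.fst f f)).obj V)) (pullSect (pullback.fst f f) F' s)) =
    pullStk' (pullback.snd f f) F' η ξ₂ h₂ (tr f F' φ ξ₁ ξ₂ e
      (germ F' (n ≫ bcFst (pullback.fst f f) V) h s)) := by
  rw [pullStk'_tr f F' φ η ξ₁ ξ₂ e h₁ h₂, ← mapStk_germ, germ_pullSect _ F' s n η hη ξ₁ h]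

/-- The family of germs on a fibre obtained by transporting a germ by the descent datum. -/
noncomputable def trFam (φ : (pullSh (pullback.fst f f)).obj F' ≅ (pullSh (pullback.snd f f)).obj F')
    {Ω : Type u} [Field Ω] (ξ' : Spec (.of Ω) ⟶ X') {V : X'.Etale}
    (l : Spec (.of Ω) ⟶ V.left) (hl : l ≫ V.hom = ξ') (s : sect F' V) :
    Fam F' (pullback.snd (ξ' ≫ f) f) :=
  fun _ _ _ m ζ h => tr f F' φ ((m ≫ pullback.fst (ξ' ≫ f) f) ≫ ξ') ζ
    (by rw [← h, Category.assoc, Category.assoc, pullback.condition, Category.assoc])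
    (germ F' ((m ≫ pullback.fst (ξ' ≫ f) f) ≫ l) (by rw [Category.assoc, hl]) s)

theorem trFam_isLocal {Ω : Type u} [Field Ω] (ξ' : Spec (.of Ω) ⟶ X') {V₀ : X'.Etale}
    (l₀ : Spec (.of Ω) ⟶ V₀.left) (hl₀ : l₀ ≫ V₀.hom = ξ') (s₀ : sect F' V₀) :
    (trFam f φ ξ' l₀ hl₀ s₀).IsLocal := by
  let p₁ := pullback.fst f f
  let p₂ := pullback.snd f f
  let P := pullback (ξ' ≫ f) f
  let j : P ⟶ pullback f f := pullback.lift (pullback.fst _ _ ≫ ξ') (pullback.snd _ _)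
    (by rw [Category.assoc, pullback.condition])
  have hj₁ : j ≫ p₁ = pullback.fst _ _ ≫ ξ' := pullback.lift_fst _ _ _
  have hj₂ : j ≫ p₂ = pullback.snd _ _ := pullback.lift_snd _ _ _
  let W₀ := (EtCoh.bc p₁).obj V₀
  let J : P ⟶ W₀.left := pullback.lift (pullback.fst _ _ ≫ l₀) j (by rw [Category.assoc, hl₀, hj₁])
  have hJ₁ : J ≫ bcFst p₁ V₀ = pullback.fst _ _ ≫ l₀ := pullback.lift_fst _ _ _
  have hJ₂ : J ≫ W₀.hom = j := pullback.lift_snd _ _ _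
  let β : sect ((pullSh p₂).obj F') W₀ := φ.hom.hom.app (op W₀) (pullSect p₁ F' s₀)
  intro z
  obtain ⟨L, _, _, m₀, hm₀⟩ := exists_geomPoint P z
  obtain ⟨τ, hτ⟩ := (pullStk' p₂ F' (m₀ ≫ j) _ rfl).surjective
    (germ _ (m₀ ≫ J) (by rw [Category.assoc, hJ₂]) β)
  obtain ⟨V, n, hn, a, rfl⟩ := exists_germ F' τ
  rw [pullStk'_germ] at hτ
  obtain ⟨W, α, γ, k, hk, hkα, hkγ, h⟩ := (germ_eq_germ_iff _ _ _ _ _ _ _).1 hτ
  have wα : α.left ≫ ((EtCoh.bc p₂).obj V).hom = W.hom := Over.w α.hom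
  have wγ : γ.left ≫ W₀.hom = W.hom := Over.w γ.hom
  obtain ⟨w, hw₁, hw₂⟩ := Scheme.Pullback.exists_preimage_pullback (f := γ.left) (g := J)
    (k default) z (by
      rw [← hm₀, ← Scheme.Hom.comp_apply, ← Scheme.Hom.comp_apply, hkγ])
  refine ⟨pullback γ.left J, pullback.snd _ _, inferInstance, w, hw₂, V,
    pullback.fst _ _ ≫ α.left ≫ bcFst p₂ V, ?_, a, ?_⟩
  · rw [Category.assoc, Category.assoc, bc_condition, reassoc_of% wα, ← hj₂, ← hJ₂, Category.assoc,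
      ← pullback.condition_assoc, reassoc_of% wγ]
  · intro L' _ _ m ζ hm
    obtain ⟨q, hq⟩ : ∃ q, q = m ≫ pullback.snd γ.left J := ⟨_, rfl⟩
    obtain ⟨r, hr⟩ : ∃ r, r = m ≫ pullback.fst γ.left J := ⟨_, rfl⟩
    have hrq : r ≫ γ.left = q ≫ J := by
      rw [hr, hq, Category.assoc, pullback.condition, Category.assoc]
    rw [← hq] at hm
    have hη₀ : (q ≫ J) ≫ W₀.hom = q ≫ j := by rw [Category.assoc]; exact congrArg _ hJ₂
    have hη₁ : (q ≫ j) ≫ p₁ = (q ≫ pullback.fst (ξ' ≫ f) f) ≫ ξ' := by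
      rw [Category.assoc, hj₁, Category.assoc]
    have hη₂ : (q ≫ j) ≫ p₂ = ζ := by rw [Category.assoc, hj₂, hm]
    have he : ((q ≫ pullback.fst (ξ' ≫ f) f) ≫ ξ') ≫ f = ζ ≫ f := by
      rw [← hm, Category.assoc, Category.assoc, pullback.condition, Category.assoc]
    have hl : ((q ≫ J) ≫ bcFst p₁ V₀) = (q ≫ pullback.fst (ξ' ≫ f) f) ≫ l₀ := by
      rw [Category.assoc, hJ₁, Category.assoc]
    have hl' : ((q ≫ J) ≫ bcFst p₁ V₀) ≫ V₀.hom = (q ≫ pullback.fst (ξ' ≫ f) f) ≫ ξ' := by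
      rw [hl, Category.assoc, hl₀]
    have hrW : r ≫ W.hom = q ≫ j := by rw [← wγ, ← Category.assoc, hrq, hη₀]
    have e₁ := germ_φ_pullSect f (φ := φ) s₀ (q ≫ J) (q ≫ j) hη₀ _ ζ he hη₁ hη₂ hl'
    have e₂ := germ_pullSect p₂ F' a (r ≫ α.left) (q ≫ j) (by rw [Category.assoc, wα, hrW]) ζ
      (by rw [Category.assoc, bc_condition, Category.assoc, reassoc_of% wα, reassoc_of% hrW, hj₂, hm])
    have e₃ : germ _ (r ≫ α.left) (by rw [Category.assoc, wα, hrW]) (pullSect p₂ F' a) =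
        germ _ (q ≫ J) hη₀ β := by
      rw [← germ_res' _ α r hrW _ _ rfl, ← germ_res' _ γ r hrW (q ≫ J) hη₀ hrq]
      exact congrArg _ h
    apply (pullStk' p₂ F' (q ≫ j) ζ hη₂).injective
    refine Eq.trans ?_ ((e₂.symm.trans (e₃.trans e₁)).trans ?_)
    · congr 1
      exact germ_congr F' (by rw [hr]; simp only [Category.assoc]) _ _ a
    · subst hq
      exact congrArg (pullStk' p₂ F' _ ζ hη₂) (congrArg (tr f F' φ _ ζ he) (germ_congr F' hl _ _ s₀))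

/-- The isomorphism `U ×_X (X' ×_X X')` seen over `X'` via the two projections. -/
noncomputable def swapBC (U : X.Etale) :
    (EtCoh.bc (pullback.fst f f)).obj ((EtCoh.bc f).obj U) ⟶
      (EtCoh.bc (pullback.snd f f)).obj ((EtCoh.bc f).obj U) :=
  MorphismProperty.Over.homMk (pullback.lift
    (pullback.lift (bcFst (pullback.fst f f) ((EtCoh.bc f).obj U) ≫ bcFst f U)
      (((EtCoh.bc (pullback.fst f f)).obj ((EtCoh.bc f).obj U)).hom ≫ pullback.snd f f) (by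
        rw [Category.assoc, bc_condition, ← Category.assoc, bc_condition, Category.assoc,
          pullback.condition, Category.assoc]) :
        _ ⟶ pullback U.hom f)
    ((EtCoh.bc (pullback.fst f f)).obj ((EtCoh.bc f).obj U)).hom (pullback.lift_snd _ _ _) :
      _ ⟶ pullback ((EtCoh.bc f).obj U).hom (pullback.snd f f)) (pullback.lift_snd _ _ _) trivial

@[reassoc]
theorem swapBC_fst_fst (U : X.Etale) : (swapBC f U).left ≫ bcFst (pullback.snd f f) _ ≫ bcFst f U =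
    bcFst (pullback.fst f f) _ ≫ bcFst f U := by
  have h : (swapBC f U).left ≫ bcFst (pullback.snd f f) ((EtCoh.bc f).obj U) = _ :=
    pullback.lift_fst _ _ _
  rw [reassoc_of% h]
  exact pullback.lift_fst _ _ _

@[reassoc]
theorem swapBC_hom (U : X.Etale) :
    (swapBC f U).left ≫ ((EtCoh.bc (pullback.snd f f)).obj ((EtCoh.bc f).obj U)).hom =
      ((EtCoh.bc (pullback.fst f f)).obj ((EtCoh.bc f).obj U)).hom :=
  Over.w (swapBC f U).hom

/-- The agreement locus of `φ (pr₁^* s)` and `pr₂^* s`. -/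
def agr (φ : (pullSh (pullback.fst f f)).obj F' ≅ (pullSh (pullback.snd f f)).obj F') {U : X.Etale}
    (s : sect F' ((EtCoh.bc f).obj U)) :
    Set ((EtCoh.bc (pullback.fst f f)).obj ((EtCoh.bc f).obj U)).left :=
  agree _ (φ.hom.hom.app (op ((EtCoh.bc (pullback.fst f f)).obj ((EtCoh.bc f).obj U)))
    (pullSect (pullback.fst f f) F' s))
    (((pullSh (pullback.snd f f)).obj F').obj.map (swapBC f U).op (pullSect (pullback.snd f f) F' s))

theorem mem_agr_iff {U : X.Etale} (s : sect F' ((EtCoh.bc f).obj U)) {L : Type u} [Field L]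
    [IsSepClosed L]
    (n : Spec (.of L) ⟶ ((EtCoh.bc (pullback.fst f f)).obj ((EtCoh.bc f).obj U)).left)
    (n₁ n₂ : Spec (.of L) ⟶ ((EtCoh.bc f).obj U).left)
    (hn₁ : n ≫ bcFst (pullback.fst f f) _ = n₁)
    (hn₂ : n ≫ (swapBC f U).left ≫ bcFst (pullback.snd f f) _ = n₂)
    (ξ₁ ξ₂ : Spec (.of L) ⟶ X') (e : ξ₁ ≫ f = ξ₂ ≫ f)
    (h₁ : n₁ ≫ ((EtCoh.bc f).obj U).hom = ξ₁) (h₂ : n₂ ≫ ((EtCoh.bc f).obj U).hom = ξ₂) :
    n default ∈ agr f φ s ↔
      tr f F' φ ξ₁ ξ₂ e (germ F' n₁ h₁ s) = germ F' n₂ h₂ s := by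
  subst hn₁ hn₂
  obtain ⟨η, hη⟩ : ∃ η, n ≫ ((EtCoh.bc (pullback.fst f f)).obj ((EtCoh.bc f).obj U)).hom = η :=
    ⟨_, rfl⟩
  have k₁ : η ≫ pullback.fst f f = ξ₁ := by
    rw [← hη, ← h₁, Category.assoc, ← bc_condition, Category.assoc]
  have k₂ : η ≫ pullback.snd f f = ξ₂ := by
    rw [← hη, ← h₂, ← swapBC_hom, Category.assoc, Category.assoc, ← bc_condition]
    simp only [Category.assoc]
  have hη' : (n ≫ (swapBC f U).left) ≫
      ((EtCoh.bc (pullback.snd f f)).obj ((EtCoh.bc f).obj U)).hom = η := by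
    rw [Category.assoc, swapBC_hom, hη]
  have e₁ := germ_φ_pullSect f (φ := φ) s n η hη ξ₁ ξ₂ e k₁ k₂ h₁
  have e₂ := germ_pullSect (pullback.snd f f) F' s (n ≫ (swapBC f U).left) η hη' ξ₂
    (by rw [← h₂]; simp only [Category.assoc])
  have e₃ := germ_res' ((pullSh (pullback.snd f f)).obj F') (swapBC f U) n hη
    (n ≫ (swapBC f U).left) hη' rfl (pullSect (pullback.snd f f) F' s)
  have e₄ : germ F' ((n ≫ (swapBC f U).left) ≫ bcFst (pullback.snd f f) _)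
      (by rw [← h₂]; simp only [Category.assoc]) s = germ F' _ h₂ s :=
    germ_congr F' (by simp only [Category.assoc]) _ _ s
  rw [agr, mem_agree_iff]
  have key : ∀ (t t' : sect ((pullSh (pullback.snd f f)).obj F')
      ((EtCoh.bc (pullback.fst f f)).obj ((EtCoh.bc f).obj U))),
      germ _ n rfl t = germ _ n rfl t' ↔ germ _ n hη t = germ _ n hη t' := by
    subst hη
    intro t t'
    rfl
  rw [key, e₁, e₃, e₂, e₄]
  exact (pullStk' (pullback.snd f f) F' η ξ₂ k₂).injective.eq_iff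

/-- The projection `U ×_X (X' ×_X X') ⟶ U`. -/
noncomputable abbrev prU (U : X.Etale) :
    ((EtCoh.bc (pullback.fst f f)).obj ((EtCoh.bc f).obj U)).left ⟶ U.left :=
  bcFst (pullback.fst f f) ((EtCoh.bc f).obj U) ≫ bcFst f U

/-- The point of `U ×_X (X' ×_X X')` given by two points of `U ×_X X'` over the same point of `U`. -/
theorem exists_pt {U : X.Etale} {L : Type u} [Field L] (m₁ m₂ : Spec (.of L) ⟶ ((EtCoh.bc f).obj U).left)
    (hm : m₁ ≫ bcFst f U = m₂ ≫ bcFst f U) :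
    ∃ n : Spec (.of L) ⟶ ((EtCoh.bc (pullback.fst f f)).obj ((EtCoh.bc f).obj U)).left,
      n ≫ bcFst (pullback.fst f f) _ = m₁ ∧
      n ≫ (swapBC f U).left ≫ bcFst (pullback.snd f f) _ = m₂ := by
  have hc : (m₁ ≫ ((EtCoh.bc f).obj U).hom) ≫ f = (m₂ ≫ ((EtCoh.bc f).obj U).hom) ≫ f := by
    rw [Category.assoc, ← bc_condition, reassoc_of% hm, bc_condition, Category.assoc]
  refine ⟨bcPt (pullback.fst f f) (pairPt f _ _ hc) m₁ (pairPt_fst f _ _ hc).symm, bcPt_fst _ _ _ _, ?_⟩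
  apply hom_ext_bc
  · rw [Category.assoc, Category.assoc, swapBC_fst_fst, bcPt_fst_assoc, hm]
  · rw [Category.assoc, Category.assoc, bc_condition, swapBC_hom_assoc, bcPt_hom_assoc, pairPt_snd]

theorem exists_compat [UniversallyClosed f] {U : X.Etale} (s : sect F' ((EtCoh.bc f).obj U))
    {Ω : Type u} [Field Ω] (l : Spec (.of Ω) ⟶ U.left)
    (hs : ∀ (L : Type u) [Field L] [IsSepClosed L] (k : Spec (.of L) ⟶ Spec (.of Ω))
      (n₁ n₂ : Spec (.of L) ⟶ ((EtCoh.bc f).obj U).left)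
      (_ : n₁ ≫ bcFst f U = k ≫ l) (_ : n₂ ≫ bcFst f U = k ≫ l)
      (ξ₁ ξ₂ : Spec (.of L) ⟶ X') (e : ξ₁ ≫ f = ξ₂ ≫ f)
      (h₁ : n₁ ≫ ((EtCoh.bc f).obj U).hom = ξ₁) (h₂ : n₂ ≫ ((EtCoh.bc f).obj U).hom = ξ₂),
      tr f F' φ ξ₁ ξ₂ e (germ F' n₁ h₁ s) = germ F' n₂ h₂ s) :
    ∃ (U' : X.Etale) (g : U' ⟶ U) (l' : Spec (.of Ω) ⟶ U'.left), l' ≫ g.left = l ∧
      Compat f F' φ (F'.obj.map ((EtCoh.bc f).map g).op s) := by
  have h1 : UniversallyClosed (prU f U) := by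
    have h2 : UniversallyClosed (bcFst f U) :=
      inferInstanceAs (UniversallyClosed (pullback.fst U.hom f))
    have h3 : UniversallyClosed (bcFst (pullback.fst f f) ((EtCoh.bc f).obj U)) :=
      inferInstanceAs (UniversallyClosed
        (pullback.fst ((EtCoh.bc f).obj U).hom (pullback.fst f f)))
    exact MorphismProperty.comp_mem @UniversallyClosed _ _ h3 h2
  have hA : IsOpen (agr f φ s) := isOpen_agree _ _ _
  have hcl : IsClosed (prU f U '' (agr f φ s)ᶜ) := (prU f U).isClosedMap _ hA.isClosed_compl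
  let D : U.left.Opens := ⟨(prU f U '' (agr f φ s)ᶜ)ᶜ, hcl.isOpen_compl⟩
  have hlD : l default ∈ D := by
    rintro ⟨w, hw, hwl⟩
    apply hw
    obtain ⟨L, _, k, t, ht, rfl⟩ := IntLift.exists_field_point (prU f U) l w hwl
    let i : Spec (.of (SeparableClosure L)) ⟶ Spec (.of L) :=
      Spec.map (CommRingCat.ofHom (algebraMap L (SeparableClosure L)))
    rw [← IntLift.comp_default i t]
    have ht' : (i ≫ t) ≫ prU f U = (i ≫ k) ≫ l := by
      rw [Category.assoc, ht, Category.assoc]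
    have c₁ : ((i ≫ t) ≫ bcFst (pullback.fst f f) _) ≫ bcFst f U = (i ≫ k) ≫ l := by
      rw [← ht', Category.assoc]
    have c₂ : ((i ≫ t) ≫ (swapBC f U).left ≫ bcFst (pullback.snd f f) _) ≫ bcFst f U =
        (i ≫ k) ≫ l := by
      rw [← ht']
      simp only [Category.assoc]
      rw [swapBC_fst_fst]
    have e : (((i ≫ t) ≫ bcFst (pullback.fst f f) _) ≫ ((EtCoh.bc f).obj U).hom) ≫ f =
        (((i ≫ t) ≫ (swapBC f U).left ≫ bcFst (pullback.snd f f) _) ≫ ((EtCoh.bc f).obj U).hom) ≫ f := by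
      rw [Category.assoc _ _ f, Category.assoc _ _ f, ← bc_condition, ← Category.assoc,
        ← Category.assoc _ (bcFst f U), c₁, c₂]
    exact (mem_agr_iff f s (i ≫ t) _ _ rfl rfl _ _ e rfl rfl).2
      (hs _ (i ≫ k) _ _ c₁ c₂ _ _ e rfl rfl)
  obtain ⟨l', hl'⟩ := exists_lift_openEt U D l hlD
  refine ⟨openEt U D, openEtι U D, l', hl', ?_⟩
  intro L _ _ m₁ m₂ hm ξ₁ ξ₂ e h₁ h₂
  have hm' : (m₁ ≫ ((EtCoh.bc f).map (openEtι U D)).left) ≫ bcFst f U =
      (m₂ ≫ ((EtCoh.bc f).map (openEtι U D)).left) ≫ bcFst f U := by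
    rw [Category.assoc, Category.assoc, bc_map_fst, reassoc_of% hm]
  obtain ⟨n, hn₁, hn₂⟩ := exists_pt f _ _ hm'
  have k₁ : (m₁ ≫ ((EtCoh.bc f).map (openEtι U D)).left) ≫ ((EtCoh.bc f).obj U).hom = ξ₁ := by
    rw [Category.assoc, bc_map_hom, h₁]
  have k₂ : (m₂ ≫ ((EtCoh.bc f).map (openEtι U D)).left) ≫ ((EtCoh.bc f).obj U).hom = ξ₂ := by
    rw [Category.assoc, bc_map_hom, h₂]
  rw [germ_res' F' _ m₁ h₁ _ k₁ rfl, germ_res' F' _ m₂ h₂ _ k₂ rfl,
    ← mem_agr_iff f s n _ _ hn₁ hn₂ ξ₁ ξ₂ e k₁ k₂]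
  by_contra hn
  have h3 : prU f U (n default) ∈ D := by
    have : n ≫ prU f U = m₁ ≫ bcFst f (openEt U D) ≫ D.ι := by
      rw [prU, reassoc_of% hn₁]
      exact (Category.assoc _ _ _).trans (congrArg (m₁ ≫ ·) (bc_map_fst f (openEtι U D)))
    have h4 : (n ≫ prU f U) default = D.ι ((m₁ ≫ bcFst f (openEt U D)) default : D) := by
      rw [this]
      rfl
    have h5 : prU f U (n default) = D.ι ((m₁ ≫ bcFst f (openEt U D)) default : D) := h4
    rw [h5]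
    exact ((m₁ ≫ bcFst f (openEt U D)) default : D).2
  exact h3 ⟨_, hn, rfl⟩

theorem tr_congr {Ω L : Type u} [Field Ω] [Field L] [IsSepClosed L] (ξ' : Spec (.of Ω) ⟶ X')
    {V : X'.Etale} (l : Spec (.of Ω) ⟶ V.left) (s : sect F' V) {k k' : Spec (.of L) ⟶ Spec (.of Ω)}
    (h : k = k') (ζ : Spec (.of L) ⟶ X') (e : (k ≫ ξ') ≫ f = ζ ≫ f) (e' : (k' ≫ ξ') ≫ f = ζ ≫ f)
    (hl : (k ≫ l) ≫ V.hom = k ≫ ξ') (hl' : (k' ≫ l) ≫ V.hom = k' ≫ ξ') :
    tr f F' φ (k ≫ ξ') ζ e (germ F' (k ≫ l) hl s) =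
      tr f F' φ (k' ≫ ξ') ζ e' (germ F' (k' ≫ l) hl' s) := by
  subst h; rfl

theorem tr_congr' {L : Type u} [Field L] [IsSepClosed L] {V : X'.Etale} (s : sect F' V)
    {ξ₁ ξ₂ : Spec (.of L) ⟶ X'} (h : ξ₁ = ξ₂) {l₁ l₂ : Spec (.of L) ⟶ V.left} (hl : l₁ = l₂)
    (h₁ : l₁ ≫ V.hom = ξ₁) (h₂ : l₂ ≫ V.hom = ξ₂) (ζ : Spec (.of L) ⟶ X')
    (e₁ : ξ₁ ≫ f = ζ ≫ f) (e₂ : ξ₂ ≫ f = ζ ≫ f) :
    tr f F' φ ξ₁ ζ e₁ (germ F' l₁ h₁ s) = tr f F' φ ξ₂ ζ e₂ (germ F' l₂ h₂ s) := by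
  subst h hl; rfl

theorem liftsAt_of_hasFibBC [UniversallyClosed f] (hφ : IsCocycle F' φ) {Ω : Type u} [Field Ω]
    [IsSepClosed Ω] (ξ' : Spec (.of Ω) ⟶ X') (h : HasFibBC f F' (ξ' ≫ f)) :
    LiftsAt f F' φ ξ' := by
  intro σ
  obtain ⟨V₀, l₀, hl₀, s₀, rfl⟩ := exists_germ F' σ
  obtain ⟨U, l, hl, s, hs⟩ := h (trFam f φ ξ' l₀ hl₀ s₀) (trFam_isLocal f ξ' l₀ hl₀ s₀)
  -- the germs of `s` on the fibre
  have hs' : ∀ (L : Type u) [Field L] [IsSepClosed L] (k : Spec (.of L) ⟶ Spec (.of Ω))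
      (n : Spec (.of L) ⟶ ((EtCoh.bc f).obj U).left) (_ : n ≫ bcFst f U = k ≫ l)
      (ζ : Spec (.of L) ⟶ X') (h : n ≫ ((EtCoh.bc f).obj U).hom = ζ) (e : (k ≫ ξ') ≫ f = ζ ≫ f),
      germ F' n h s = tr f F' φ (k ≫ ξ') ζ e (germ F' (k ≫ l₀) (by rw [Category.assoc, hl₀]) s₀) := by
    intro L _ _ k n hn ζ h e
    let m : Spec (.of L) ⟶ pullback (ξ' ≫ f) f := pullback.lift k ζ (by rw [← e, Category.assoc])
    have hm₁ : m ≫ pullback.fst _ _ = k := pullback.lift_fst _ _ _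
    have hm₂ : m ≫ pullback.snd _ _ = ζ := pullback.lift_snd _ _ _
    rw [hs L m ζ hm₂ n (by rw [reassoc_of% hm₁, hn]) h]
    exact tr_congr f ξ' l₀ s₀ hm₁ ζ _ _ _ _
  obtain ⟨U', g, l', hl', hc⟩ := exists_compat f (F' := F') (φ := φ) s l (by
    intro L _ _ k n₁ n₂ hn₁ hn₂ ξ₁ ξ₂ e h₁ h₂
    have e₁ : (k ≫ ξ') ≫ f = ξ₁ ≫ f := by
      rw [← h₁, Category.assoc, ← hl, ← Category.assoc, ← hn₁, Category.assoc, Category.assoc,
        bc_condition]
    have e₂ : (k ≫ ξ') ≫ f = ξ₂ ≫ f := e₁.trans e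
    rw [hs' L k n₁ hn₁ ξ₁ h₁ e₁, hs' L k n₂ hn₂ ξ₂ h₂ e₂, tr_tr f hφ])
  have hU' : l' ≫ U'.hom = ξ' ≫ f := by
    rw [← hl, ← hl', Category.assoc]
    exact congrArg _ (Over.w g.hom).symm
  refine ⟨U', l', hU', _, hc, ?_⟩
  have hpt : bcPt f ξ' l' hU' ≫ ((EtCoh.bc f).map g).left = bcPt f ξ' l hl := by
    apply hom_ext_bc
    · rw [Category.assoc, bc_map_fst, bcPt_fst_assoc, hl', bcPt_fst]
    · rw [Category.assoc, bc_map_hom, bcPt_hom, bcPt_hom]
  rw [germ_res' F' _ _ (bcPt_hom _ _ _ _) (bcPt f ξ' l hl) (bcPt_hom _ _ _ _) hpt,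
    hs' Ω (𝟙 _) _ (by rw [bcPt_fst, Category.id_comp]) ξ' (bcPt_hom _ _ _ _)
      (by rw [Category.id_comp]),
    tr_congr' f s₀ (Category.id_comp _) (Category.id_comp _) _ hl₀ ξ' _ rfl]
  exact tr_self f hφ ξ' _

/-- **Effective descent from base change along geometric fibres**: let `f` be universally closed and
surjective. If above each point of `X'` there is a geometric point `ξ'` such that `F'` has the fibrewise base
change property at `ξ' ≫ f`, all descent data on `F'` are effective. -/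
theorem isEffective_of_hasFibBC [UniversallyClosed f] [Surjective f] (hφ : IsCocycle F' φ)
    (h : ∀ x' : X', ∃ (Ω : Type u) (_ : Field Ω) (_ : IsSepClosed Ω) (ξ' : Spec (.of Ω) ⟶ X'),
      ξ' default = x' ∧ HasFibBC f F' (ξ' ≫ f)) : IsEffective f F' φ := by
  refine isEffective_of_liftsAt f F' φ (etSubmersive_of_universallyClosed f) (fun x' => ?_)
  obtain ⟨Ω, _, _, ξ', hx, hξ⟩ := h x'
  exact ⟨Ω, inferInstance, inferInstance, ξ', hx, liftsAt_of_hasFibBC f hφ ξ' hξ⟩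

end Main

end Groth.Agent.Sga4A.FibBC
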