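import Mathlib.CategoryTheory.Limits.Comma
import Mathlib.CategoryTheory.Limits.VanKampen
import Mathlib.CategoryTheory.Limits.Shapes.DisjointCoproduct
import Mathlib.CategoryTheory.EffectiveEpi.Basic

/-!
# Exactness properties of the comma category `Comma (𝟭 A) ρ`, componentwise

`ρ : B ⥤ A` preserves finite limits. Limits, colimits, universality and disjointness of coproducts,
effective epimorphisms in `Comma (𝟭 A) ρ` are inherited from the two components.
-/

set_option autoImplicit false
universe w w' v v' u u'
open CategoryTheory CategoryTheory.Limits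

namespace Groth.Agent.Sga4A.GlueComma

variable {A : Type u} [Category.{v} A] {B : Type u'} [Category.{v'} B] (ρ : B ⥤ A)

section limits

variable {J : Type w} [Category.{w'} J] [HasLimitsOfShape J A] [HasLimitsOfShape J B]
  [PreservesLimitsOfShape J ρ]

instance preservesLimitsOfShape_fst : PreservesLimitsOfShape J (Comma.fst (𝟭 A) ρ) where
  preservesLimit :=
    preservesLimit_of_preserves_limit_cone
      (Comma.coneOfPreservesIsLimit _ (limit.isLimit _) (limit.isLimit _))
      (limit.isLimit _)

instance preservesLimitsOfShape_snd : PreservesLimitsOfShape J (Comma.snd (𝟭 A) ρ) where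
  preservesLimit :=
    preservesLimit_of_preserves_limit_cone
      (Comma.coneOfPreservesIsLimit _ (limit.isLimit _) (limit.isLimit _))
      (limit.isLimit _)

end limits

variable {ρ}

theorem mono_of {X Y : Comma (𝟭 A) ρ} (f : X ⟶ Y) (hl : Mono f.left) (hr : Mono f.right) :
    Mono f where
  right_cancellation g h w := by
    ext
    · exact (cancel_mono f.left).1 (congrArg CommaMorphism.left w)
    · exact (cancel_mono f.right).1 (congrArg CommaMorphism.right w)

/-- An object of the comma category with initial components is initial. -/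
noncomputable def isInitialOf {X : Comma (𝟭 A) ρ} (hl : IsInitial X.left) (hr : IsInitial X.right) :
    IsInitial X :=
  IsInitial.ofUniqueHom (fun Y => { left := hl.to _, right := hr.to _, w := hl.hom_ext _ _ })
    (fun Y m => by
      ext
      · exact hl.hom_ext _ _
      · exact hr.hom_ext _ _)

theorem isPullback_of {P X Y Z : Comma (𝟭 A) ρ} {fst : P ⟶ X} {snd : P ⟶ Y} {f : X ⟶ Z} {g : Y ⟶ Z}
    [PreservesLimit (cospan f.right g.right) ρ]
    (h₁ : IsPullback fst.left snd.left f.left g.left)
    (h₂ : IsPullback fst.right snd.right f.right g.right) : IsPullback fst snd f g where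
  w := by
    ext
    · exact h₁.w
    · exact h₂.w
  isLimit' := ⟨PullbackCone.IsLimit.mk _
    (fun s => {
      left := h₁.lift s.fst.left s.snd.left (congrArg CommaMorphism.left s.condition)
      right := h₂.lift s.fst.right s.snd.right (congrArg CommaMorphism.right s.condition)
      w := by
        have h₃ := h₂.map ρ
        apply h₃.hom_ext
        · simp only [Functor.id_map, Category.assoc, ← Functor.map_comp, IsPullback.lift_fst]
          have := fst.w
          dsimp at this
          rw [← this, IsPullback.lift_fst_assoc]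
          exact s.fst.w
        · simp only [Functor.id_map, Category.assoc, ← Functor.map_comp, IsPullback.lift_snd]
          have := snd.w
          dsimp at this
          rw [← this, IsPullback.lift_snd_assoc]
          exact s.snd.w })
    (fun s => by
      ext
      · exact h₁.lift_fst _ _ _
      · exact h₂.lift_fst _ _ _)
    (fun s => by
      ext
      · exact h₁.lift_snd _ _ _
      · exact h₂.lift_snd _ _ _)
    (fun s m h1 h2 => by
      ext
      · apply h₁.hom_ext
        · exact (congrArg CommaMorphism.left h1).trans (h₁.lift_fst _ _ _).symm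
        · exact (congrArg CommaMorphism.left h2).trans (h₁.lift_snd _ _ _).symm
      · apply h₂.hom_ext
        · exact (congrArg CommaMorphism.right h1).trans (h₂.lift_fst _ _ _).symm
        · exact (congrArg CommaMorphism.right h2).trans (h₂.lift_snd _ _ _).symm)⟩

theorem isPushout_of {Z X Y P : Comma (𝟭 A) ρ} {f : Z ⟶ X} {g : Z ⟶ Y} {inl : X ⟶ P} {inr : Y ⟶ P}
    (h₁ : IsPushout f.left g.left inl.left inr.left)
    (h₂ : IsPushout f.right g.right inl.right inr.right) : IsPushout f g inl inr where
  w := by
    ext
    · exact h₁.w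
    · exact h₂.w
  isColimit' := ⟨PushoutCocone.IsColimit.mk _
    (fun s => {
      left := h₁.desc s.inl.left s.inr.left (congrArg CommaMorphism.left s.condition)
      right := h₂.desc s.inl.right s.inr.right (congrArg CommaMorphism.right s.condition)
      w := by
        apply h₁.hom_ext
        · have := inl.w
          dsimp at this ⊢
          rw [IsPushout.inl_desc_assoc, reassoc_of% this, ← Functor.map_comp, IsPushout.inl_desc]
          exact s.inl.w
        · have := inr.w
          dsimp at this ⊢
          rw [IsPushout.inr_desc_assoc, reassoc_of% this, ← Functor.map_comp, IsPushout.inr_desc]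
          exact s.inr.w })
    (fun s => by
      ext
      · exact h₁.inl_desc _ _ _
      · exact h₂.inl_desc _ _ _)
    (fun s => by
      ext
      · exact h₁.inr_desc _ _ _
      · exact h₂.inr_desc _ _ _)
    (fun s m h1 h2 => by
      ext
      · apply h₁.hom_ext
        · exact (congrArg CommaMorphism.left h1).trans (h₁.inl_desc _ _ _).symm
        · exact (congrArg CommaMorphism.left h2).trans (h₁.inr_desc _ _ _).symm
      · apply h₂.hom_ext
        · exact (congrArg CommaMorphism.right h1).trans (h₂.inl_desc _ _ _).symm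
        · exact (congrArg CommaMorphism.right h2).trans (h₂.inr_desc _ _ _).symm)⟩

section

variable [HasPullbacks A] [HasPullbacks B] [PreservesLimitsOfShape WalkingCospan ρ]

theorem isPullback_left {P X Y Z : Comma (𝟭 A) ρ} {fst : P ⟶ X} {snd : P ⟶ Y} {f : X ⟶ Z}
    {g : Y ⟶ Z} (h : IsPullback fst snd f g) : IsPullback fst.left snd.left f.left g.left :=
  h.map (Comma.fst (𝟭 A) ρ)

theorem isPullback_right {P X Y Z : Comma (𝟭 A) ρ} {fst : P ⟶ X} {snd : P ⟶ Y} {f : X ⟶ Z}
    {g : Y ⟶ Z} (h : IsPullback fst snd f g) : IsPullback fst.right snd.right f.right g.right :=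
  h.map (Comma.snd (𝟭 A) ρ)

theorem effectiveEpi_of {X Y : Comma (𝟭 A) ρ} (f : X ⟶ Y) [EffectiveEpi f.left]
    [EffectiveEpi f.right] : EffectiveEpi f := by
  have k := IsPullback.of_hasPullback f f
  have kl := isPullback_left k
  have kr := isPullback_right k
  have hl : ∀ {W : Comma (𝟭 A) ρ} (e : X ⟶ W)
      (_ : ∀ {Z : Comma (𝟭 A) ρ} (g₁ g₂ : Z ⟶ X), g₁ ≫ f = g₂ ≫ f → g₁ ≫ e = g₂ ≫ e)
      (Z : A) (g₁ g₂ : Z ⟶ X.left), g₁ ≫ f.left = g₂ ≫ f.left → g₁ ≫ e.left = g₂ ≫ e.left := by
    intro W e he Z g₁ g₂ hg
    have h := congrArg CommaMorphism.left (he _ _ k.w)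
    have h1 := kl.lift_fst g₁ g₂ hg
    have h2 := kl.lift_snd g₁ g₂ hg
    refine (congrArg (· ≫ e.left) h1.symm).trans (Eq.trans ?_ (congrArg (· ≫ e.left) h2))
    rw [Category.assoc, Category.assoc]
    exact congrArg (fun t => kl.lift g₁ g₂ hg ≫ t) h
  have hr : ∀ {W : Comma (𝟭 A) ρ} (e : X ⟶ W)
      (_ : ∀ {Z : Comma (𝟭 A) ρ} (g₁ g₂ : Z ⟶ X), g₁ ≫ f = g₂ ≫ f → g₁ ≫ e = g₂ ≫ e)
      (Z : B) (g₁ g₂ : Z ⟶ X.right), g₁ ≫ f.right = g₂ ≫ f.right →
        g₁ ≫ e.right = g₂ ≫ e.right := by
    intro W e he Z g₁ g₂ hg
    have h := congrArg CommaMorphism.right (he _ _ k.w)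
    have h1 := kr.lift_fst g₁ g₂ hg
    have h2 := kr.lift_snd g₁ g₂ hg
    refine (congrArg (· ≫ e.right) h1.symm).trans (Eq.trans ?_ (congrArg (· ≫ e.right) h2))
    rw [Category.assoc, Category.assoc]
    exact congrArg (fun t => kr.lift g₁ g₂ hg ≫ t) h
  refine ⟨⟨{
    desc := fun {W} e he => {
      left := EffectiveEpi.desc f.left e.left (fun {Z} g₁ g₂ => hl e he Z g₁ g₂)
      right := EffectiveEpi.desc f.right e.right (fun {Z} g₁ g₂ => hr e he Z g₁ g₂)
      w := by
        rw [← cancel_epi f.left]
        have h3 := f.w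
        have h4 := e.w
        dsimp at h3 h4 ⊢
        rw [reassoc_of% h3, EffectiveEpi.fac_assoc, ← Functor.map_comp, EffectiveEpi.fac, h4] }
    fac := fun e he => by
      ext
      · exact EffectiveEpi.fac f.left e.left (fun {Z} g₁ g₂ => hl e he Z g₁ g₂)
      · exact EffectiveEpi.fac f.right e.right (fun {Z} g₁ g₂ => hr e he Z g₁ g₂)
    uniq := fun e he m hm => by
      ext
      · exact EffectiveEpi.uniq f.left e.left (fun {Z} g₁ g₂ => hl e he Z g₁ g₂) _
          (congrArg CommaMorphism.left hm)
      · exact EffectiveEpi.uniq f.right e.right (fun {Z} g₁ g₂ => hr e he Z g₁ g₂) _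
          (congrArg CommaMorphism.right hm) }⟩⟩

end

end Groth.Agent.Sga4A.GlueComma
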