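import Groth.Agent.Etbase.CechCartan
import Groth.Agent.Etbase.EtSite
import Groth.Agent.Etcore.Stalks
import Groth.Agent.Etcore.OpenClosed
import Groth.Agent.Etcore.ExtAdj
import Groth.Agent.EtpbcA.ClosedEpi
import Groth.Agent.Sga4A.IntegralSection
import Groth.Agent.Hensel.LocalSplit
import Mathlib.RingTheory.QuasiFinite.Basic

/-!
# Étale cohomology of the spectrum of a henselian local ring
-/

set_option autoImplicit false
universe u

open CategoryTheory CategoryTheory.Limits AlgebraicGeometry Opposite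

namespace Groth.Agent.Sga4A.HensClosed

/-- A compact subset of the image of an étale map is covered by an étale map from an affine scheme. -/
lemma exists_affine_cover {X W' : Scheme.{u}} (p : W' ⟶ X)
    [AlgebraicGeometry.Etale p] {K : Set X} (hK : IsCompact K) (hKp : K ⊆ Set.range p) :
    ∃ (T : CommRingCat.{u}) (j : Spec T ⟶ W') (_ : AlgebraicGeometry.Etale j),
      K ⊆ Set.range (j ≫ p) := by
  have h1 : ∀ k : K, ∃ w : W', p w = k := fun k => hKp k.2
  choose w hw using h1
  have h2 : ∀ k : K, ∃ U : W'.affineOpens, w k ∈ U.1 := by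
    intro k
    obtain ⟨U, hU, hwU, -⟩ := exists_isAffineOpen_mem_and_subset (x := w k) (U := ⊤) trivial
    exact ⟨⟨U, hU⟩, hwU⟩
  choose U hU using h2
  have h3 : ∀ k : K, IsOpen (p '' (U k).1) := fun k => p.isOpenMap _ (U k).1.2
  obtain ⟨t, ht⟩ := hK.elim_finite_subcover (fun k : K => p '' (U k).1) h3 (by
    intro x hx
    rw [Set.mem_iUnion]
    exact ⟨⟨x, hx⟩, w ⟨x, hx⟩, hU _, hw _⟩)
  let Z : Scheme.{u} := ∐ fun i : t => ((U i.1).1 : Scheme.{u})
  have : ∀ i : t, IsAffine ((U i.1).1 : Scheme.{u}) := fun i => (U i.1).2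
  have : IsAffine Z := inferInstance
  let q : Z ⟶ W' := Sigma.desc fun i : t => (U i.1).1.ι
  have hq : AlgebraicGeometry.Etale q := IsZariskiLocalAtSource.sigmaDesc (P := EtCoh.etaleMP.{u})
    (fun i => (inferInstance : AlgebraicGeometry.Etale (U i.1).1.ι))
  let j : Spec Γ(Z, ⊤) ⟶ W' := Z.isoSpec.inv ≫ q
  refine ⟨Γ(Z, ⊤), j, inferInstance, ?_⟩
  intro x hx
  obtain ⟨k, hk, y, hy, rfl⟩ := Set.mem_iUnion₂.1 (ht hx)
  refine ⟨Z.isoSpec.hom ((Sigma.ι (fun i : t => ((U i.1).1 : Scheme.{u})) ⟨k, hk⟩) ⟨y, hy⟩), ?_⟩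
  have h4 : Sigma.ι (fun i : t => ((U i.1).1 : Scheme.{u})) ⟨k, hk⟩ ≫ Z.isoSpec.hom ≫ j ≫ p =
      (U k).1.ι ≫ p := by
    simp only [j, q, Category.assoc, Iso.hom_inv_id_assoc]
    rw [← Category.assoc, Sigma.ι_desc]
  exact congrArg (fun g : ((U k).1 : Scheme.{u}) ⟶ X => g ⟨y, hy⟩) h4

/-- The étale algebra version: an étale algebra over a henselian local ring has a finite clopen part
containing all primes over the maximal ideal. -/
lemma exists_finite_part (A : Type u) [CommRing A] [HenselianLocalRing A] (T : Type u) [CommRing T]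
    [Algebra A T] [Algebra.Etale A T] :
    ∃ (T' : Type u) (_ : CommRing T') (_ : Algebra A T') (_ : Algebra T T') (_ : IsScalarTower A T T')
      (_ : Algebra.Etale T T') (_ : Module.Finite A T'), ∀ q : PrimeSpectrum T,
      q.asIdeal.comap (algebraMap A T) = IsLocalRing.maximalIdeal A →
        q ∈ Set.range (PrimeSpectrum.comap (algebraMap T T')) := by
  have : Algebra.QuasiFinite A T := inferInstance
  obtain ⟨e, he, hf, hm⟩ := Hensel.LocalSplit.quasiFinite_split A T
  refine ⟨T ⧸ Ideal.span ({1 - e} : Set T), inferInstance, inferInstance, inferInstance,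
    inferInstance, ?_, hf, ?_⟩
  · have := IsLocalization.Away.quotient_of_isIdempotentElem he
    exact Algebra.Etale.of_isLocalizationAway e
  · intro q hq
    have h1 : e ∉ q.asIdeal := by
      intro heq
      have h2 : Ideal.span ({e} : Set T) ≤ q.asIdeal := by
        rw [Ideal.span_le, Set.singleton_subset_iff]
        exact heq
      have h3 : (1 : T ⧸ Ideal.span ({e} : Set T)) ∈
          q.asIdeal.map (Ideal.Quotient.mk (Ideal.span ({e} : Set T))) := by
        have h4 : Ideal.map (algebraMap A (T ⧸ Ideal.span ({e} : Set T)))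
            (IsLocalRing.maximalIdeal A) ≤
            q.asIdeal.map (Ideal.Quotient.mk (Ideal.span ({e} : Set T))) := by
          rw [Ideal.map_le_iff_le_comap, ← hq]
          intro a ha
          exact Ideal.mem_map_of_mem (Ideal.Quotient.mk (Ideal.span ({e} : Set T))) ha
        rw [hm] at h4
        exact h4 trivial
      rw [Ideal.mem_map_iff_of_surjective _ Ideal.Quotient.mk_surjective] at h3
      obtain ⟨x, hx, hx1⟩ := h3
      have h5 : x - 1 ∈ Ideal.span ({e} : Set T) := by
        rw [← Ideal.Quotient.eq, hx1, map_one]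
      have h6 := q.asIdeal.sub_mem hx (h2 h5)
      rw [sub_sub_cancel] at h6
      exact q.isPrime.ne_top ((Ideal.eq_top_iff_one _).2 h6)
    have h7 : 1 - e ∈ q.asIdeal := by
      have h8 : e * (1 - e) ∈ q.asIdeal := by
        rw [mul_sub, mul_one, he.eq, sub_self]
        exact q.asIdeal.zero_mem
      exact (q.isPrime.mem_or_mem h8).resolve_left h1
    have h10 := range_comap_of_surjective _ (algebraMap T (T ⧸ Ideal.span ({1 - e} : Set T)))
      Ideal.Quotient.mk_surjective
    rw [h10, PrimeSpectrum.mem_zeroLocus]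
    intro x hx
    have h9 : RingHom.ker (algebraMap T (T ⧸ Ideal.span ({1 - e} : Set T))) ≤ q.asIdeal := by
      rw [Ideal.Quotient.algebraMap_eq, Ideal.mk_ker, Ideal.span_le, Set.singleton_subset_iff]
      exact h7
    exact h9 hx

/-- An open subset of a scheme finite over a local scheme containing the closed fibre is everything. -/
lemma eq_univ_of_isOpen {A : Type u} [CommRing A] [IsLocalRing A] {V : Scheme.{u}}
    (h : V ⟶ Spec (.of A)) [IsFinite h] {O : Set V} (hO : IsOpen O)
    (hc : ∀ x : V, h x = IsLocalRing.closedPoint A → x ∈ O) : O = Set.univ := by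
  by_contra hne
  obtain ⟨x, hx⟩ := (Set.ne_univ_iff_exists_notMem O).1 hne
  have h1 : IsClosed (h '' Oᶜ) := h.isClosedMap _ hO.isClosed_compl
  have h2 : IsLocalRing.closedPoint A ∈ h '' Oᶜ := by
    have h3 : h x ⤳ (IsLocalRing.closedPoint A : PrimeSpectrum A) := IsLocalRing.specializes_closedPoint _
    exact h3.mem_closed h1 ⟨x, hx, rfl⟩
  obtain ⟨y, hy, hy'⟩ := h2
  exact hy (hc y hy')

/-- Étale covers of finite étale schemes over a henselian local scheme are refined by finite étale ones. -/
theorem exists_finite_refinement (A : Type u) [CommRing A] [HenselianLocalRing A]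
    (V W : (Spec (CommRingCat.of A)).Etale) [IsFinite V.hom] (p : W ⟶ V) (hp : Surjective p.left) :
    ∃ (V' : (Spec (CommRingCat.of A)).Etale) (g : V' ⟶ V) (σ : V' ⟶ W),
      σ ≫ p = g ∧ IsFinite V'.hom ∧ Surjective g.left := by
  have hpe : AlgebraicGeometry.Etale p.left := Etbase.EtSite.etale_left p
  have hq : QuasiCompact V.hom := inferInstance
  obtain ⟨T, j, hj, hK⟩ := @exists_affine_cover V.left W.left p.left hpe
    (V.hom ⁻¹' {(IsLocalRing.closedPoint A : PrimeSpectrum A)})
    (V.hom.isCompact_preimage_singleton _) (fun x _ => hp.surj x)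
  have hW : AlgebraicGeometry.Etale W.hom := W.prop
  let c : Spec T ⟶ Spec (.of A) := j ≫ W.hom
  have hc : AlgebraicGeometry.Etale c := inferInstance
  let γ : CommRingCat.of A ⟶ T := Spec.preimage c
  have hγ : Spec.map γ = c := Spec.map_preimage c
  letI : Algebra A T := γ.hom.toAlgebra
  have hγe : γ.hom.Etale := by
    rw [← HasRingHomProperty.Spec_iff (P := @AlgebraicGeometry.Etale), hγ]
    exact hc
  have : Algebra.Etale A T := hγe
  obtain ⟨T', _, _, _, _, _, hfin, hT'⟩ := exists_finite_part A T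
  let m : Spec (.of T') ⟶ Spec T := Spec.map (CommRingCat.ofHom (algebraMap T T'))
  have hm : AlgebraicGeometry.Etale m := by
    rw [HasRingHomProperty.Spec_iff (P := @AlgebraicGeometry.Etale)]
    change (algebraMap T T').Etale
    rw [RingHom.etale_algebraMap]
    infer_instance
  let V' : (Spec (CommRingCat.of A)).Etale := Scheme.Etale.mk (m ≫ j ≫ W.hom)
  let σ : V' ⟶ W := MorphismProperty.Over.homMk (m ≫ j) (Category.assoc _ _ _) trivial
  have hV' : V'.hom = Spec.map (CommRingCat.ofHom (algebraMap A T')) := by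
    change m ≫ c = _
    rw [← hγ, ← Spec.map_comp]
    congr 1
    exact CommRingCat.hom_ext (IsScalarTower.algebraMap_eq A T T').symm
  have hV'f : IsFinite V'.hom := by
    have h0 : IsFinite (Spec.map (CommRingCat.ofHom (algebraMap A T'))) := by
      rw [IsFinite.SpecMap_iff]
      exact RingHom.finite_algebraMap.2 hfin
    exact (congrArg (fun t : Spec (.of T') ⟶ Spec (.of A) => IsFinite t) hV').mpr h0
  refine ⟨V', σ ≫ p, σ, rfl, hV'f, ?_⟩
  have h1 : IsFinite (σ ≫ p).left := by
    have h2 : IsFinite ((σ ≫ p).left ≫ V.hom) := by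
      have h3 : (σ ≫ p).left ≫ V.hom = V'.hom := Over.w (σ ≫ p).hom
      rw [h3]
      exact hV'f
    exact IsFinite.of_comp _ V.hom
  have h4 : AlgebraicGeometry.Etale (σ ≫ p).left := Etbase.EtSite.etale_left _
  have h5 : IsOpen (Set.range (σ ≫ p).left) := (σ ≫ p).left.isOpenMap.isOpen_range
  have h6 := eq_univ_of_isOpen V.hom h5 (by
    intro x hx
    obtain ⟨t, ht⟩ := hK hx
    have h8 : (j ≫ p.left) ≫ V.hom = c := by
      have h9 : p.left ≫ V.hom = W.hom := Over.w p.hom
      exact (Category.assoc _ _ _).trans (congrArg (fun t => j ≫ t) h9)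
    have h7 : c t = IsLocalRing.closedPoint A := by
      refine (congrArg (fun f : Spec T ⟶ Spec (.of A) => f t) h8).symm.trans ?_
      exact (congrArg V.hom ht).trans hx
    obtain ⟨t', ht'⟩ := hT' t (by
      rw [← hγ] at h7
      exact congrArg PrimeSpectrum.asIdeal h7)
    refine ⟨t', ?_⟩
    rw [← ht, ← ht']
    rfl)
  exact ⟨fun x => h6.ge trivial⟩

open Etcore.Stalks

/-- Sheaves with zero restriction to the closed point have no sections over finite étale schemes. -/
theorem sect_eq_zero {A : Type u} [CommRing A] [IsLocalRing A] (K : EtCoh.Ab (Spec (CommRingCat.of A)))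
    (hK : IsZero ((EtCoh.pull (Spec.map (CommRingCat.ofHom (IsLocalRing.residue A)))).obj K))
    (V : (Spec (CommRingCat.of A)).Etale) [IsFinite V.hom] (s : EtCoh.sect K V) : s = 0 := by
  let i : Spec (.of (IsLocalRing.ResidueField A)) ⟶ Spec (.of A) :=
    Spec.map (CommRingCat.ofHom (IsLocalRing.residue A))
  have hi : IsClosedImmersion i := IsClosedImmersion.spec_of_surjective _ IsLocalRing.residue_surjective
  let O : Set V.left := {x | ∃ (W : (Spec (CommRingCat.of A)).Etale) (g : W ⟶ V) (w : W.left),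
    g.left w = x ∧ K.obj.map g.op s = 0}
  have hO : IsOpen O := by
    rw [isOpen_iff_forall_mem_open]
    rintro x ⟨W, g, w, rfl, hg⟩
    have hge : AlgebraicGeometry.Etale g.left := Etbase.EtSite.etale_left g
    refine ⟨Set.range g.left, ?_, g.left.isOpenMap.isOpen_range, w, rfl⟩
    rintro _ ⟨w', rfl⟩
    exact ⟨W, g, w', rfl, hg⟩
  have hO' : O = Set.univ := eq_univ_of_isOpen V.hom hO (by
    intro x hx
    obtain ⟨Ω, _, _, ζ, hζ⟩ := exists_geom x
    let ξ : Spec (.of Ω) ⟶ Spec (.of A) := ζ ≫ V.hom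
    have hξ : ξ default ∈ Set.range i := by
      have h1 : ξ default = IsLocalRing.closedPoint A := by
        refine Eq.trans ?_ hx
        exact congrArg V.hom hζ
      rw [h1]
      refine ⟨IsLocalRing.closedPoint _, ?_⟩
      exact IsLocalRing.comap_closedPoint (IsLocalRing.residue A)
    obtain ⟨η, hη⟩ := Etcore.OpenClosed.exists_lift_closedImmersion i ξ hξ
    have h2 : IsZero ((EtCoh.stalk ξ).obj K) := by
      rw [← hη]
      refine IsZero.of_iso ?_ ((Etbase.StalkPull.stalkPullIso i η).app K)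
      exact (EtCoh.stalk η).map_isZero hK
    have h3 := AddCommGrpCat.subsingleton_of_isZero h2
    let v : (Scheme.pointSmallEtale ξ).fiber.obj V := Over.homMk ζ rfl
    obtain ⟨W, g, w, hw, hg⟩ := (germ_eq_iff ξ K v s 0).1 (Subsingleton.elim _ _)
    let w' : Spec (.of Ω) ⟶ W.left := w.left
    have hw' : w' ≫ g.left = ζ := congrArg (fun t => t.left) hw
    refine ⟨W, g, w' default, ?_, ?_⟩
    · exact (congrArg (fun t : Spec (.of Ω) ⟶ V.left => t default) hw').trans hζ
    · rw [hg, map_zero])
  refine Etbase.EtSite.sect_eq_zero K V s (fun x => ?_)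
  obtain ⟨W, g, w, hw, hg⟩ : x ∈ O := hO'.ge trivial
  exact ⟨W, g, w, hw, hg⟩

end Groth.Agent.Sga4A.HensClosed
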