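import Mathlib.RingTheory.Etale.Basic
import Mathlib.RingTheory.Idempotents
import Mathlib.RingTheory.TensorProduct.Free
import Mathlib.LinearAlgebra.TensorProduct.RightExactness
import Mathlib.RingTheory.AdjoinRoot
import Mathlib.RingTheory.Spectrum.Prime.Topology
import Mathlib.RingTheory.Artinian.Ring
import Mathlib.RingTheory.HopkinsLevitzki
import Mathlib.RingTheory.Spectrum.Prime.Jacobson

/-!
# Lifting idempotents from a fibre of an integral algebra

* `IdemAlg R b`: the étale `R`-algebra representing idempotents of a finite free `R`-algebra `P` with basis `b`.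
* `exists_etale_isIdempotentElem`: for `B` integral over `R`, `K` a field over `R`, and an idempotent
  `e` of `K ⊗[R] B`, there are an étale `R`-algebra `R'`, an `R`-algebra map `φ : R' → K` and an idempotent
  of `R' ⊗[R] B` mapping to `e`.
-/

set_option autoImplicit false

universe w v u u'

open TensorProduct

namespace Groth.Agent.Sga4A.IdemAlg

section Rel

variable (R : Type u) [CommRing R] {P : Type v} [CommRing P] [Algebra R P] {ι : Type w} [Fintype ι]
  (b : Module.Basis ι R P)

/-- The equations of idempotents in the basis `b`. -/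
noncomputable def rel (k : ι) : MvPolynomial ι R :=
  (∑ i, ∑ j, MvPolynomial.C (b.repr (b i * b j) k) * (MvPolynomial.X i * MvPolynomial.X j)) -
    MvPolynomial.X k

/-- The algebra representing idempotents. -/
abbrev Alg : Type (max u w) := MvPolynomial ι R ⧸ Ideal.span (Set.range (rel R b))

variable {R} {A : Type u'} [CommRing A] [Algebra R A]

/-- the element of `A ⊗ P` with coordinates `y` -/
noncomputable def elt (y : ι → A) : A ⊗[R] P := ∑ i, y i ⊗ₜ[R] b i

lemma elt_eq (y : ι → A) : elt b y = (Algebra.TensorProduct.basis A b).equivFun.symm y := by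
  rw [Module.Basis.equivFun_symm_apply]
  simp only [elt, Algebra.TensorProduct.basis_repr_symm_apply']

lemma elt_injective : Function.Injective (elt (A := A) b) := by
  intro y z h
  rw [elt_eq, elt_eq] at h
  exact (Algebra.TensorProduct.basis A b).equivFun.symm.injective h

lemma exists_elt (x : A ⊗[R] P) : ∃ y, elt b y = x :=
  ⟨(Algebra.TensorProduct.basis A b).equivFun x, by rw [elt_eq, LinearEquiv.symm_apply_apply]⟩

lemma elt_mul_self (y : ι → A) :
    elt b y * elt b y = elt b (fun k => ∑ i, ∑ j, algebraMap R A (b.repr (b i * b j) k) * (y i * y j)) := by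
  have h : ∀ i j, b i * b j = ∑ k, b.repr (b i * b j) k • b k := fun i j =>
    (b.sum_repr (b i * b j)).symm
  unfold elt
  rw [Finset.sum_mul_sum]
  simp only [Algebra.TensorProduct.tmul_mul_tmul]
  calc ∑ i, ∑ j, (y i * y j) ⊗ₜ[R] (b i * b j)
      = ∑ i, ∑ j, ∑ k, (algebraMap R A (b.repr (b i * b j) k) * (y i * y j)) ⊗ₜ[R] b k := by
        refine Finset.sum_congr rfl fun i _ => Finset.sum_congr rfl fun j _ => ?_
        conv_lhs => rw [h i j]
        rw [TensorProduct.tmul_sum]
        refine Finset.sum_congr rfl fun k _ => ?_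
        rw [TensorProduct.tmul_smul, ← Algebra.smul_def, TensorProduct.smul_tmul']
    _ = _ := by
        simp only [TensorProduct.sum_tmul]
        rw [Finset.sum_congr rfl (fun i _ => Finset.sum_comm)]
        exact Finset.sum_comm

/-- `elt b y` is idempotent iff `y` satisfies the equations. -/
lemma isIdempotentElem_elt_iff (y : ι → A) :
    IsIdempotentElem (elt (R := R) b y) ↔ ∀ k, MvPolynomial.aeval y (rel R b k) = 0 := by
  rw [IsIdempotentElem, elt_mul_self, (elt_injective b).eq_iff, funext_iff]
  refine forall_congr' fun k => ?_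
  simp [rel, sub_eq_zero]

/-- The algebra map `Alg R b → A` given by an idempotent. -/
noncomputable def lift (y : ι → A) (hy : IsIdempotentElem (elt (R := R) b y)) : Alg R b →ₐ[R] A :=
  Ideal.Quotient.liftₐ _ (MvPolynomial.aeval y) (by
    intro a ha
    have h : Ideal.span (Set.range (rel R b)) ≤ RingHom.ker (MvPolynomial.aeval (R := R) y) := by
      rw [Ideal.span_le]
      rintro _ ⟨k, rfl⟩
      exact (isIdempotentElem_elt_iff b y).1 hy k
    exact h ha)

@[simp]
lemma lift_mk_X (y : ι → A) (hy : IsIdempotentElem (elt (R := R) b y)) (k : ι) :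
    lift b y hy (Ideal.Quotient.mk _ (MvPolynomial.X k)) = y k := by
  change MvPolynomial.aeval y (MvPolynomial.X k : MvPolynomial ι R) = y k
  simp

/-- The coordinates of the universal idempotent. -/
noncomputable def univ (k : ι) : Alg R b := Ideal.Quotient.mk _ (MvPolynomial.X k)

lemma algHom_ext {f g : Alg R b →ₐ[R] A} (h : ∀ k, f (univ b k) = g (univ b k)) : f = g := by
  apply Ideal.Quotient.algHom_ext
  apply MvPolynomial.algHom_ext
  exact h

lemma map_elt {A' : Type*} [CommRing A'] [Algebra R A'] (f : A →ₐ[R] A') (y : ι → A) :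
    Algebra.TensorProduct.map f (AlgHom.id R P) (elt b y) = elt b (fun k => f (y k)) := by
  simp [elt]

lemma isIdempotentElem_univ : IsIdempotentElem (elt (R := R) b (univ b)) := by
  rw [isIdempotentElem_elt_iff]
  intro k
  have h : MvPolynomial.aeval (univ b) (rel R b k) = Ideal.Quotient.mkₐ R (Ideal.span (Set.range (rel R b))) (rel R b k) := by
    congr 1
    apply MvPolynomial.algHom_ext
    intro i
    simp [univ]
  rw [h]
  exact Ideal.Quotient.eq_zero_iff_mem.2 (Ideal.subset_span ⟨k, rfl⟩)

lemma isIdempotentElem_of_algHom (f : Alg R b →ₐ[R] A) :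
    IsIdempotentElem (elt (R := R) b (fun k => f (univ b k))) := by
  rw [← map_elt]
  exact (isIdempotentElem_univ b).map _

instance : Algebra.FormallyEtale R (Alg R b) := by
  rw [Algebra.FormallyEtale.iff_comp_bijective]
  intro A _ _ I hI
  let q : A ⊗[R] P →ₐ[R] (A ⧸ I) ⊗[R] P :=
    Algebra.TensorProduct.map (Ideal.Quotient.mkₐ R I) (AlgHom.id R P)
  have hq : Function.Surjective q :=
    TensorProduct.map_surjective (Ideal.Quotient.mkₐ_surjective R I) Function.surjective_id
  have hker : ∀ x ∈ RingHom.ker (q : A ⊗[R] P →+* (A ⧸ I) ⊗[R] P), IsNilpotent x := by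
    intro x hx
    have h₁ : RingHom.ker q = I.map (Algebra.TensorProduct.includeLeft : A →ₐ[R] A ⊗[R] P) := by
      have := Algebra.TensorProduct.rTensor_ker (R := R) (S := R) (C := P) (Ideal.Quotient.mkₐ R I)
        (Ideal.Quotient.mkₐ_surjective R I)
      have hk : RingHom.ker (Ideal.Quotient.mkₐ R I) = I := Ideal.Quotient.mkₐ_ker R I
      rw [hk] at this
      exact this
    have h₂ : x ∈ I.map (Algebra.TensorProduct.includeLeft : A →ₐ[R] A ⊗[R] P) := by
      rw [← h₁]; exact hx
    refine ⟨2, ?_⟩
    have h₃ : x ^ 2 ∈ (I.map (Algebra.TensorProduct.includeLeft : A →ₐ[R] A ⊗[R] P)) ^ 2 :=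
      Ideal.pow_mem_pow h₂ 2
    rw [← Ideal.map_pow, hI, Ideal.map_bot] at h₃
    exact h₃
  constructor
  · intro f g hfg
    apply algHom_ext
    have h₁ : elt (R := R) b (fun k => f (univ b k)) = elt b (fun k => g (univ b k)) := by
      refine (existsUnique_isIdempotentElem_eq_of_ker_isNilpotent
        (q : A ⊗[R] P →+* (A ⧸ I) ⊗[R] P) hker
        (q (elt b (fun k => g (univ b k)))) ⟨_, rfl⟩ ?_).unique ⟨?_, ?_⟩ ⟨?_, rfl⟩
      · exact (isIdempotentElem_of_algHom b g).map q
      · exact isIdempotentElem_of_algHom b f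
      · change q _ = q _
        simp only [q, map_elt]
        congr 1
        ext k
        exact DFunLike.congr_fun hfg (univ b k)
      · exact isIdempotentElem_of_algHom b g
    intro k
    exact congrFun (elt_injective b h₁) k
  · intro g
    obtain ⟨e, ⟨he₁, he₂⟩, -⟩ := existsUnique_isIdempotentElem_eq_of_ker_isNilpotent
      (q : A ⊗[R] P →+* (A ⧸ I) ⊗[R] P) hker _ (by
        obtain ⟨y, hy⟩ := hq (elt b (fun k => g (univ b k)))
        exact ⟨y, hy⟩) (isIdempotentElem_of_algHom b g)
    obtain ⟨y, rfl⟩ := exists_elt (R := R) b e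
    refine ⟨lift b y he₁, ?_⟩
    apply algHom_ext
    intro k
    have h₁ : (q : A ⊗[R] P →+* (A ⧸ I) ⊗[R] P) (elt b y) = elt b (fun k => Ideal.Quotient.mkₐ R I (y k)) :=
      map_elt b _ _
    rw [h₁] at he₂
    have := congrFun (elt_injective b he₂) k
    change Ideal.Quotient.mkₐ R I (lift b y he₁ (Ideal.Quotient.mk _ (MvPolynomial.X k))) = _
    rw [lift_mk_X]
    exact this

instance : Algebra.FinitePresentation R (Alg R b) :=
  Algebra.FinitePresentation.quotient (Submodule.fg_span (Set.finite_range _))

instance : Algebra.Etale R (Alg R b) where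

end Rel

section Lift

variable (R : Type u) [CommRing R]

/-- Finitely many elements of an integral algebra lie in the image of a finite free algebra. -/
lemma exists_finiteFree {B : Type v} [CommRing B] [Algebra R B] [Algebra.IsIntegral R B]
    (s : Finset B) : ∃ (P : Type u) (_ : CommRing P) (_ : Algebra R P) (_ : Module.Finite R P)
      (_ : Module.Free R P) (f : P →ₐ[R] B), (s : Set B) ⊆ Set.range f := by
  classical
  induction s using Finset.induction_on with
  | empty => exact ⟨R, inferInstance, inferInstance, inferInstance, inferInstance, Algebra.ofId R B, by simp⟩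
  | insert b s hb ih =>
    obtain ⟨P, _, _, _, _, f, hf⟩ := ih
    obtain ⟨p, hp, hpb⟩ := Algebra.IsIntegral.isIntegral (R := R) b
    have := hp.finite_adjoinRoot
    have := hp.free_adjoinRoot
    let g : AdjoinRoot p →ₐ[R] B := AdjoinRoot.liftAlgHom p (Algebra.ofId R B) b hpb
    refine ⟨P ⊗[R] AdjoinRoot p, inferInstance, inferInstance, inferInstance, inferInstance,
      Algebra.TensorProduct.productMap f g, ?_⟩
    intro x hx
    rw [Finset.coe_insert, Set.mem_insert_iff] at hx
    rcases hx with rfl | hx
    · refine ⟨1 ⊗ₜ AdjoinRoot.root p, ?_⟩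
      rw [Algebra.TensorProduct.productMap_apply_tmul, map_one, one_mul]
      exact AdjoinRoot.lift_root hpb
    · obtain ⟨y, rfl⟩ := hf hx
      exact ⟨y ⊗ₜ 1, by simp⟩

/-- If `A` is artinian, idempotents in the image of a ring map `A → C` lift to idempotents of `A`. -/
lemma exists_isIdempotentElem_of_isArtinianRing {A C : Type*} [CommRing A] [IsArtinianRing A] [CommRing C]
    (ψ : A →+* C) (x : A) (hx : IsIdempotentElem (ψ x)) : ∃ y : A, IsIdempotentElem y ∧ ψ y = ψ x := by
  let Z : TopologicalSpace.Clopens (PrimeSpectrum A) :=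
    ⟨PrimeSpectrum.basicOpen x, isClopen_discrete _⟩
  let y := PrimeSpectrum.isIdempotentElemEquivClopens.symm Z
  have hy : PrimeSpectrum.basicOpen (y.1 : A) = PrimeSpectrum.basicOpen x :=
    PrimeSpectrum.basicOpen_isIdempotentElemEquivClopens_symm Z
  refine ⟨y.1, y.2, ?_⟩
  have h : (⟨ψ y.1, y.2.map ψ⟩ : {e : C | IsIdempotentElem e}) = ⟨ψ x, hx⟩ := by
    apply PrimeSpectrum.isIdempotentElemEquivClopens.injective
    apply SetLike.coe_injective
    rw [PrimeSpectrum.coe_isIdempotentElemEquivClopens_apply,
      PrimeSpectrum.coe_isIdempotentElemEquivClopens_apply]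
    have h₁ : PrimeSpectrum.basicOpen (ψ y.1) = PrimeSpectrum.basicOpen (ψ x) := by
      rw [← PrimeSpectrum.comap_basicOpen, ← PrimeSpectrum.comap_basicOpen, hy]
    exact congrArg _ h₁
  exact congrArg Subtype.val h

/-- **Lifting idempotents from a fibre of an integral algebra**: if `B` is integral over `R`, `K` is a field over
`R` and `e` is an idempotent of `K ⊗[R] B`, there are an étale `R`-algebra `R'`, an `R`-algebra map `φ : R' → K` and
an idempotent of `R' ⊗[R] B` mapping to `e`. -/
theorem exists_etale_isIdempotentElem {B : Type v} [CommRing B] [Algebra R B] [Algebra.IsIntegral R B]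
    {K : Type w} [Field K] [Algebra R K] (e : K ⊗[R] B) (he : IsIdempotentElem e) :
    ∃ (R' : Type u) (_ : CommRing R') (_ : Algebra R R') (_ : Algebra.Etale R R') (φ : R' →ₐ[R] K)
      (e' : R' ⊗[R] B), IsIdempotentElem e' ∧ Algebra.TensorProduct.map φ (AlgHom.id R B) e' = e := by
  classical
  obtain ⟨S, hS⟩ := TensorProduct.exists_finset e
  obtain ⟨P, _, _, _, _, f, hf⟩ := exists_finiteFree R (S.image Prod.snd)
  have hx : ∃ x : K ⊗[R] P, Algebra.TensorProduct.map (AlgHom.id R K) f x = e := by
    have h : ∀ i ∈ S, ∃ q : P, f q = i.2 := fun i hi => hf (by simpa using ⟨i.1, hi⟩)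
    choose! q hq using h
    refine ⟨∑ i ∈ S, i.1 ⊗ₜ q i, ?_⟩
    rw [map_sum, hS]
    refine Finset.sum_congr rfl fun i hi => ?_
    simp [hq i hi]
  obtain ⟨x, hx⟩ := hx
  have : IsArtinianRing (K ⊗[R] P) := IsArtinianRing.of_finite K (K ⊗[R] P)
  obtain ⟨y, hy, hyx⟩ := exists_isIdempotentElem_of_isArtinianRing
    (Algebra.TensorProduct.map (AlgHom.id R K) f : K ⊗[R] P →+* K ⊗[R] B) x (by
      change IsIdempotentElem (Algebra.TensorProduct.map (AlgHom.id R K) f x)
      rw [hx]; exact he)
  replace hyx : Algebra.TensorProduct.map (AlgHom.id R K) f y = e := hyx.trans hx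
  let b := Module.Free.chooseBasis R P
  obtain ⟨c, rfl⟩ := exists_elt (R := R) b y
  refine ⟨Alg R b, inferInstance, inferInstance, inferInstance, lift b c hy,
    Algebra.TensorProduct.map (AlgHom.id R _) f (elt b (univ b)), (isIdempotentElem_univ b).map _, ?_⟩
  rw [← hyx]
  have h : (Algebra.TensorProduct.map (lift b c hy) (AlgHom.id R B)).comp
      (Algebra.TensorProduct.map (AlgHom.id R _) f) =
      (Algebra.TensorProduct.map (AlgHom.id R K) f).comp
        (Algebra.TensorProduct.map (lift b c hy) (AlgHom.id R P)) := by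
    ext <;> simp
  have h' := DFunLike.congr_fun h (elt b (univ b))
  simp only [AlgHom.comp_apply] at h'
  rw [h', map_elt]
  congr 2
  ext k
  exact lift_mk_X b c hy k

end Lift

end Groth.Agent.Sga4A.IdemAlg
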