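import Groth.Prelude.Def_ProEtW
import Groth.Prelude.Def_PBC
import Mathlib.CategoryTheory.MorphismProperty.Ind
import Mathlib.CategoryTheory.ObjectProperty.FiniteProducts
import Mathlib.CategoryTheory.Limits.Constructions.Filtered
import Mathlib.CategoryTheory.Limits.Constructions.Over.Products
import Mathlib.Algebra.Category.Ring.FinitePresentation
import Mathlib.Algebra.Category.Ring.Under.Basic
import Mathlib.RingTheory.RingHom.FaithfullyFlat
import Mathlib.RingTheory.RingHom.Etale

/-!
# Tensor product of all faithfully flat etale algebras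
-/

set_option autoImplicit false
open CategoryTheory CategoryTheory.Limits
universe u

namespace Groth.Agent.Sga4A.IndEtCover

/-- Faithfully flat etale ring maps. -/
def EFF : MorphismProperty CommRingCat.{u} := fun _ _ f => f.hom.Etale ∧ f.hom.FaithfullyFlat

instance : EFF.{u}.IsStableUnderComposition where
  comp_mem _ _ hf hg := ⟨RingHom.Etale.stableUnderComposition _ _ hf.1 hg.1,
    RingHom.FaithfullyFlat.stableUnderComposition _ _ hf.2 hg.2⟩

instance : EFF.{u}.ContainsIdentities where
  id_mem _ := ⟨RingHom.Etale.of_bijective Function.bijective_id,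
    RingHom.FaithfullyFlat.of_bijective Function.bijective_id⟩

instance : EFF.{u}.IsMultiplicative where

theorem eff_of_isIso {X Y : CommRingCat.{u}} (f : X ⟶ Y) [IsIso f] : EFF f :=
  ⟨RingHom.Etale.of_bijective (ConcreteCategory.bijective_of_isIso f),
    RingHom.FaithfullyFlat.of_bijective (ConcreteCategory.bijective_of_isIso f)⟩

instance : EFF.{u}.RespectsIso :=
  MorphismProperty.respectsIso_of_isStableUnderComposition (fun _ _ f hf => by
    have : IsIso f := hf
    exact eff_of_isIso f)

instance : EFF.{u}.IsStableUnderCobaseChange where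
  of_isPushout {A A' B B' f g f' g'} sq hf := by
    constructor
    · have := RingHom.isStableUnderCobaseChange_toMorphismProperty_iff.2
        RingHom.Etale.isStableUnderBaseChange
      exact this.of_isPushout sq hf.1
    · have := RingHom.isStableUnderCobaseChange_toMorphismProperty_iff.2
        RingHom.FaithfullyFlat.isStableUnderBaseChange
      exact this.of_isPushout sq hf.2

/-- The right component of a binary coproduct in `Under A` is a pushout. -/
theorem eff_of_isColimit_binaryCofan {A : CommRingCat.{u}} {Y Z : Under A} (c : BinaryCofan Y Z)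
    (hc : IsColimit c) (hY : EFF Y.hom) (hZ : EFF Z.hom) : EFF c.pt.hom := by
  have h := IsPushout.of_isColimit
    (IsColimit.pushoutCoconeEquivBinaryCofanInverse (f := Y.hom) (g := Z.hom) (c := c) hc)
  have h2 : EFF (c.inl : Y ⟶ c.pt).right := EFF.of_isPushout h hZ
  have h3 : c.pt.hom = Y.hom ≫ (c.inl : Y ⟶ c.pt).right := (Under.w (c.inl : Y ⟶ c.pt)).symm
  rw [h3]
  exact EFF.comp_mem _ _ hY h2

theorem closed_finite (A : CommRingCat.{u}) :
    (EFF.{u}.underObj (X := A)).IsClosedUnderFiniteCoproducts := by
  have h1 : (EFF.{u}.underObj (X := A)).IsClosedUnderColimitsOfShape (Discrete.{0} PEmpty) :=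
    inferInstance
  have h2 : (EFF.{u}.underObj (X := A)).IsClosedUnderBinaryCoproducts := by
    apply ObjectProperty.IsClosedUnderColimitsOfShape.mk'
    rintro X ⟨F, hF⟩
    let c : BinaryCofan (F.obj ⟨WalkingPair.left⟩) (F.obj ⟨WalkingPair.right⟩) :=
      (Cocone.precompose (diagramIsoPair F).inv).obj (colimit.cocone F)
    have hc : IsColimit c :=
      (IsColimit.precomposeInvEquiv (diagramIsoPair F) (colimit.cocone F)).symm
        (colimit.isColimit F)
    exact eff_of_isColimit_binaryCofan c hc (hF _) (hF _)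
  exact ObjectProperty.IsClosedUnderFiniteCoproducts.mk'

/-- A small set of representatives for the faithfully flat etale algebras over `A`. -/
def Idx (A : CommRingCat.{u}) : Type u :=
  {p : Σ n : ℕ, Ideal (MvPolynomial (Fin n) A) //
    EFF (CommRingCat.ofHom (algebraMap A (MvPolynomial (Fin p.1) A ⧸ p.2)))}

/-- The faithfully flat etale algebra attached to an index. -/
noncomputable def IdxAlg (A : CommRingCat.{u}) (p : Idx A) : Under A :=
  Under.mk (CommRingCat.ofHom (algebraMap A (MvPolynomial (Fin p.1.1) A ⧸ p.1.2)))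

theorem exists_idx {A : CommRingCat.{u}} (B : Under A) (hB : EFF B.hom) :
    ∃ p : Idx A, Nonempty (B ≅ IdxAlg A p) := by
  let _ := B.hom.hom.toAlgebra
  have h1 : Algebra.Etale A B.right := hB.1
  have h2 : Algebra.FiniteType A B.right := inferInstance
  obtain ⟨n, f, hf⟩ := Algebra.FiniteType.iff_quotient_mvPolynomial''.1 h2
  let e : (MvPolynomial (Fin n) A ⧸ RingHom.ker f) ≃ₐ[A] B.right :=
    Ideal.quotientKerAlgEquivOfSurjective hf
  let e' : B ≅ Under.mk (CommRingCat.ofHom (algebraMap A (MvPolynomial (Fin n) A ⧸ RingHom.ker f))) :=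
    Under.isoMk (RingEquiv.toCommRingCatIso e.symm.toRingEquiv) (by
      ext x
      exact e.symm.commutes x)
  have he : EFF.{u} (CommRingCat.ofHom (algebraMap A (MvPolynomial (Fin n) A ⧸ RingHom.ker f))) := by
    have := (EFF.{u}.underObj (X := A)).prop_of_iso e' hB
    exact this
  exact ⟨⟨⟨n, RingHom.ker f⟩, he⟩, ⟨e'⟩⟩

theorem exists_weaklyTerminal (A : CommRingCat.{u}) :
    ∃ T : Under A, ObjectProperty.ind.{u} (EFF.{u}.underObj (X := A)) T ∧
      ∀ B : Under A, EFF B.hom → Nonempty (B ⟶ T) := by
  classical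
  let F : Discrete (Idx A) ⥤ Under A := Discrete.functor (IdxAlg A)
  have hfin := closed_finite A
  refine ⟨colimit (CoproductsFromFiniteFiltered.liftToFinsetObj F), ?_, ?_⟩
  · refine ⟨Finset (Discrete (Idx A)), inferInstance, inferInstance,
      ⟨CoproductsFromFiniteFiltered.liftToFinsetObj F, (colimit.cocone _).ι,
        colimit.isColimit _⟩, ?_⟩
    intro s
    change (EFF.{u}.underObj (X := A)) (∐ fun x : s => F.obj x)
    apply ObjectProperty.prop_coproduct
    rintro ⟨⟨x⟩, hx⟩
    exact x.2
  · intro B hB
    obtain ⟨p, ⟨e⟩⟩ := exists_idx B hB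
    exact ⟨e.hom ≫ (CoproductsFromFiniteFiltered.liftToFinsetColimitCocone F).cocone.ι.app ⟨p⟩⟩

end Groth.Agent.Sga4A.IndEtCover
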