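import Groth.Agent.Sga4A.IdemAlg
import Mathlib.AlgebraicGeometry.ZariskisMainTheorem
import Mathlib.AlgebraicGeometry.Morphisms.Etale
import Mathlib.AlgebraicGeometry.Morphisms.Integral
import Mathlib.AlgebraicGeometry.ResidueField

/-!
# Lifting clopens and étale sections from a geometric fibre of an integral morphism

* `exists_etale_clopen`: for `f : Y ⟶ X` integral and `x : Spec K ⟶ X`, every clopen of `Spec K ×_X Y` comes from a
  clopen of `U ×_X Y` for some étale `U ⟶ X` with a lift of `x`.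
* `exists_etale_lift`: for `h : V ⟶ Y` étale, quasi-compact and separated, every section of `h` over `Spec K ×_X Y`
  extends to `U ×_X Y` for some étale `U ⟶ X` with a lift of `x`.
-/

set_option autoImplicit false

universe u

open TensorProduct CategoryTheory CategoryTheory.Limits AlgebraicGeometry

namespace Groth.Agent.Sga4A.IntLift

lemma exists_etale_clopen_affine {R B : Type u} [CommRing R] [CommRing B] [Algebra R B]
    [Algebra.IsIntegral R B] {K : Type u} [Field K] [Algebra R K]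
    (Z : Set (PrimeSpectrum (K ⊗[R] B))) (hZ : IsClopen Z) :
    ∃ (R' : Type u) (_ : CommRing R') (_ : Algebra R R') (_ : Algebra.Etale R R') (φ : R' →ₐ[R] K)
      (Z' : Set (PrimeSpectrum (R' ⊗[R] B))), IsClopen Z' ∧
        PrimeSpectrum.comap (Algebra.TensorProduct.map φ (AlgHom.id R B)).toRingHom ⁻¹' Z' = Z := by
  let e := PrimeSpectrum.isIdempotentElemEquivClopens.symm ⟨Z, hZ⟩
  obtain ⟨R', _, _, _, φ, e', he', hee'⟩ := IdemAlg.exists_etale_isIdempotentElem R e.1 e.2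
  refine ⟨R', inferInstance, inferInstance, inferInstance, φ, PrimeSpectrum.basicOpen e',
    (PrimeSpectrum.isIdempotentElemEquivClopens ⟨e', he'⟩).2, ?_⟩
  have h₁ : (PrimeSpectrum.basicOpen e.1 : Set (PrimeSpectrum (K ⊗[R] B))) = Z := by
    have := PrimeSpectrum.basicOpen_isIdempotentElemEquivClopens_symm (⟨Z, hZ⟩ : TopologicalSpace.Clopens _)
    exact congrArg (fun t : TopologicalSpace.Opens (PrimeSpectrum (K ⊗[R] B)) => t.carrier) this
  rw [← h₁, ← hee']
  rfl

lemma hom_inv_apply' {X Y : Scheme.{u}} (e : X ≅ Y) (z : X) : e.inv (e.hom z) = z := by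
  rw [← Scheme.Hom.comp_apply, e.hom_inv_id]; rfl

theorem exists_etale_clopen_aux {X Y : Scheme.{u}} (f : Y ⟶ X) [IsIntegralHom f] {K : Type u} [Field K]
    (x : Spec (.of K) ⟶ X) {P : Scheme.{u}} {a : P ⟶ Spec (.of K)} {b : P ⟶ Y} (hP : IsPullback a b x f)
    (Z : Set P) (hZ : IsClopen Z) :
    ∃ (U : Scheme.{u}) (_ : IsAffine U) (g : U ⟶ X) (_ : Etale g) (x' : Spec (.of K) ⟶ U) (_ : x' ≫ g = x)
      (Q : Scheme.{u}) (c : Q ⟶ U) (d : Q ⟶ Y) (_ : IsPullback c d g f) (m : P ⟶ Q)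
      (_ : m ≫ c = a ≫ x') (_ : m ≫ d = b) (Z' : Set Q), IsClopen Z' ∧ m ⁻¹' Z' = Z := by
  -- an affine open neighbourhood of the image of `x`
  obtain ⟨R, j, _, x₀, hx₀⟩ : ∃ (R : CommRingCat.{u}) (j : Spec R ⟶ X) (_ : IsOpenImmersion j)
      (x₀ : Spec (.of K) ⟶ Spec R), x₀ ≫ j = x := by
    obtain ⟨R, j, _, hj, _⟩ := AlgebraicGeometry.Scheme.exists_affine_mem_range_and_range_subset
      (x := x.base default) (U := ⊤) (by simp)
    refine ⟨R, j, inferInstance, _, IsOpenImmersion.lift_fac j x ?_⟩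
    rintro _ ⟨a, rfl⟩
    rwa [Subsingleton.elim a default]
  subst hx₀
  -- the restriction of `f` over it
  let W := pullback f j
  have : IsAffine W := isAffine_of_isAffineHom (pullback.snd f j)
  let f₁ : Spec Γ(W, ⊤) ⟶ Spec R := W.isoSpec.inv ≫ pullback.snd f j
  let j₁ : Spec Γ(W, ⊤) ⟶ Y := W.isoSpec.inv ≫ pullback.fst f j
  have hW : IsPullback j₁ f₁ f j := by
    refine IsPullback.of_iso (IsPullback.of_hasPullback f j) W.isoSpec (Iso.refl _) (Iso.refl _) (Iso.refl _)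
      ?_ ?_ ?_ ?_ <;> simp [f₁, j₁, W]
  have : IsIntegralHom f₁ := inferInstance
  obtain ⟨ψ, hψ⟩ := Spec.map_surjective f₁
  obtain ⟨ξ, hξ⟩ := Spec.map_surjective x₀
  clear_value f₁
  subst hψ hξ
  rw [IsIntegralHom.SpecMap_iff] at this
  let B : Type u := Γ(W, ⊤)
  algebraize [ψ.hom, ξ.hom]
  have hψ : CommRingCat.ofHom (algebraMap R B) = ψ := rfl
  have hξ : CommRingCat.ofHom (algebraMap R K) = ξ := rfl
  -- `P` as a pullback over `Spec R`
  have hb : b ≫ f = (a ≫ Spec.map ξ) ≫ j := by rw [← hP.w, Category.assoc]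
  let b₁ : P ⟶ Spec (.of B) := hW.lift b (a ≫ Spec.map ξ) hb
  have hb₁ : b₁ ≫ j₁ = b := hW.lift_fst _ _ _
  have hb₂ : b₁ ≫ Spec.map ψ = a ≫ Spec.map ξ := hW.lift_snd _ _ _
  have hP₁ : IsPullback b₁ a (Spec.map ψ) (Spec.map ξ) :=
    IsPullback.of_right (by rw [hb₁]; exact hP.flip) hb₂ hW
  have hP₀ := isPullback_SpecMap_of_isPushout _ _ _ _ (CommRingCat.isPushout_tensorProduct R K B)
  let e : P ≅ Spec (.of (K ⊗[R] B)) := hP₁.flip.isoIsPullback _ _ hP₀
  obtain ⟨R', _, _, _, φ, Z', hZ', hZZ'⟩ := exists_etale_clopen_affine (R := R) (B := B) (K := K)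
    (e.inv ⁻¹' Z) (hZ.preimage e.inv.continuous)
  have hQ₀ := isPullback_SpecMap_of_isPushout _ _ _ _ (CommRingCat.isPushout_tensorProduct R R' B)
  have hQ : IsPullback _ _ _ _ := hQ₀.flip.paste_horiz hW
  have hg : Etale (Spec.map (CommRingCat.ofHom (algebraMap R R'))) :=
    HasRingHomProperty.Spec_iff.mpr (RingHom.etale_algebraMap.mpr ‹_›)
  have he₁ : e.hom ≫ Spec.map (CommRingCat.ofHom
      (Algebra.TensorProduct.includeLeftRingHom : K →+* K ⊗[R] B)) = a :=
    IsPullback.isoIsPullback_hom_fst _ _ _ _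
  have he₂ : e.hom ≫ Spec.map (CommRingCat.ofHom
      (Algebra.TensorProduct.includeRight : B →ₐ[R] K ⊗[R] B).toRingHom) = b₁ :=
    IsPullback.isoIsPullback_hom_snd _ _ _ _
  refine ⟨Spec (.of R'), inferInstance, Spec.map (CommRingCat.ofHom (algebraMap R R')) ≫ j, inferInstance,
    Spec.map (CommRingCat.ofHom φ.toRingHom), ?_, Spec (.of (R' ⊗[R] B)), _, _, hQ.flip,
    e.hom ≫ Spec.map (CommRingCat.ofHom (Algebra.TensorProduct.map φ (AlgHom.id R B)).toRingHom), ?_, ?_, Z',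
    hZ', ?_⟩
  · rw [← Spec.map_comp_assoc, ← CommRingCat.ofHom_comp]
    congr 2
    rw [← hξ]
    congr 1
    exact φ.comp_algebraMap
  · rw [Category.assoc, ← Spec.map_comp, ← CommRingCat.ofHom_comp]
    have h : (Algebra.TensorProduct.map φ (AlgHom.id R B)).toRingHom.comp
        (Algebra.TensorProduct.includeLeftRingHom : R' →+* R' ⊗[R] B) =
        (Algebra.TensorProduct.includeLeftRingHom : K →+* K ⊗[R] B).comp φ.toRingHom := by
      ext r
      simp
    rw [h, CommRingCat.ofHom_comp, Spec.map_comp, ← Category.assoc, he₁]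
  · rw [Category.assoc, ← Category.assoc (Spec.map _), ← Spec.map_comp, ← CommRingCat.ofHom_comp]
    have h : (Algebra.TensorProduct.map φ (AlgHom.id R B)).toRingHom.comp
        (Algebra.TensorProduct.includeRight : B →ₐ[R] R' ⊗[R] B).toRingHom =
        (Algebra.TensorProduct.includeRight : B →ₐ[R] K ⊗[R] B).toRingHom := by
      ext r
      simp
    rw [h, ← Category.assoc, he₂, hb₁]
  · ext z
    have h₁ : e.hom z ∈ e.inv ⁻¹' Z ↔ z ∈ Z := by rw [Set.mem_preimage, hom_inv_apply']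
    exact (Set.ext_iff.1 hZZ' (e.hom z)).trans h₁

/-- **Clopens of a fibre of an integral morphism extend étale-locally on the base.** -/
theorem exists_etale_clopen {X Y : Scheme.{u}} (f : Y ⟶ X) [IsIntegralHom f] {K : Type u} [Field K]
    (x : Spec (.of K) ⟶ X) (Z : Set ↥(pullback x f)) (hZ : IsClopen Z) :
    ∃ (U : Scheme.{u}) (_ : IsAffine U) (g : U ⟶ X) (_ : Etale g) (x' : Spec (.of K) ⟶ U) (hx' : x' ≫ g = x)
      (Z' : Set ↥(pullback g f)), IsClopen Z' ∧
        (pullback.map x f g f x' (𝟙 Y) (𝟙 X) (by simp [hx']) (by simp)) ⁻¹' Z' = Z := by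
  obtain ⟨U, _, g, _, x', hx', Q, c, d, hQ, m, hm₁, hm₂, Z', hZ', hZ'Z⟩ :=
    exists_etale_clopen_aux f x (IsPullback.of_hasPullback x f) Z hZ
  let e : Q ≅ pullback g f := hQ.isoPullback
  have h : m ≫ e.hom = pullback.map x f g f x' (𝟙 Y) (𝟙 X) (by simp [hx']) (by simp) := by
    ext1
    · simpa [e, hm₁] using! (pullback.lift_fst _ _ _).symm
    · simpa [e, hm₂] using! (pullback.lift_snd _ _ _).symm
  refine ⟨U, inferInstance, g, inferInstance, x', hx', e.inv ⁻¹' Z', hZ'.preimage e.inv.continuous, ?_⟩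
  rw [← h, ← hZ'Z]
  ext z
  rw [Set.mem_preimage, Set.mem_preimage, Set.mem_preimage, Scheme.Hom.comp_apply, hom_inv_apply']

end Groth.Agent.Sga4A.IntLift
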