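import Groth.Agent.Etbase.ZarDense
import Groth.Agent.Etbase.ZeroDim
import Mathlib.FieldTheory.PurelyInseparable.Basic
import Mathlib.AlgebraicGeometry.Morphisms.Integral

/-!
# Schemes integral over a separably closed field: étale morphisms have sections over clopens
-/

set_option autoImplicit false

universe u

open CategoryTheory CategoryTheory.Limits AlgebraicGeometry

namespace Groth.Agent.Sga4A.IntSplit

section Top

variable {Ω : Type u} [Field Ω] {P : Scheme.{u}} (q : P ⟶ Spec (.of Ω)) [IsIntegralHom q]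

/-- The structure map of global sections. -/
noncomputable def str {Ω : Type u} [Field Ω] {P : Scheme.{u}} (q : P ⟶ Spec (.of Ω)) : Ω →+* Γ(P, ⊤) :=
  (q.appTop).hom.comp (Scheme.ΓSpecIso (.of Ω)).inv.hom

theorem isIntegral_str : (str q).IsIntegral := by
  apply RingHom.IsIntegral.trans
  · exact RingHom.isIntegral_of_surjective _
      (ConcreteCategory.bijective_of_isIso (Scheme.ΓSpecIso (.of Ω)).inv).2
  · exact IsIntegralHom.isIntegral_app q ⊤ (isAffineOpen_top _)

include q in
theorem krullDimLE_zero : Ring.KrullDimLE 0 Γ(P, ⊤) := by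
  refine Ring.KrullDimLE.mk₀ (fun I hI => ?_)
  refine Ideal.isMaximal_of_isIntegral_of_isMaximal_comap' (str q) (isIntegral_str q) I ?_
  have : (I.comap (str q)).IsPrime := inferInstance
  rw [(I.comap (str q)).eq_bot_of_prime]
  exact Ideal.bot_isMaximal

include q in
/-- A scheme which is integral over a field has a basis of clopens. -/
theorem exists_clopen_nhd {W : Set P} (hW : IsOpen W) {z : P} (hz : z ∈ W) :
    ∃ Z : P.Opens, IsClosed (Z : Set P) ∧ z ∈ Z ∧ (Z : Set P) ⊆ W := by
  have : IsAffine P := isAffine_of_isAffineHom q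
  have := krullDimLE_zero q
  let e : P ≃ₜ Spec Γ(P, ⊤) := Scheme.homeoOfIso P.isoSpec
  have hW' : IsOpen (e '' W) := e.isOpenMap _ hW
  obtain ⟨_, ⟨f, rfl⟩, hzf, hf⟩ :=
    (PrimeSpectrum.isTopologicalBasis_basic_opens (R := Γ(P, ⊤))).exists_subset_of_mem_open
      (show e z ∈ e '' W from ⟨z, hz, rfl⟩) hW'
  have h1 : IsClopen (PrimeSpectrum.basicOpen f : Set (PrimeSpectrum Γ(P, ⊤))) :=
    Etbase.ZeroDim.isClopen_basicOpen f
  refine ⟨⟨e ⁻¹' (PrimeSpectrum.basicOpen f : Set (PrimeSpectrum Γ(P, ⊤))),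
    h1.isOpen.preimage e.continuous⟩, h1.isClosed.preimage e.continuous, hzf, ?_⟩
  intro y hy
  obtain ⟨y', hy', h⟩ := hf hy
  rwa [← e.injective h]

include q in
theorem isClosed_singleton (z : P) : IsClosed ({z} : Set P) := by
  have : IsAffine P := isAffine_of_isAffineHom q
  have := krullDimLE_zero q
  let e : P ≃ₜ Spec Γ(P, ⊤) := Scheme.homeoOfIso P.isoSpec
  have h : IsClosed ({e z} : Set (Spec Γ(P, ⊤))) :=
    (PrimeSpectrum.isClosed_singleton_iff_isMaximal _).2 (Ring.krullDimLE_zero_iff.1 this _ (e z).2)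
  have h' := h.preimage e.continuous
  have : e ⁻¹' {e z} = {z} := by
    ext y
    simp
  rwa [this] at h'

end Top

section Field

variable {Ω : Type u} [Field Ω] [IsSepClosed Ω] {P : Scheme.{u}} (q : P ⟶ Spec (.of Ω)) [IsIntegralHom q]

include q in
theorem isStrictlyHenselianLocalRing_stalk (z : P) :
    EtCoh.IsStrictlyHenselianLocalRing (P.presheaf.stalk z) := by
  have : IsAffine P := isAffine_of_isAffineHom q
  have := Etbase.ZeroDim.krullDimLE_zero_stalk (isClosed_singleton q) z
  refine ⟨Etbase.ZeroDim.henselianLocalRing _, ?_⟩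
  let γ : Γ(P, ⊤) ⟶ P.presheaf.stalk z := P.presheaf.germ ⊤ z trivial
  let χ : Γ(P, ⊤) →+* IsLocalRing.ResidueField (P.presheaf.stalk z) :=
    (IsLocalRing.residue _).comp γ.hom
  let ψ : Ω →+* IsLocalRing.ResidueField (P.presheaf.stalk z) := χ.comp (str q)
  let _ := ψ.toAlgebra
  have hint : ∀ a, IsIntegral Ω (χ a) := by
    intro a
    obtain ⟨p, hp, hpa⟩ := isIntegral_str q a
    refine ⟨p, hp, ?_⟩
    change Polynomial.eval₂ (χ.comp (str q)) (χ a) p = 0
    rw [← Polynomial.hom_eval₂, hpa, map_zero]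
  have : Algebra.IsAlgebraic Ω (IsLocalRing.ResidueField (P.presheaf.stalk z)) := by
    constructor
    intro x
    obtain ⟨y, rfl⟩ := IsLocalRing.residue_surjective x
    let _ : Algebra Γ(P, ⊤) (P.presheaf.stalk z) := γ.hom.toAlgebra
    have hloc : IsLocalization.AtPrime (P.presheaf.stalk z)
        ((isAffineOpen_top P).primeIdealOf ⟨z, trivial⟩).asIdeal :=
      (isAffineOpen_top P).isLocalization_stalk ⟨z, trivial⟩
    obtain ⟨a, s, rfl⟩ := IsLocalization.exists_mk'_eq
      ((isAffineOpen_top P).primeIdealOf ⟨z, trivial⟩).asIdeal.primeCompl y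
    have h1 := congrArg (IsLocalRing.residue (P.presheaf.stalk z))
      (IsLocalization.mk'_spec (P.presheaf.stalk z) a s)
    rw [map_mul] at h1
    have h2 : IsUnit (IsLocalRing.residue (P.presheaf.stalk z)
        (algebraMap Γ(P, ⊤) (P.presheaf.stalk z) s)) :=
      (IsLocalization.map_units (P.presheaf.stalk z) s).map _
    rw [← eq_div_iff h2.ne_zero] at h1
    rw [h1]
    exact (hint a).isAlgebraic.mul (hint s).isAlgebraic.inv
  exact Algebra.IsAlgebraic.isSepClosed (F := Ω)

include q in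
/-- An étale morphism `t : T ⟶ P` with `P` integral over a separably closed field has a section through any
point `w` over a clopen neighbourhood of `t w`. -/
theorem exists_clopen_section {T : Scheme.{u}} (t : T ⟶ P) [Etale t] (w : T) :
    ∃ (Z : P.Opens) (_ : IsClosed (Z : Set P)) (hw : t w ∈ Z) (s : Z.toScheme ⟶ T),
      s ≫ t = Z.ι ∧ s ⟨t w, hw⟩ = w := by
  obtain ⟨W, hW, σ, hσ, hσw⟩ := Etbase.ZarDense.exists_nhd_section t w
    (isStrictlyHenselianLocalRing_stalk q _)
  obtain ⟨Z, hZ, hwZ, hZW'⟩ := exists_clopen_nhd q W.2 hW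
  have hZW : Z ≤ W := hZW'
  refine ⟨Z, hZ, hwZ, P.homOfLE hZW ≫ σ, ?_, ?_⟩
  · rw [Category.assoc, hσ, Scheme.homOfLE_ι]
  · have h : P.homOfLE hZW (⟨t w, hwZ⟩ : Z) = (⟨t w, hW⟩ : W) := by
      apply W.ι.isOpenEmbedding.injective
      have h1 : (P.homOfLE hZW ≫ W.ι) (⟨t w, hwZ⟩ : Z) = Z.ι (⟨t w, hwZ⟩ : Z) := by
        rw [Scheme.homOfLE_ι]
      exact h1
    exact (congrArg σ h).trans hσw

end Field

section Partition

variable {P : Scheme.{u}} [CompactSpace P]

/-- Clopen covers of a quasi-compact scheme have finite refinements by partitions. -/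
theorem exists_partition (Z : P → P.Opens) (hZ : ∀ z, IsClosed (Z z : Set P)) (hz : ∀ z, z ∈ Z z) :
    ∃ (n : ℕ) (z : Fin n → P) (D : Fin n → P.Opens), (∀ i, D i ≤ Z (z i)) ∧
      (∀ i j, i ≠ j → Disjoint (D i) (D j)) ∧ ∀ y : P, ∃ i, y ∈ D i := by
  obtain ⟨t, ht⟩ := isCompact_univ.elim_finite_subcover (fun z => (Z z : Set P)) (fun z => (Z z).2)
    (fun z _ => Set.mem_iUnion.2 ⟨z, hz z⟩)
  let n := t.card
  let e : Fin n ≃ t := t.equivFin.symm
  let D : Fin n → P.Opens := fun i =>
    ⟨(Z (e i)) \ ⋃ j : {j : Fin n // j < i}, (Z (e j.1) : Set P), (Z (e i)).2.sdiff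
      (isClosed_iUnion_of_finite (fun j => hZ _))⟩
  refine ⟨n, fun i => e i, D, fun i y hy => hy.1, ?_, ?_⟩
  · have : ∀ i j, i < j → Disjoint (D i) (D j) := by
      intro i j hij
      rw [disjoint_iff, ← le_bot_iff]
      rintro y ⟨h₁, h₂⟩
      exact (h₂.2 (Set.mem_iUnion.2 ⟨⟨i, hij⟩, h₁.1⟩)).elim
    intro i j hij
    rcases lt_or_gt_of_ne hij with h | h
    · exact this i j h
    · exact (this j i h).symm
  · intro y
    have hy : ∃ i : Fin n, y ∈ Z (e i) := by
      obtain ⟨z, hz⟩ := Set.mem_iUnion.1 (ht (Set.mem_univ y))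
      obtain ⟨hzt, hz⟩ := Set.mem_iUnion.1 hz
      exact ⟨e.symm ⟨z, hzt⟩, by simpa using hz⟩
    classical
    let s : Finset (Fin n) := Finset.univ.filter (fun i => y ∈ Z (e i))
    have hs : s.Nonempty := by
      obtain ⟨i, hi⟩ := hy
      exact ⟨i, by simpa [s] using hi⟩
    refine ⟨s.min' hs, ?_, ?_⟩
    · have := Finset.min'_mem s hs
      simpa [s] using this
    · rintro h
      obtain ⟨⟨j, hj⟩, h⟩ := Set.mem_iUnion.1 h
      have : s.min' hs ≤ j := Finset.min'_le s j (by simpa [s] using h)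
      exact absurd hj (not_lt.2 this)

omit [CompactSpace P] in
/-- Morphisms on the members of a partition into open subsets glue. -/
theorem exists_glue_of_disjoint {V : Scheme.{u}} {ι : Type} (D : ι → P.Opens)
    (hD : ∀ i j, i ≠ j → Disjoint (D i) (D j)) (hc : ∀ y : P, ∃ i, y ∈ D i)
    (κ : ∀ i, (D i).toScheme ⟶ V) : ∃ σ : P ⟶ V, ∀ i, (D i).ι ≫ σ = κ i := by
  have hcov : TopologicalSpace.IsOpenCover D := by
    rw [TopologicalSpace.IsOpenCover, eq_top_iff]
    intro y _
    obtain ⟨i, hi⟩ := hc y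
    exact TopologicalSpace.Opens.mem_iSup.2 ⟨i, hi⟩
  refine ⟨(P.openCoverOfIsOpenCover D hcov).glueMorphisms κ ?_, fun i =>
    (P.openCoverOfIsOpenCover D hcov).ι_glueMorphisms κ _ i⟩
  intro i j
  by_cases hij : i = j
  · subst hij
    have : Mono ((P.openCoverOfIsOpenCover D hcov).f i) :=
      inferInstanceAs (Mono (D i).ι)
    congr 1
    rw [← cancel_mono ((P.openCoverOfIsOpenCover D hcov).f i), pullback.condition]
  · have : IsEmpty ↥(pullback ((P.openCoverOfIsOpenCover D hcov).f i)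
        ((P.openCoverOfIsOpenCover D hcov).f j)) := by
      constructor
      intro y
      have h1 : (pullback.fst ((P.openCoverOfIsOpenCover D hcov).f i)
        ((P.openCoverOfIsOpenCover D hcov).f j) ≫ (D i).ι) y ∈ D i :=
        (pullback.fst ((P.openCoverOfIsOpenCover D hcov).f i)
          ((P.openCoverOfIsOpenCover D hcov).f j) y).2
      have h2 : (pullback.fst ((P.openCoverOfIsOpenCover D hcov).f i)
        ((P.openCoverOfIsOpenCover D hcov).f j) ≫ (D i).ι) y ∈ D j := by
        have := (pullback.snd ((P.openCoverOfIsOpenCover D hcov).f i)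
          ((P.openCoverOfIsOpenCover D hcov).f j) y).2
        have h3 : pullback.fst ((P.openCoverOfIsOpenCover D hcov).f i)
          ((P.openCoverOfIsOpenCover D hcov).f j) ≫ (D i).ι = pullback.snd _ _ ≫ (D j).ι :=
          pullback.condition
        rw [h3]
        exact this
      exact (disjoint_iff.1 (hD i j hij)).le ⟨h1, h2⟩
    exact isInitialOfIsEmpty.hom_ext _ _

end Partition

end Groth.Agent.Sga4A.IntSplit
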