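import Groth.Agent.Sga4A.QC

/-!
# Descent along jointly surjective families in `Sheaf J (Type u)`

* `exists_desc`: a jointly surjective family `π i : F i ⟶ X` is effective: maps `t i : F i ⟶ T` which agree on
  sections with the same image in `X` descend to a map `X ⟶ T`.
* `exists_desc_pullback`: the same with compatibility tested on (arbitrary) pullback squares.
-/

set_option autoImplicit false

universe w w' u

open CategoryTheory CategoryTheory.Limits Opposite ToposFin

namespace Groth.Agent.Sga4A.JSDesc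

open Groth.Agent.Sga4A.QC

variable {C : Type u} [SmallCategory C] {J : GrothendieckTopology C}

lemma sieve_mem {ι : Type w} {X : Sh J} {F : ι → Sh J} {π : ∀ i, F i ⟶ X} (h : JS π) {U : C}
    (s : X.obj.obj (op U)) : (imSub π).sieveOfSection s ∈ J U := by
  obtain ⟨S, hS, h⟩ := h U s
  refine J.superset_covering ?_ hS
  intro V g hg
  exact h V g hg

lemma exists_unique_elt {ι : Type w} {X : Sh J} {F : ι → Sh J} {π : ∀ i, F i ⟶ X} (h : JS π)
    {T : Sh J} (t : ∀ i, F i ⟶ T)
    (ht : ∀ (i j : ι) (U : C) (x : (F i).obj.obj (op U)) (y : (F j).obj.obj (op U)),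
      (π i).hom.app (op U) x = (π j).hom.app (op U) y → (t i).hom.app (op U) x = (t j).hom.app (op U) y)
    (U : C) (s : X.obj.obj (op U)) :
    ∃ a : T.obj.obj (op U), ∀ (V : C) (g : V ⟶ U) (i : ι) (x : (F i).obj.obj (op V)),
      (π i).hom.app (op V) x = X.obj.map g.op s → (t i).hom.app (op V) x = T.obj.map g.op a := by
  have hT := (isSheaf_iff_isSheaf_of_type _ _).1 T.2
  have hS := sieve_mem h s
  choose i x hx using (fun (V : C) (g : V ⟶ U) (hg : (imSub π).sieveOfSection s g) => hg)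
  let fam : Presieve.FamilyOfElements T.obj ((imSub π).sieveOfSection s).arrows :=
    fun V g hg => (t (i V g hg)).hom.app (op V) (x V g hg)
  have hfam : fam.Compatible := by
    intro Y₁ Y₂ Z g₁ g₂ f₁ f₂ h₁ h₂ e
    have e₁ := NatTrans.naturality_apply (t (i Y₁ f₁ h₁)).hom g₁.op (x Y₁ f₁ h₁)
    have e₂ := NatTrans.naturality_apply (t (i Y₂ f₂ h₂)).hom g₂.op (x Y₂ f₂ h₂)
    refine e₁.symm.trans (Eq.trans ?_ e₂)
    apply ht
    have e₃ := NatTrans.naturality_apply (π (i Y₁ f₁ h₁)).hom g₁.op (x Y₁ f₁ h₁)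
    have e₄ := NatTrans.naturality_apply (π (i Y₂ f₂ h₂)).hom g₂.op (x Y₂ f₂ h₂)
    rw [e₃, e₄, hx, hx, ← Functor.map_comp_apply, ← Functor.map_comp_apply, ← op_comp, ← op_comp, e]
  refine ⟨(hT _ hS).amalgamate fam hfam, ?_⟩
  intro V g j y hy
  have hg : (imSub π).sieveOfSection s g := ⟨j, y, hy⟩
  have := (hT _ hS).valid_glue hfam g hg
  rw [this]
  apply ht
  rw [hy, hx]

/-- A jointly surjective family is effective. -/
theorem exists_desc {ι : Type w} {X : Sh J} {F : ι → Sh J} {π : ∀ i, F i ⟶ X} (h : JS π)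
    {T : Sh J} (t : ∀ i, F i ⟶ T)
    (ht : ∀ (i j : ι) (U : C) (x : (F i).obj.obj (op U)) (y : (F j).obj.obj (op U)),
      (π i).hom.app (op U) x = (π j).hom.app (op U) y → (t i).hom.app (op U) x = (t j).hom.app (op U) y) :
    ∃ s : X ⟶ T, ∀ i, π i ≫ s = t i := by
  have hT := (isSheaf_iff_isSheaf_of_type _ _).1 T.2
  choose a ha using exists_unique_elt h t ht
  refine ⟨⟨{ app := fun U => ↾(a U.unop), naturality := ?_ }⟩, ?_⟩
  · rintro ⟨U⟩ ⟨V⟩ ⟨g⟩
    change V ⟶ U at g
    ext s
    apply (hT.isSeparated _ (sieve_mem h (X.obj.map g.op s))).ext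
    rintro W f ⟨i, x, hx⟩
    have e₁ := ha V (X.obj.map g.op s) W f i x hx
    have e₂ := ha U s W (f ≫ g) i x (by rw [hx]; simp)
    have e₃ : T.obj.map f.op (T.obj.map g.op (a U s)) = (t i).hom.app (op W) x := by
      rw [e₂]; simp
    exact e₁.symm.trans e₃.symm
  · intro i
    ext ⟨U⟩ x
    have := ha U ((π i).hom.app (op U) x) U (𝟙 U) i x (by simp)
    simpa using this.symm

/-- A jointly surjective family is effective: compatibility tested on pullback squares. -/
theorem exists_desc_pullback {ι : Type w} {X : Sh J} {F : ι → Sh J} {π : ∀ i, F i ⟶ X} (h : JS π)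
    {T : Sh J} (t : ∀ i, F i ⟶ T) {P : ι → ι → Sh J} {p : ∀ i j, P i j ⟶ F i} {q : ∀ i j, P i j ⟶ F j}
    (hP : ∀ i j, IsPullback (p i j) (q i j) (π i) (π j)) (ht : ∀ i j, p i j ≫ t i = q i j ≫ t j) :
    ∃ s : X ⟶ T, ∀ i, π i ≫ s = t i := by
  apply exists_desc h
  intro i j U x y hxy
  obtain ⟨z, rfl, rfl⟩ := exists_section_of_isPullback (hP i j) x y hxy
  exact ConcreteCategory.congr_hom (congr_app ((sheafToPresheaf J _).congr_map (ht i j)) (op U)) z

end Groth.Agent.Sga4A.JSDesc
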