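import Mathlib.CategoryTheory.Functor.KanExtension.Adjunction
import Mathlib.CategoryTheory.Adjunction.Whiskering
import Mathlib.AlgebraicTopology.SimplicialObject.Coskeletal
import Mathlib.AlgebraicTopology.SimplicialSet.Boundary

/-!
# Right adjoints preserve (non pointwise) right Kan extensions; coskeleta after a right adjoint to sets

* `bijective_postcomp` : if `(F', α)` is a right Kan extension of `F` along `L` and `G` has a left adjoint, then
  `Hom(X, F' ⋙ G) → Hom(L ⋙ X, F ⋙ G)` is bijective for every `X`.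
* `isIso_truncation_boundary_ι` : the inclusion `∂Δ[m] → Δ[m]` is an isomorphism on `n`-truncations for `n < m`.
-/

set_option autoImplicit false

universe u v₁ v₂ v₃ v₄ u₁ u₂ u₃ u₄

open CategoryTheory Opposite Simplicial

namespace Groth.Agent.Sga4A.KanPost

section Kan

variable {A : Type u₁} [Category.{v₁} A] {B : Type u₂} [Category.{v₂} B]
  {D : Type u₃} [Category.{v₃} D] {E : Type u₄} [Category.{v₄} E]
  {T : E ⥤ D} {G : D ⥤ E} (adj : T ⊣ G)
  {L : A ⥤ B} {F : A ⥤ D} (F' : B ⥤ D) (α : L ⋙ F' ⟶ F) [F'.IsRightKanExtension α]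

/-- The comparison map `Hom(X, F' ⋙ G) → Hom(L ⋙ X, F ⋙ G)`. -/
def compar (G : D ⥤ E) (X : B ⥤ E) (γ : X ⟶ F' ⋙ G) : L ⋙ X ⟶ F ⋙ G :=
  Functor.whiskerLeft L γ ≫ (Functor.associator L F' G).inv ≫ Functor.whiskerRight α G

omit [F'.IsRightKanExtension α] in
@[simp]
lemma compar_app (X : B ⥤ E) (γ : X ⟶ F' ⋙ G) (a : A) :
    (compar F' α G X γ).app a = γ.app (L.obj a) ≫ G.map (α.app a) := by
  simp [compar]

lemma whiskerRight_homEquiv_app (X : B ⥤ E) (Y : B ⥤ D) (δ : X ⋙ T ⟶ Y) (b : B) :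
    ((adj.whiskerRight B).homEquiv X Y δ).app b = adj.unit.app (X.obj b) ≫ G.map (δ.app b) := by
  have := congr_app (Adjunction.homEquiv_unit (adj := adj.whiskerRight B) (f := δ)) b
  refine this.trans ?_
  simp [Adjunction.whiskerRight]

include adj in
lemma bijective_compar (X : B ⥤ E) : Function.Bijective (compar F' α G X) := by
  let e₁ : (X ⋙ T ⟶ F') ≃ (X ⟶ F' ⋙ G) := (adj.whiskerRight B).homEquiv X F'
  let e₂ : (X ⋙ T ⟶ F') ≃ (L ⋙ (X ⋙ T) ⟶ F) := F'.homEquivOfIsRightKanExtension α (X ⋙ T)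
  let e₃ : ((L ⋙ X) ⋙ T ⟶ F) ≃ (L ⋙ X ⟶ F ⋙ G) := (adj.whiskerRight A).homEquiv (L ⋙ X) F
  have key : ∀ δ : X ⋙ T ⟶ F', compar F' α G X (e₁ δ) = e₃ (e₂ δ) := by
    intro δ
    ext a
    rw [compar_app]
    refine (congrArg (· ≫ _) (whiskerRight_homEquiv_app adj X F' δ (L.obj a))).trans ?_
    refine Eq.trans ?_ (whiskerRight_homEquiv_app adj (L ⋙ X) F (e₂ δ) a).symm
    simp [e₂]
  have : compar F' α G X = e₃ ∘ e₂ ∘ e₁.symm := by
    ext1 γ
    obtain ⟨δ, rfl⟩ := e₁.surjective γ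
    rw [key]
    simp
  rw [this]
  exact e₃.bijective.comp (e₂.bijective.comp e₁.symm.bijective)

end Kan

section Boundary

lemma isIso_boundary_ι_app (m : ℕ) (k : ℕ) (h : k < m) :
    IsIso ((SSet.boundary.{u} m).ι.app (op ⦋k⦌)) := by
  rw [isIso_iff_bijective]
  constructor
  · intro x y hxy
    exact Subtype.ext hxy
  · intro x
    refine ⟨⟨x, ?_⟩, rfl⟩
    rw [SSet.boundary_obj_eq_univ k m h]
    trivial

instance isIso_truncation_boundary_ι (m n : ℕ) [h : Fact (n < m)] :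
    IsIso (Functor.whiskerLeft (SimplexCategory.Truncated.inclusion n).op (SSet.boundary.{u} m).ι) := by
  rw [NatTrans.isIso_iff_isIso_app]
  rintro ⟨⟨⟨k⟩, hk⟩⟩
  exact isIso_boundary_ι_app m k (lt_of_le_of_lt hk h.out)

end Boundary

end Groth.Agent.Sga4A.KanPost
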