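import Groth.Agent.Sga4A.PbcAb
import Groth.Agent.EtpbcA.EqLocus
import Mathlib.AlgebraicGeometry.Morphisms.UniversallyClosed

/-!
# Sections over a geometric fibre, for sheaves of sets
-/

set_option autoImplicit false
universe u

open CategoryTheory CategoryTheory.Limits AlgebraicGeometry Opposite

namespace Groth.Agent.Sga4A.PbcSet

open Groth.Agent.Sga4A.EtStalk Groth.Agent.Sga4A.FreeAbEt Groth.Agent.Sga4A.PbcAb EtDesc

section Locus

variable {X : Scheme.{u}} (G : Sh X)

/-- The locus where a section of `ℤ[G]` comes from `G`. -/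
def incLocus {U : X.Etale} (a : EtCoh.sect (ZZ G) U) : Set U.left :=
  {x | ∃ (V : X.Etale) (g : V ⟶ U) (v : V.left) (c : sect G V), g.left v = x ∧
    inc G V c = (ZZ G).obj.map g.op a}

theorem isOpen_incLocus {U : X.Etale} (a : EtCoh.sect (ZZ G) U) : IsOpen (incLocus G a) := by
  rw [isOpen_iff_forall_mem_open]
  rintro x ⟨V, φ, v, c, hv, hφ⟩
  refine ⟨Set.range φ.left.base, ?_, ?_, ⟨v, hv⟩⟩
  · rintro _ ⟨w, rfl⟩
    exact ⟨V, φ, w, c, rfl, hφ⟩
  · have : AlgebraicGeometry.Etale φ.left := inferInstance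
    exact (AlgebraicGeometry.Scheme.Hom.isOpenMap φ.left).isOpen_range

theorem exists_inc_of_range_subset {U V : X.Etale} (g : V ⟶ U) (a : EtCoh.sect (ZZ G) U)
    (h : Set.range g.left ⊆ incLocus G a) : ∃ c : sect G V, inc G V c = (ZZ G).obj.map g.op a := by
  have hres : ∀ (V' W : X.Etale) (g' : V' ⟶ V) (k : W ⟶ V') (s : sect G V'),
      inc G V' s = (ZZ G).obj.map (g' ≫ g).op a →
      inc G W (G.obj.map k.op s) = (ZZ G).obj.map ((k ≫ g') ≫ g).op a := by
    intro V' W g' k s hs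
    rw [inc_map, hs, map_map_sect, Category.assoc]
  obtain ⟨c, hc⟩ := exists_glue G V (fun V' g' s => inc G V' s = (ZZ G).obj.map (g' ≫ g).op a)
    hres
    (fun V' g' s t hs ht => inc_injective G V' (hs.trans ht.symm))
    (fun x => by
      obtain ⟨W, ψ, w, c, hw, hψ⟩ := h ⟨x, rfl⟩
      obtain ⟨P, a', b', p, hab, ha, hb⟩ := Etbase.EtSite.exists_pullback g ψ x w hw.symm
      refine ⟨P, a', p, G.obj.map b'.op c, ha, ?_⟩
      rw [inc_map, hψ, map_map_sect, hab])
  refine ⟨c, ?_⟩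
  refine Etbase.EtSite.sect_ext (ZZ G) V _ _ (fun x => ?_)
  obtain ⟨W, ψ, w, c', hw, hψ⟩ := h ⟨x, rfl⟩
  obtain ⟨P, a', b', p, hab, ha, hb⟩ := Etbase.EtSite.exists_pullback g ψ x w hw.symm
  have h1 : inc G P (G.obj.map b'.op c') = (ZZ G).obj.map (a' ≫ g).op a := by
    rw [inc_map, hψ, map_map_sect, hab]
  refine ⟨P, a', p, ha, ?_⟩
  rw [← inc_map, hc P a' _ h1, h1, map_map_sect]

end Locus

section Fibre

variable {Y X : Scheme.{u}} (g : Y ⟶ X) (G : Sh X)

theorem unitA_map (A : EtCoh.Ab X) {U V : X.Etale} (k : V ⟶ U) (a : EtCoh.sect A U) :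
    unitA g A V (A.obj.map k.op a) =
      ((EtCoh.pull g).obj A).obj.map ((EtCoh.bc g).map k).op (unitA g A U a) :=
  ConcreteCategory.congr_hom (((EtCoh.pullPushAdj g).unit.app A).hom.naturality k.op) a

/-- If a section of `ℤ[G]` over `U` becomes, over `Y ⟶ U`, the class of a section of `g^* G`, then
the image of `Y` is contained in the locus where the section comes from `G`. -/
theorem mem_incLocus {U : X.Etale} (a : EtCoh.sect (ZZ G) U) (r : EtCoh.top Y ⟶ (EtCoh.bc g).obj U)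
    (s : sect ((pullSh g).obj G) (EtCoh.top Y))
    (h : cmpS g G _ s = ((EtCoh.pull g).obj (ZZ G)).obj.map r.op (unitA g (ZZ G) U a)) (y : Y) :
    bcFst g U (r.left y) ∈ incLocus G a := by
  obtain ⟨Ω, _, _, η, hη⟩ := exists_geomPoint Y y
  obtain ⟨τ, hτ⟩ := (pullStk g G η).surjective (germTop _ η s)
  obtain ⟨V, m, hm, c, rfl⟩ := exists_germ G τ
  have rw1 : r.left ≫ ((EtCoh.bc g).obj U).hom = 𝟙 _ := Over.w r.hom
  let k : Spec (.of Ω) ⟶ U.left := topPt η ≫ r.left ≫ bcFst g U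
  have hk : k ≫ U.hom = η ≫ g := by
    have e1 : (r.left ≫ bcFst g U) ≫ U.hom = g := by
      rw [Category.assoc, bc_condition]
      exact (Category.assoc _ _ _).symm.trans ((congrArg (· ≫ g) rw1).trans (Category.id_comp _))
    exact (Category.assoc _ _ _).trans (congrArg (topPt η ≫ ·) e1)
  obtain ⟨W, a1, b1, n, hn, hna, hnb⟩ := exists_common_nhd k hk m hm
  rw [← germ_res' G b1 n hn m hm hnb, pullStk_germ, germTop, germ_eq_germ_iff] at hτ
  obtain ⟨Q, α, β, q, hq, hqα, hqβ, e⟩ := hτ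
  have e1 : ((EtCoh.pull g).obj (ZZ G)).obj.map α.op
      (unitA g (ZZ G) W (inc G W (G.obj.map b1.op c))) =
      ((EtCoh.pull g).obj (ZZ G)).obj.map (β ≫ r).op (unitA g (ZZ G) U a) := by
    rw [← map_map_sect, ← h, ← cmpS_map, ← e, cmpS_map]
    exact congrArg _ (cmpS_unitS g G W _).symm
  have hqr : q ≫ (β ≫ r).left = q ≫ (α ≫ (EtCoh.bc g).map a1).left := by
    apply hom_ext_bc
    · have t1 : (q ≫ (β ≫ r).left) ≫ bcFst g U = k := by
        change (q ≫ β.left ≫ r.left) ≫ bcFst g U = k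
        refine (Category.assoc _ _ _).trans ?_
        refine (congrArg (q ≫ ·) (Category.assoc _ _ _)).trans ?_
        refine (Category.assoc _ _ _).symm.trans ?_
        exact congrArg (· ≫ r.left ≫ bcFst g U) hqβ
      have t2 : (q ≫ (α ≫ (EtCoh.bc g).map a1).left) ≫ bcFst g U = k := by
        change (q ≫ α.left ≫ ((EtCoh.bc g).map a1).left) ≫ bcFst g U = k
        rw [Category.assoc, Category.assoc, bc_map_fst, ← Category.assoc q, hqα, bcPt_fst_assoc,
          hna]
      exact t1.trans t2.symm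
    · have t1 : (q ≫ (β ≫ r).left) ≫ ((EtCoh.bc g).obj U).hom = q ≫ Q.hom :=
        (Category.assoc _ _ _).trans (congrArg (q ≫ ·) (Over.w (β ≫ r).hom))
      have t2 : (q ≫ (α ≫ (EtCoh.bc g).map a1).left) ≫ ((EtCoh.bc g).obj U).hom = q ≫ Q.hom :=
        (Category.assoc _ _ _).trans (congrArg (q ≫ ·) (Over.w (α ≫ (EtCoh.bc g).map a1).hom))
      exact t1.trans t2.symm
  -- germs in the abelian sheaf
  let Qp : (Scheme.pointSmallEtale η).fiber.obj Q := Etcore.StalkSec.mkLift η q hq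
  let np : (Scheme.pointSmallEtale (η ≫ g)).fiber.obj W := Etcore.StalkSec.mkLift (η ≫ g) n hn
  have e2 : (Scheme.pointSmallEtale η).fiber.map α Qp = GermPullEt.liftBc g η W np :=
    Etcore.StalkSec.ext_hom _ _ _ hqα
  have e3 : (Scheme.pointSmallEtale η).fiber.map (β ≫ r) Qp =
      (Scheme.pointSmallEtale η).fiber.map (α ≫ (EtCoh.bc g).map a1) Qp :=
    Etcore.StalkSec.ext_hom _ _ _ hqr
  have e4 : Etcore.StalkSec.germ η ((EtCoh.pull g).obj (ZZ G)) ((EtCoh.bc g).obj W)
      (GermPullEt.liftBc g η W np) (unitA g (ZZ G) W (inc G W (G.obj.map b1.op c))) =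
      Etcore.StalkSec.germ η ((EtCoh.pull g).obj (ZZ G)) ((EtCoh.bc g).obj W)
      (GermPullEt.liftBc g η W np) (unitA g (ZZ G) W ((ZZ G).obj.map a1.op a)) := by
    rw [← e2, ← Etcore.StalkSec.germ_res, e1, Etcore.StalkSec.germ_res, e3,
      ← Etcore.StalkSec.germ_res, ← map_map_sect, ← unitA_map, Etcore.StalkSec.germ_res]
  rw [← GermPullEt.stalkPullIso_germ, ← GermPullEt.stalkPullIso_germ] at e4
  have e5 := (ConcreteCategory.bijective_of_isIso
    ((Etbase.StalkPull.stalkPullIso g η).hom.app (ZZ G))).1 e4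
  obtain ⟨W', k', y', hy', e6⟩ := (Etcore.StalkSec.germ_eq_iff _ _ _ _ _ _).1 e5
  refine ⟨W', k' ≫ a1, Etcore.StalkSec.pt _ y', G.obj.map k'.op (G.obj.map b1.op c), ?_, ?_⟩
  · have h1 : k'.left (Etcore.StalkSec.pt _ y') = n default := by
      rw [← Etcore.StalkSec.pt_map, hy']
      rfl
    change a1.left (k'.left (Etcore.StalkSec.pt _ y')) = _
    rw [h1]
    have h2 : a1.left (n default) = (n ≫ a1.left) default := rfl
    rw [h2, hna, ← hη]
    rfl
  · rw [inc_map, e6, map_map_sect]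

end Fibre

section Shrink

variable {X' X : Scheme.{u}} (f : X' ⟶ X) {Ω : Type u} [Field Ω]

/-- Points of `U ×_X X'` over the geometric point come from the geometric fibre. -/
theorem exists_fibInc (ξ : Spec (.of Ω) ⟶ X) {U : X.Etale} (l : Spec (.of Ω) ⟶ U.left)
    (hl : l ≫ U.hom = ξ) (w : ((EtCoh.bc f).obj U).left) (hw : bcFst f U w = l default) :
    ∃ p : ↥(pullback f ξ), fibInc f ξ l hl p = w := by
  obtain ⟨z, hz1, hz2⟩ := Scheme.Pullback.exists_preimage_pullback
    (f := bcFst f U) (g := l) w default hw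
  let k : pullback (bcFst f U) l ⟶ pullback f ξ :=
    pullback.lift (pullback.fst _ _ ≫ ((EtCoh.bc f).obj U).hom) (pullback.snd _ _)
      (by rw [Category.assoc, ← bc_condition, pullback.condition_assoc, hl])
  have hk : k ≫ fibInc f ξ l hl = pullback.fst _ _ := by
    apply hom_ext_bc
    · rw [Category.assoc, fibInc_fst, pullback.lift_snd_assoc, pullback.condition]
    · rw [Category.assoc, fibInc_hom, pullback.lift_fst]
  refine ⟨k z, ?_⟩
  rw [← hz1, ← hk]
  rfl

/-- Shrinking an étale neighbourhood of a geometric point for a universally closed morphism. -/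
theorem exists_shrink [UniversallyClosed f] {U : X.Etale} (l : Spec (.of Ω) ⟶ U.left)
    (W : Set ((EtCoh.bc f).obj U).left) (hW : IsOpen W)
    (hfib : ∀ w, bcFst f U w = l default → w ∈ W) :
    ∃ (U' : X.Etale) (i : U' ⟶ U) (l' : Spec (.of Ω) ⟶ U'.left), l' ≫ i.left = l ∧
      Set.range ((EtCoh.bc f).map i).left ⊆ W := by
  have huc : UniversallyClosed (pullback.fst U.hom f) := inferInstance
  have hcl : IsClosedMap (bcFst f U) := Scheme.Hom.isClosedMap (pullback.fst U.hom f)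
  let O : U.left.Opens := ⟨((bcFst f U) '' Wᶜ)ᶜ, (hcl _ hW.isClosed_compl).isOpen_compl⟩
  have hlO : Set.range l ⊆ Set.range O.ι := by
    rw [Scheme.Opens.range_ι O]
    rintro _ ⟨t, rfl⟩
    have : t = default := Subsingleton.elim _ _
    subst this
    rintro ⟨w, hw, hwl⟩
    exact hw (hfib w hwl)
  refine ⟨EtpbcA.EqLocus.openSub U O, EtpbcA.EqLocus.openι U O,
    IsOpenImmersion.lift (X := (O : Scheme.{u})) O.ι l hlO,
    IsOpenImmersion.lift_fac (X := (O : Scheme.{u})) O.ι l _, ?_⟩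
  rintro _ ⟨w', rfl⟩
  by_contra hw
  have h1 : bcFst f U (((EtCoh.bc f).map (EtpbcA.EqLocus.openι U O)).left w') ∈ O := by
    have h2 : bcFst f U (((EtCoh.bc f).map (EtpbcA.EqLocus.openι U O)).left w') =
        (EtpbcA.EqLocus.openι U O).left (bcFst f _ w') := by
      change (((EtCoh.bc f).map (EtpbcA.EqLocus.openι U O)).left ≫ bcFst f U) w' = _
      rw [bc_map_fst]
      rfl
    rw [h2]
    exact (EtpbcA.EqLocus.range_openι U O).le (Set.mem_range_self _)
  exact h1 ⟨_, hw, rfl⟩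

end Shrink

section Main

variable {X' X : Scheme.{u}} (f : X' ⟶ X) {Ω : Type u} [Field Ω] [IsSepClosed Ω]
  (ξ : Spec (.of Ω) ⟶ X)

omit [IsSepClosed Ω] in
theorem fibSec_map {U V : X.Etale} (i : V ⟶ U) (l : Spec (.of Ω) ⟶ U.left) (hl : l ≫ U.hom = ξ)
    (m : Spec (.of Ω) ⟶ V.left) (hm : m ≫ V.hom = ξ) (h : m ≫ i.left = l) :
    fibSec f ξ m hm ≫ (EtCoh.bc (pullback.fst f ξ)).map ((EtCoh.bc f).map i) =
      fibSec f ξ l hl := by
  apply fibSec_unique
  have e : (fibSec f ξ m hm ≫ (EtCoh.bc (pullback.fst f ξ)).map ((EtCoh.bc f).map i)).left =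
    (fibSec f ξ m hm).left ≫ ((EtCoh.bc (pullback.fst f ξ)).map ((EtCoh.bc f).map i)).left := rfl
  rw [e, Category.assoc, bc_map_fst_assoc, bc_map_fst]
  have e2 := fibSec_fst f ξ m hm
  refine (Category.assoc _ _ _).symm.trans ?_
  refine (congrArg (· ≫ bcFst f V ≫ i.left) e2).trans ?_
  have e3 : fibInc f ξ m hm ≫ bcFst f V ≫ i.left = pullback.snd f ξ ≫ l := by
    rw [fibInc_fst_assoc, h]
  exact e3

/-- Sections over the geometric fibre of the inverse image of a sheaf of sets extend to an étale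
neighbourhood, for a universally closed morphism satisfying abelian degree zero base change. -/
theorem exists_section_of_universallyClosed [UniversallyClosed f] (G : Sh X')
    (hbc : IsIso (EtCoh.baseChange0 f ξ (pullback.snd f ξ) (pullback.fst f ξ)
      pullback.condition (ZZ G)))
    (s : sect ((pullSh (pullback.fst f ξ)).obj G) (EtCoh.top (pullback f ξ))) :
    ∃ (U : X.Etale) (l : Spec (.of Ω) ⟶ U.left) (hl : l ≫ U.hom = ξ)
      (b : sect G ((EtCoh.bc f).obj U)),
      ((pullSh (pullback.fst f ξ)).obj G).obj.map (fibSec f ξ l hl).op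
        (pullSect (pullback.fst f ξ) G b) = s := by
  obtain ⟨U, l, hl, a, ha⟩ := exists_section_of_isIso f ξ (ZZ G)
    (cmpS (pullback.fst f ξ) G _ s)
  obtain ⟨U', i, l', hl', hW⟩ := exists_shrink f l (incLocus G a) (isOpen_incLocus G a) (by
    intro w hw
    obtain ⟨p, rfl⟩ := exists_fibInc f ξ l hl w hw
    rw [← fibSec_fst]
    exact mem_incLocus (pullback.fst f ξ) G a (fibSec f ξ l hl) s ha.symm p)
  have hlU' : l' ≫ U'.hom = ξ := by
    rw [← hl, ← hl', Category.assoc]
    exact congrArg (l' ≫ ·) (Over.w i.hom).symm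
  obtain ⟨b, hb⟩ := exists_inc_of_range_subset G ((EtCoh.bc f).map i) a hW
  refine ⟨U', l', hlU', b, ?_⟩
  apply cmpS_injective
  rw [cmpS_map]
  have e1 := cmpS_unitS (pullback.fst f ξ) G _ b
  refine (congrArg _ e1).trans ?_
  rw [hb, unitA_map, map_map_sect, fibSec_map f ξ i l hl l' hlU' hl']
  exact ha

omit [IsSepClosed Ω] in
/-- The germs of a section over the geometric fibre which comes from an étale neighbourhood. -/
theorem germTop_map_fibSec {Ω' : Type u} [Field Ω'] [IsSepClosed Ω'] (G : Sh X') {U : X.Etale}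
    (l : Spec (.of Ω) ⟶ U.left) (hl : l ≫ U.hom = ξ) (b : sect G ((EtCoh.bc f).obj U))
    (η : Spec (.of Ω') ⟶ pullback f ξ) :
    germTop _ η (((pullSh (pullback.fst f ξ)).obj G).obj.map (fibSec f ξ l hl).op
        (pullSect (pullback.fst f ξ) G b)) =
      pullStk (pullback.fst f ξ) G η (germ G (η ≫ fibInc f ξ l hl)
        (by rw [Category.assoc, fibInc_hom]) b) := by
  rw [pullStk_germ]
  refine germ_res' _ _ _ _ _ _ ?_ _
  apply hom_ext_bc
  · rw [bcPt_fst]
    exact (Category.assoc _ _ _).trans (congrArg (topPt η ≫ ·) (fibSec_fst f ξ l hl))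
  · rw [bcPt_hom]
    refine (Category.assoc _ _ _).trans ?_
    exact (congrArg (topPt η ≫ ·) (Over.w (fibSec f ξ l hl).hom)).trans (Category.comp_id _)

/-- Germ form of `exists_section_of_universallyClosed`. -/
theorem exists_section_germ [UniversallyClosed f] (G : Sh X')
    (hbc : IsIso (EtCoh.baseChange0 f ξ (pullback.snd f ξ) (pullback.fst f ξ)
      pullback.condition (ZZ G)))
    (s : sect ((pullSh (pullback.fst f ξ)).obj G) (EtCoh.top (pullback f ξ))) :
    ∃ (U : X.Etale) (l : Spec (.of Ω) ⟶ U.left) (hl : l ≫ U.hom = ξ)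
      (b : sect G ((EtCoh.bc f).obj U)),
      ∀ (Ω' : Type u) [Field Ω'] [IsSepClosed Ω'] (η : Spec (.of Ω') ⟶ pullback f ξ),
        germTop _ η s = pullStk (pullback.fst f ξ) G η (germ G (η ≫ fibInc f ξ l hl)
          (by rw [Category.assoc, fibInc_hom]) b) := by
  obtain ⟨U, l, hl, b, hb⟩ := exists_section_of_universallyClosed f ξ G hbc s
  refine ⟨U, l, hl, b, fun Ω' _ _ η => ?_⟩
  rw [← hb]
  exact germTop_map_fibSec f ξ G l hl b η

end Main

end Groth.Agent.Sga4A.PbcSet
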